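import Cfsg.Agent.Lib.FischerTwoFour.Cocode.Coords

/-!
The certificates on the twelve-bit vectors that evaluate the monomial maps and the weights.
-/

set_option autoImplicit false
set_option maxRecDepth 100000
set_option Elab.async false

namespace CfsgLib.FischerTwoFour.Cocode

open Four


/-- The tables are the images of the unit vectors. -/
theorem img_spec : ∀ b, ∀ n : Fin 16, ((List.range 12).all fun j =>
    decide (Rf b n.val (vecOf (2 ^ j)) = vecOf (RC b n.val (2 ^ j)))) = true := by
  decide +kernel

/-- Vectors in the six lines. -/
theorem isT_spec : ∀ b, ((List.range' 1 63).all fun x =>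
    isT b (vecOf (bwC b x)) == memL x 0 && memL x 0 == memL (Nat.xor x 64) 0 &&
      !Nat.beq (bwC b x) 0 && Nat.ble (bwC b x + 1) 4096) = true := by decide +kernel

end CfsgLib.FischerTwoFour.Cocode
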