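import Cfsg.Agent.Lib.FischerTwoFour.Cocode.Data
import Cfsg.Agent.Lib.FischerTwoFour.Cocode.CoordsVec

/-!
The bridge between twelve-bit codes and vectors.
-/

set_option autoImplicit false

namespace CfsgLib.FischerTwoFour.Cocode

open Four

theorem nxor (a b : ℕ) : Nat.xor a b = a ^^^ b := rfl

theorem b2_xor (p q : Bool) : b2 (p ^^ q) = b2 p + b2 q := by cases p <;> cases q <;> decide

theorem vecOf_xor (x y : ℕ) : vecOf (Nat.xor x y) = vecOf x + vecOf y := by
  funext i
  simp only [vecOf, nxor, Nat.testBit_xor, Pi.add_apply, Prod.mk_add_mk, b2_xor]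

theorem vecOf_zero : vecOf 0 = 0 := by
  funext i
  simp [vecOf, b2]

theorem div_two_xor (a b : ℕ) : (a ^^^ b) / 2 = a / 2 ^^^ b / 2 := by
  apply Nat.eq_of_testBit_eq
  intro i
  simp [Nat.testBit_div_two, Nat.testBit_xor]

theorem linC_xor : ∀ (T : List ℕ) (x y : ℕ), linC T (Nat.xor x y) = Nat.xor (linC T x) (linC T y)
  | [], _, _ => by simp [linC]
  | a :: T, x, y => by
    have ih := linC_xor T (x / 2) (y / 2)
    simp only [nxor] at ih ⊢
    simp only [linC, nxor, div_two_xor, ih, Nat.testBit_xor]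
    generalize linC T (x / 2) = p, linC T (y / 2) = q
    cases x.testBit 0 <;> cases y.testBit 0 <;>
      simp [Nat.xor_comm, Nat.xor_left_comm]

theorem linC_zero (T : List ℕ) : linC T 0 = 0 := by
  have h := linC_xor T 0 0
  simp only [nxor, Nat.xor_self] at h
  exact h

theorem linC_lt : ∀ (T : List ℕ) (k : ℕ), (∀ a ∈ T, a < 2 ^ k) → ∀ n, linC T n < 2 ^ k
  | [], k, _, _ => Nat.two_pow_pos k
  | a :: T, k, h, n => by
    simp only [linC]
    refine Nat.xor_lt_two_pow ?_ (linC_lt T k (fun b hb => h b (List.mem_cons_of_mem _ hb)) _)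
    split
    · exact h a List.mem_cons_self
    · exact Nat.two_pow_pos k

theorem xor_lt' {k x y : ℕ} (hx : x < 2 ^ k) (hy : y < 2 ^ k) : Nat.xor x y < 2 ^ k :=
  Nat.xor_lt_two_pow hx hy

/-- Induction on numbers below a power of two by single bits. -/
theorem xor_induction {P : ℕ → Prop} {k : ℕ} (h0 : P 0) (h1 : ∀ j, j < k → P (2 ^ j))
    (h2 : ∀ a b, P a → P b → P (Nat.xor a b)) : ∀ n, n < 2 ^ k → P n := by
  induction k with
  | zero => intro n hn; obtain rfl : n = 0 := by simpa using hn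
            exact h0
  | succ k ih =>
    intro n hn
    have ih' := ih fun j hj => h1 j (hj.trans (Nat.lt_succ_self k))
    by_cases hk : n.testBit k
    · have hlt : n ^^^ 2 ^ k < 2 ^ k := by
        refine Nat.lt_pow_two_of_testBit _ fun i hi => ?_
        rw [Nat.testBit_xor, Nat.testBit_two_pow]
        rcases Nat.eq_or_lt_of_le hi with rfl | hi'
        · simp [hk]
        · rw [Nat.testBit_eq_false_of_lt (lt_of_lt_of_le hn (Nat.pow_le_pow_right (by norm_num) hi'))]
          simp [hi'.ne]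
      have := h2 _ _ (ih' _ hlt) (h1 k (Nat.lt_succ_self k))
      rwa [nxor, Nat.xor_assoc, Nat.xor_self, Nat.xor_zero] at this
    · refine ih' n (Nat.lt_pow_two_of_testBit _ fun i hi => ?_)
      rcases Nat.eq_or_lt_of_le hi with rfl | hi'
      · simpa using hk
      · exact Nat.testBit_eq_false_of_lt (lt_of_lt_of_le hn (Nat.pow_le_pow_right (by norm_num) hi'))

theorem vecOf_surj (v : Vec) : ∃ n, n < 4096 ∧ vecOf n = v := by
  have h : ∀ a : ℕ, a ≤ 6 → ∃ n, n < 4096 ∧ ∀ i : Fin 6, vecOf n i = if i.val < a then v i else 0 := by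
    intro a
    induction a with
    | zero => intro _; exact ⟨0, by norm_num, fun i => by rw [vecOf_zero]; simp⟩
    | succ a ih =>
      intro ha
      obtain ⟨n, hn, hv⟩ := ih (by omega)
      obtain ⟨c, hc, hcv⟩ := (by decide +kernel : ∀ i : Fin 6, ∀ k : K4,
        ∃ c : Fin 4, c.val * 4 ^ i.val < 4096 ∧ ∀ j : Fin 6, vecOf (c.val * 4 ^ i.val) j = if j = i then k else 0)
        ⟨a, by omega⟩ (v ⟨a, by omega⟩)
      refine ⟨Nat.xor n (c.val * 4 ^ a), xor_lt' (k := 12) hn hc, fun i => ?_⟩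
      rw [vecOf_xor, Pi.add_apply, hv, hcv]
      by_cases h1 : i.val < a
      · rw [if_pos h1, if_neg (fun e => absurd (congrArg Fin.val e) (Nat.ne_of_lt h1)), add_zero,
          if_pos (Nat.lt_succ_of_lt h1)]
      · by_cases h2 : i.val = a
        · subst h2
          rw [if_neg h1, if_pos rfl, zero_add, if_pos (Nat.lt_succ_self _)]
        · rw [if_neg h1, if_neg (fun e => h2 (congrArg Fin.val e)), add_zero,
            if_neg (fun e => (Nat.lt_succ_iff_lt_or_eq.1 e).elim h1 h2)]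
  obtain ⟨n, hn, hv⟩ := h 6 le_rfl
  exact ⟨n, hn, funext fun i => by rw [hv, if_pos i.2]⟩

theorem bit_pair : ∀ p q r s : Bool,
    bt (b2 p, b2 q) (b2 r, b2 s) = b2 ((p && s) ^^ (q && r)) ∧ nz (b2 p, b2 q) = b2 (p || q) := by
  decide

theorem bt_vecOf (x y : ℕ) (i : Fin 6) : bt (vecOf x i) (vecOf y i) =
    b2 (x.testBit (2 * i.val) && y.testBit (2 * i.val + 1)) +
      b2 (x.testBit (2 * i.val + 1) && y.testBit (2 * i.val)) := by
  rw [vecOf, vecOf, (bit_pair _ _ _ _).1, b2_xor]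

theorem btV_vecOf (x y : ℕ) : btV (vecOf x) (vecOf y) = b2 (btC x y) := by
  rw [btV, Fin.sum_univ_six]
  simp only [bt_vecOf, btC, b2_xor, Fin.val_zero, Fin.val_one, Fin.val_two,
    show ((3 : Fin 6) : ℕ) = 3 from rfl, show ((4 : Fin 6) : ℕ) = 4 from rfl,
    show ((5 : Fin 6) : ℕ) = 5 from rfl]
  abel

theorem qV_vecOf (x : ℕ) : ∑ i, nz (vecOf x i) = b2 (qC x) := by
  rw [Fin.sum_univ_six]
  simp only [vecOf, (bit_pair _ _ false false).2, qC, b2_xor, Fin.val_zero, Fin.val_one, Fin.val_two,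
    show ((3 : Fin 6) : ℕ) = 3 from rfl, show ((4 : Fin 6) : ℕ) = 4 from rfl,
    show ((5 : Fin 6) : ℕ) = 5 from rfl]

theorem b2_eq_zero {p : Bool} : b2 p = 0 ↔ p = false := by cases p <;> decide

theorem omV_vecOf {n : ℕ} (hn : n < 4096) : omV (vecOf n) = vecOf (omC n) := by
  refine xor_induction (P := fun n => omV (vecOf n) = vecOf (omC n)) (k := 12) ?_
    (fun j hj => (om_spec ⟨j, hj⟩).symm) (fun a b ha hb => ?_) n hn
  · rw [omC, linC_zero, vecOf_zero]; rfl
  · rw [vecOf_xor, omV_add, ha, hb, ← vecOf_xor]; simp only [omC, linC_xor]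

theorem omC_lt (n : ℕ) : omC n < 4096 := linC_lt _ 12 (by decide +kernel) n

theorem bwC_lt (b : Bool) (x : ℕ) : bwC b x < 4096 :=
  linC_lt _ 12 (by cases b <;> decide +kernel) x

theorem RC_lt {b : Bool} {n : ℕ} (hn : n < 16) (y : ℕ) : RC b n y < 4096 := by
  refine linC_lt _ 12 ?_ y
  revert n
  cases b <;> decide +kernel

/-- An additive map agreeing with a table on the unit vectors is that table. -/
theorem add_table {b : Bool} {n : ℕ} (hn : n < 16) (f : Vec → Vec) (hadd : ∀ u w, f (u + w) = f u + f w)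
    (hf : ∀ v, f v = Rf b n v) {y : ℕ} (hy : y < 4096) : Rf b n (vecOf y) = vecOf (RC b n y) := by
  rw [← hf]
  refine xor_induction (P := fun y => f (vecOf y) = vecOf (RC b n y)) (k := 12) ?_ (fun j hj => ?_)
    (fun a c ha hc => ?_) y hy
  · rw [RC, linC_zero, vecOf_zero]
    have h := hadd 0 0
    rw [add_zero] at h
    exact left_eq_add.1 h
  · rw [hf]
    exact of_decide_eq_true (List.all_eq_true.1 (img_spec b ⟨n, hn⟩) j (List.mem_range.2 hj))
  · rw [vecOf_xor, hadd, ha, hc, RC, RC, RC, linC_xor, vecOf_xor]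

theorem par_xor (x y : ℕ) : par (Nat.xor x y) = (par x ^^ par y) := by
  simp only [par, nxor, Nat.testBit_xor]
  generalize x.testBit 0 = a0, x.testBit 1 = a1, x.testBit 2 = a2, x.testBit 3 = a3, x.testBit 4 = a4,
    x.testBit 5 = a5, x.testBit 6 = a6, y.testBit 0 = c0, y.testBit 1 = c1, y.testBit 2 = c2,
    y.testBit 3 = c3, y.testBit 4 = c4, y.testBit 5 = c5, y.testBit 6 = c6
  simp only [Bool.xor_comm, Bool.xor_left_comm]

/-- A vector constant on the pairs is a member of `W`. -/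
theorem flat_iff (b : Bool) (v : Vec) : IsFlat v ↔ ∃ x, x < 64 ∧ vecOf (bwC b x) = v := by
  constructor
  · rintro ⟨h01, h23, h45⟩
    obtain ⟨x, hx, hx'⟩ := List.any_eq_true.1 (bw_surj b (v 0) (v 2) (v 4))
    refine ⟨x, List.mem_range.1 hx, (of_decide_eq_true hx').trans ?_⟩
    funext i
    simp only [Pi.add_apply, pairV]
    fin_cases i <;> simp [← h01, ← h23, ← h45]
  · rintro ⟨x, hx, rfl⟩
    refine xor_induction (P := fun x => IsFlat (vecOf (bwC b x))) (k := 6) ?_ (fun j hj => ?_)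
      (fun a c ha hc => ?_) x hx
    · rw [bwC, linC_zero, vecOf_zero]; exact ⟨rfl, rfl, rfl⟩
    · have h := of_decide_eq_true (List.all_eq_true.1 (bw_flat b) j (List.mem_range.2 hj))
      exact ⟨h 0, h 1, h 2⟩
    · rw [bwC, linC_xor, vecOf_xor]
      exact ⟨congrArg₂ (· + ·) ha.1 hc.1, congrArg₂ (· + ·) ha.2.1 hc.2.1, congrArg₂ (· + ·) ha.2.2 hc.2.2⟩

end CfsgLib.FischerTwoFour.Cocode
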