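import Mathlib

/-!
The combinatorial model of the neighbourhood of a point `z` of the second kind in the even cocode:
36 elements in six four-sets (one per line of a hyperoval over four elements) and 15 grids of 16
elements, one in each non-trivial coset of the subgroup of order 128. Elements of that subgroup are
coded by numbers below 128 under exclusive or, the point `z` by 64.
-/

set_option autoImplicit false
set_option maxRecDepth 100000
set_option Elab.async false

namespace CfsgLib.FischerTwoFour.Cocode

/-- The six pairs from four. -/
def pr4 : ℕ → ℕ × ℕ
  | 0 => (0, 1) | 1 => (0, 2) | 2 => (0, 3) | 3 => (1, 2) | 4 => (1, 3) | _ => (2, 3)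

/-- The fifteen pairs from six. -/
def pr6 : ℕ → ℕ × ℕ
  | 0 => (0, 1) | 1 => (0, 2) | 2 => (0, 3) | 3 => (0, 4) | 4 => (0, 5) | 5 => (1, 2) | 6 => (1, 3)
  | 7 => (1, 4) | 8 => (1, 5) | 9 => (2, 3) | 10 => (2, 4) | 11 => (2, 5) | 12 => (3, 4)
  | 13 => (3, 5) | _ => (4, 5)

/-- The coset of a label. -/
def cs (n : ℕ) : ℕ := if n < 36 then 0 else (n - 36) / 16 + 1

/-- The codes of all labels, packed in seven bits each. -/
def cdPack : ℕ := 0x78445670aa19de443ca79b7db680482497fe3723aa9d8fc15b7db680308437f9bd29aae52f615cf7bc805618ef0f75a6a0979be90b7db6802eb84f08ffaca0ef3b490cf7bc801f6b2f0be29aa0dee8290fea8a802ee90cca7fb288bfcb484b7db6805649accdf5b888c76be84cf7bc80679acccee88e88f6b8884fea8a8079b2e4cf0a0c08e890a04e08080030d5743b3d3782b5df601b7db6804875d43cb73d82cd7fc01cf7bc8079a6b43faa0b82fcaca01fea8a80678e9c3e488902e284881e0808001f2e3c39c283029a2428198202005ad8ddbedb5c9e4f9ef79aba9fff545686061c1010892064c10120c2070c101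

/-- The code of a label inside its coset. -/
def cd (n : ℕ) : ℕ := Nat.land (Nat.shiftRight cdPack (7 * n)) 127

/-- The sixteen sets of codes, packed in 128 bits each. -/
def memPack : ℕ := 0x240208048000000100801040012842181422008180040800000041000240201821410804008280000000402012000412841204008402800000008012001004142810280420040800000400100810201800180208400000004200401002184214044222088081000040000020080011122028088444010000020080000040111888000400200100000084404202201110111100010001000100001110111011100d0b0000e00000800204000010000070b0000e0d00000080400001020000007e00002000040000810000d0000b000070007000800080008000800070007000700000000000078880000000000008777824124814821111e824124814821111e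

/-- All labels. -/
def labs : List ℕ := List.range 276

/-- The labels of the four-sets. -/
def tlabs : List ℕ := List.range 36

/-- The labels in a coset. -/
def inCoset : ℕ → List ℕ
  | 0 => List.range 36
  | c + 1 => List.range' (36 + 16 * c) 16

/-- Membership of a code in a coset. -/
def memL (x c : ℕ) : Bool := Nat.beq (Nat.land (Nat.shiftRight memPack (128 * c + x)) 1) 1

theorem memL_spec : ((List.range 16).all fun c => (List.range 128).all fun x =>
    memL x c == (inCoset c).any fun n => Nat.beq (cd n) x) = true := by decide +kernel

/-- The coset of a sum is known. -/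
def known (n m : ℕ) : Bool := Nat.beq (cs n) 0 || Nat.beq (cs m) 0 || Nat.beq (cs n) (cs m)

/-- The coset of a sum, when known. -/
def csum (n m : ℕ) : ℕ := if cs n = cs m then 0 else cs n + cs m

/-- Adjacency, when known. -/
def kadj (n m : ℕ) : Bool := known n m && memL (Nat.xor (cd n) (cd m)) (csum n m)

/-- A label lies in the first or second clique through the four-set label `u`. -/
def side (u : ℕ) (n : ℕ) : Bool :=
  if n < 36 then
    (n / 6 == u / 6) && ((pr4 (n % 6)).1 == (pr4 (u % 6)).1 || (pr4 (n % 6)).2 == (pr4 (u % 6)).1)
  else
    ((pr6 ((n - 36) / 16)).1 == u / 6 && (n - 36) / 4 % 4 == (pr4 (u % 6)).1) ||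
      ((pr6 ((n - 36) / 16)).2 == u / 6 && n % 4 == (pr4 (u % 6)).1)

/-- The neighbours of a four-set label. -/
def nb (u : ℕ) : List ℕ := labs.filter (kadj u)

theorem basics : (labs.all fun n => Nat.ble (cd n + 1) 128 && Nat.ble (cs n + 1) 16 &&
    (Nat.ble 36 n || !Nat.beq (cd n) 0) &&
    ((inCoset (cs n)).filter fun m => Nat.beq (cd m) (cd n)) == [n]) = true := by decide +kernel

/-- Shifting by `z` preserves the four-sets and moves every grid off itself. -/
theorem shift : (tlabs.all fun n => memL (Nat.xor (cd n) 64) 0 && !Nat.beq (cd n) 64) = true ∧
    ((List.range' 36 240).all fun n => !memL (Nat.xor (cd n) 64) (cs n)) = true := by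
  decide +kernel

/-- For a grid label some four-set label is far from it. -/
theorem far : ((List.range' 36 240).all fun n => tlabs.any fun x => !kadj x n) = true := by
  decide +kernel

/-- The common neighbours of an adjacent pair in the four-sets. -/
theorem lam_tet : (tlabs.all fun u => tlabs.all fun v =>
    !kadj u v || ((nb u).filter (kadj v)).length == 22) = true := by
  decide +kernel

/-- The common neighbours of a pair with sum `z`. -/
theorem mu_tet : (tlabs.all fun u => tlabs.all fun v =>
    !Nat.beq (Nat.xor (cd u) (cd v)) 64 ||
      ((nb u).filter (kadj v)).length == 4) = true := by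
  decide +kernel

/-- An edge into a grid is an edge inside a four-set at another point. -/
theorem edge_move : (tlabs.all fun u => (nb u).all fun n => Nat.ble (n + 1) 36 ||
    tlabs.any fun x => !kadj u x && !Nat.beq x u &&
      memL (Nat.xor (cd n) (Nat.xor (cd u) (cd x))) (cs n)) = true := by
  decide +kernel

/-- The two sides have 22 labels each and translation by `u` exchanges them. -/
theorem sides : (tlabs.all fun u =>
    ((nb u).filter (side u)).length == 22 && (nb u).length == 44 &&
      (nb u).all fun n => (inCoset (cs n)).any fun m => kadj u m &&
        Nat.beq (cd m) (Nat.xor (cd n) (cd u)) && (side u m != side u n)) = true := by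
  decide +kernel

/-- On each side some four-set label is adjacent to the whole grid part of the side, and is far from
the grid part of the other side with four known common neighbours. -/
theorem anchor : (tlabs.all fun u => [true, false].all fun s => tlabs.any fun t =>
    (nb u).all fun n => Nat.ble (n + 1) 36 || (if side u n == s then kadj t n else
      !kadj t n && (((tlabs ++ inCoset (cs n)).filter fun x => kadj t x && kadj n x).length == 4))) = true := by
  decide +kernel

/-- The candidates for common neighbours of `u` and `n`. -/
def cp (u n m : ℕ) : Bool := if known n m then kadj n m else side u m == side u n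

/-- The candidates are exactly 22: the whole side and the translate by `u`. -/
theorem cand_spec : (tlabs.all fun u => (nb u).all fun n =>
    ((nb u).filter (cp u n)).length == 22 && (nb u).all fun m => Nat.beq m n ||
      (cp u n m == (side u m == side u n ||
        (Nat.beq (cs m) (cs n) && Nat.beq (cd m) (Nat.xor (cd n) (cd u)))))) = true := by
  decide +kernel

end CfsgLib.FischerTwoFour.Cocode
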