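import Mathlib
import Cfsg.Agent.Lib.FischerTwoFour.FourModel
import Cfsg.Agent.Lib.FischerTwoFour.Cocode.Model

/-!
The monomial model of the group of order sixteen fixing the space `W` of vectors constant on the pairs
`01`, `23`, `45`, and its match with the local model of the cocode. Vectors are computed as twelve bits.
-/

set_option autoImplicit false
set_option maxRecDepth 100000
set_option Elab.async false

namespace CfsgLib.FischerTwoFour.Cocode

open Four

/-- The two possible multiples. -/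
def muOf (b : Bool) : K4 := if b then (1, 1) else (0, 1)

/-- A bit of the two-element field. -/
def b2 (p : Bool) : ZMod 2 := if p then 1 else 0

/-- A vector from twelve bits. -/
def vecOf (n : ℕ) : Vec := fun i => (b2 (n.testBit (2 * i.val)), b2 (n.testBit (2 * i.val + 1)))

/-- The linear map with the given images of the unit vectors. -/
def linC : List ℕ → ℕ → ℕ
  | [], _ => 0
  | a :: as, n => Nat.xor (if n.testBit 0 then a else 0) (linC as (n / 2))

/-- The orbit of the second kind: four-set vectors. -/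
def isT (b : Bool) (x : Vec) : Bool := wtV x == 2 || (wtV x == 6 && decide (clsV x = lg (muOf b)))

/-- The images of the basis of `W`. -/
def bwT (b : Bool) : List ℕ := if b then [5, 10, 80, 160, 2560, 3840] else [5, 10, 80, 160, 3840, 1280]

/-- The code of a member of `W`. -/
def bwC (b : Bool) (x : ℕ) : ℕ := linC (bwT b) x


/-- Multiplication by `ω` on codes. -/
def omC (n : ℕ) : ℕ := linC [2, 3, 8, 12, 32, 48, 128, 192, 512, 768, 2048, 3072] n

theorem om_spec : ∀ j : Fin 12, vecOf (omC (2 ^ j.val)) = omV (vecOf (2 ^ j.val)) := by decide +kernel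

/-- The permutations of the pairing. -/
def kPerm : ℕ → Fin 6 → Fin 6
  | 1 => ![1, 0, 3, 2, 4, 5] | 2 => ![1, 0, 2, 3, 5, 4] | 3 => ![0, 1, 3, 2, 5, 4] | _ => id

/-- The translation of a pair. -/
def uTr (b : Bool) (a c : Fin 6) (x : Vec) : Vec := act (pairV (muOf b) a c + cst one) x

/-- The sixteen maps. -/
def Rf (b : Bool) (n : ℕ) (x : Vec) : Vec := fun i =>
  (if n.testBit 1 then uTr b 4 5 (if n.testBit 0 then uTr b 0 1 x else x)
    else (if n.testBit 0 then uTr b 0 1 x else x)) (kPerm (n / 4) i)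

/-- The images of the unit vectors under the sixteen maps. -/
def imgT (b : Bool) : List (List ℕ) := if b then
  [[1, 2, 4, 8, 16, 32, 64, 128, 256, 512, 1024, 2048],
    [4081, 1362, 4084, 1368, 1354, 2703, 1306, 2607, 1114, 2223, 346, 687],
    [2644, 4008, 2641, 4002, 2629, 3978, 2581, 3882, 511, 597, 1279, 2133],
    [1444, 2808, 1441, 2802, 3871, 1317, 3919, 1413, 1189, 2298, 421, 762],
    [4, 8, 1, 2, 64, 128, 16, 32, 256, 512, 1024, 2048],
    [4084, 1368, 4081, 1362, 1306, 2607, 1354, 2703, 1114, 2223, 346, 687],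
    [2641, 4002, 2644, 4008, 2581, 3882, 2629, 3978, 511, 597, 1279, 2133],
    [1441, 2802, 1444, 2808, 3919, 1413, 3871, 1317, 1189, 2298, 421, 762],
    [4, 8, 1, 2, 16, 32, 64, 128, 1024, 2048, 256, 512],
    [4084, 1368, 4081, 1362, 1354, 2703, 1306, 2607, 346, 687, 1114, 2223],
    [2641, 4002, 2644, 4008, 2629, 3978, 2581, 3882, 1279, 2133, 511, 597],
    [1441, 2802, 1444, 2808, 3871, 1317, 3919, 1413, 421, 762, 1189, 2298],
    [1, 2, 4, 8, 64, 128, 16, 32, 1024, 2048, 256, 512],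
    [4081, 1362, 4084, 1368, 1306, 2607, 1354, 2703, 346, 687, 1114, 2223],
    [2644, 4008, 2641, 4002, 2581, 3882, 2629, 3978, 1279, 2133, 511, 597],
    [1444, 2808, 1441, 2802, 3919, 1413, 3871, 1317, 421, 762, 1189, 2298]] else
  [[1, 2, 4, 8, 16, 32, 64, 128, 256, 512, 1024, 2048],
    [2721, 4082, 2724, 4088, 1359, 2693, 1311, 2597, 1119, 2213, 351, 677],
    [3924, 1448, 3921, 1442, 3909, 1418, 3861, 1322, 426, 767, 1194, 2303],
    [1524, 2648, 1521, 2642, 2586, 3887, 2634, 3983, 1269, 2138, 501, 602],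
    [4, 8, 1, 2, 64, 128, 16, 32, 256, 512, 1024, 2048],
    [2724, 4088, 2721, 4082, 1311, 2597, 1359, 2693, 1119, 2213, 351, 677],
    [3921, 1442, 3924, 1448, 3861, 1322, 3909, 1418, 426, 767, 1194, 2303],
    [1521, 2642, 1524, 2648, 2634, 3983, 2586, 3887, 1269, 2138, 501, 602],
    [4, 8, 1, 2, 16, 32, 64, 128, 1024, 2048, 256, 512],
    [2724, 4088, 2721, 4082, 1359, 2693, 1311, 2597, 351, 677, 1119, 2213],
    [3921, 1442, 3924, 1448, 3909, 1418, 3861, 1322, 1194, 2303, 426, 767],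
    [1521, 2642, 1524, 2648, 2586, 3887, 2634, 3983, 501, 602, 1269, 2138],
    [1, 2, 4, 8, 64, 128, 16, 32, 1024, 2048, 256, 512],
    [2721, 4082, 2724, 4088, 1311, 2597, 1359, 2693, 351, 677, 1119, 2213],
    [3924, 1448, 3921, 1442, 3861, 1322, 3909, 1418, 1194, 2303, 426, 767],
    [1524, 2648, 1521, 2642, 2634, 3983, 2586, 3887, 501, 602, 1269, 2138]]

/-- The code of an image. -/
def RC (b : Bool) (n y : ℕ) : ℕ := linC ((imgT b).getD n []) y

/-- The bilinear form on codes. -/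
def btC (x y : ℕ) : Bool := ((((((((((((x.testBit 0 && y.testBit 1) ^^
    (x.testBit 2 && y.testBit 3)) ^^
    (x.testBit 4 && y.testBit 5)) ^^
    (x.testBit 6 && y.testBit 7)) ^^
    (x.testBit 8 && y.testBit 9)) ^^
    (x.testBit 10 && y.testBit 11)) ^^
    (x.testBit 1 && y.testBit 0)) ^^
    (x.testBit 3 && y.testBit 2)) ^^
    (x.testBit 5 && y.testBit 4)) ^^
    (x.testBit 7 && y.testBit 6)) ^^
    (x.testBit 9 && y.testBit 8)) ^^
    (x.testBit 11 && y.testBit 10))

/-- The quadratic form on codes. -/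
def qC (x : ℕ) : Bool := ((((((x.testBit 0 || x.testBit 1) ^^
    (x.testBit 2 || x.testBit 3)) ^^
    (x.testBit 4 || x.testBit 5)) ^^
    (x.testBit 6 || x.testBit 7)) ^^
    (x.testBit 8 || x.testBit 9)) ^^
    (x.testBit 10 || x.testBit 11))

/-- The coset of each map. -/
def pn (b : Bool) : List ℕ := if b then [0, 5, 10, 8, 1, 9, 15, 4, 2, 12, 3, 14, 6, 13, 7, 11] else [0, 4, 10, 9, 1, 8, 15, 5, 2, 11, 3, 13, 6, 14, 7, 12]

/-- Witnesses for the orbit of each map. -/
def wit (b : Bool) : List (List ℕ) := if b then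
  [[0, 3072, 1024, 2048, 3076, 4, 2052, 1028, 1032, 2056, 8, 3080, 2060, 1036, 3084, 12],
    [0, 64, 128, 192, 2112, 2048, 2240, 2176, 3200, 3264, 3072, 3136, 1216, 1152, 1088, 1024],
    [0, 1024, 2048, 3072, 3136, 2112, 1088, 64, 1152, 128, 3200, 2176, 2240, 3264, 192, 1216],
    [0, 64, 128, 192, 4, 68, 132, 196, 8, 72, 136, 200, 12, 76, 140, 204],
    [0, 3072, 1024, 2048, 1088, 2112, 64, 3136, 2176, 1152, 3200, 128, 3264, 192, 2240, 1216],
    [0, 1152, 2240, 3136, 3264, 2112, 1024, 128, 1088, 192, 3200, 2048, 2176, 3072, 64, 1216],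
    [0, 1024, 2048, 3072, 1028, 4, 3076, 2052, 2056, 3080, 8, 1032, 3084, 2060, 1036, 12],
    [0, 2048, 3072, 1024, 4, 2052, 3076, 1028, 8, 2056, 3080, 1032, 12, 2060, 3084, 1036],
    [0, 192, 64, 128, 2176, 2112, 2240, 2048, 3264, 3072, 3200, 3136, 1088, 1152, 1024, 1216],
    [0, 2048, 3072, 1024, 2052, 4, 1028, 3076, 3080, 1032, 8, 2056, 1036, 3084, 2060, 12],
    [0, 2112, 3200, 1216, 3264, 1152, 64, 2048, 1088, 3072, 2240, 128, 2176, 192, 1024, 3136],
    [0, 2048, 3072, 1024, 64, 2112, 3136, 1088, 128, 2176, 3200, 1152, 192, 2240, 3264, 1216],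
    [0, 2112, 3200, 1216, 1152, 3264, 2048, 64, 2240, 128, 1088, 3072, 3136, 1024, 192, 2176],
    [0, 2048, 3072, 1024, 2112, 64, 1088, 3136, 3200, 1152, 128, 2176, 1216, 3264, 2240, 192],
    [0, 128, 192, 64, 2240, 2112, 2048, 2176, 3136, 3264, 3200, 3072, 1152, 1024, 1088, 1216]] else
  [[0, 2048, 3072, 1024, 2052, 4, 1028, 3076, 3080, 1032, 8, 2056, 1036, 3084, 2060, 12],
    [0, 64, 128, 192, 3136, 3072, 3264, 3200, 1152, 1216, 1024, 1088, 2240, 2176, 2112, 2048],
    [0, 1024, 2048, 3072, 2112, 3136, 64, 1088, 3200, 2176, 1152, 128, 1216, 192, 3264, 2240],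
    [0, 64, 128, 192, 4, 68, 132, 196, 8, 72, 136, 200, 12, 76, 140, 204],
    [0, 2048, 3072, 1024, 1088, 3136, 2112, 64, 2176, 128, 1152, 3200, 3264, 1216, 192, 2240],
    [0, 2176, 3264, 1088, 1216, 3136, 2048, 128, 2112, 192, 1152, 3072, 3200, 1024, 64, 2240],
    [0, 1024, 2048, 3072, 1028, 4, 3076, 2052, 2056, 3080, 8, 1032, 3084, 2060, 1036, 12],
    [0, 3072, 1024, 2048, 4, 3076, 1028, 2052, 8, 3080, 1032, 2056, 12, 3084, 1036, 2060],
    [0, 128, 192, 64, 3264, 3136, 3072, 3200, 1088, 1216, 1152, 1024, 2176, 2048, 2112, 2240],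
    [0, 3072, 1024, 2048, 3076, 4, 2052, 1028, 1032, 2056, 8, 3080, 2060, 1036, 3084, 12],
    [0, 3136, 1152, 2240, 2176, 1216, 3072, 64, 3264, 128, 2112, 1024, 1088, 2048, 192, 3200],
    [0, 3072, 1024, 2048, 64, 3136, 1088, 2112, 128, 3200, 1152, 2176, 192, 3264, 1216, 2240],
    [0, 3136, 1152, 2240, 1216, 2176, 64, 3072, 2112, 1024, 3264, 128, 3200, 192, 2048, 1088],
    [0, 3072, 1024, 2048, 3136, 64, 2112, 1088, 1152, 2176, 128, 3200, 2240, 1216, 3264, 192],
    [0, 192, 64, 128, 3200, 3136, 3264, 3072, 1216, 1024, 1152, 1088, 2112, 2176, 2048, 2240]]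

/-- Fixed vectors of each map. -/
def fxv (b : Bool) : List (List ℕ) := if b then
  [[1280, 2560, 1088, 2176, 1040, 2080, 5, 10],
    [1280, 2560, 80, 160, 68, 136, 65, 130],
    [1280, 2560, 80, 160, 1028, 2056, 1025, 2050],
    [1024, 2048, 256, 512, 80, 160, 5, 10],
    [1280, 2560, 80, 160, 3076, 1032, 3073, 1026],
    [1280, 2560, 80, 160, 2116, 3208, 2113, 3202],
    [1280, 2560, 3136, 1152, 3088, 1056, 5, 10],
    [1280, 2560, 64, 128, 16, 32, 5, 10],
    [1280, 2560, 80, 160, 196, 72, 193, 66],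
    [1280, 2560, 2112, 3200, 2064, 3104, 5, 10],
    [1280, 2560, 80, 160, 1156, 2248, 1153, 2242],
    [1280, 2560, 80, 160, 4, 8, 1, 2],
    [1280, 2560, 80, 160, 3268, 1096, 3265, 1090],
    [1280, 2560, 80, 160, 2052, 3080, 2049, 3074],
    [1280, 2560, 80, 160, 132, 200, 129, 194]] else
  [[1280, 2560, 1088, 2176, 1040, 2080, 5, 10],
    [1280, 2560, 80, 160, 68, 136, 65, 130],
    [1280, 2560, 80, 160, 1028, 2056, 1025, 2050],
    [1024, 2048, 256, 512, 80, 160, 5, 10],
    [1280, 2560, 80, 160, 2052, 3080, 2049, 3074],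
    [1280, 2560, 80, 160, 3140, 1160, 3137, 1154],
    [1280, 2560, 2112, 3200, 2064, 3104, 5, 10],
    [1280, 2560, 64, 128, 16, 32, 5, 10],
    [1280, 2560, 80, 160, 132, 200, 129, 194],
    [1280, 2560, 3136, 1152, 3088, 1056, 5, 10],
    [1280, 2560, 80, 160, 1220, 2120, 1217, 2114],
    [1280, 2560, 80, 160, 4, 8, 1, 2],
    [1280, 2560, 80, 160, 2180, 3272, 2177, 3266],
    [1280, 2560, 80, 160, 3076, 1032, 3073, 1026],
    [1280, 2560, 80, 160, 196, 72, 193, 66]]

/-- A point of `W` and vectors orthogonal to its line, for each map. -/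
def radT (b : Bool) : List (ℕ × List ℕ) := if b then
  [(24, [1280, 2560, 1088, 2176, 1040, 2080, 4, 8, 1, 2]), (5, [1024, 2048, 256, 512, 80, 160, 68, 136, 65, 130]), (18, [1280, 2560, 64, 128, 16, 32, 1028, 2056, 1025, 2050]), (5, [1024, 2048, 256, 512, 80, 160, 68, 136, 65, 130]), (19, [1280, 2560, 64, 128, 16, 32, 3076, 1032, 3073, 1026]), (5, [1024, 2048, 256, 512, 80, 160, 68, 136, 65, 130]), (28, [1280, 2560, 3136, 1152, 3088, 1056, 4, 8, 1, 2]), (17, [1280, 2560, 64, 128, 16, 32, 2052, 3080, 2049, 3074]), (6, [1024, 2048, 256, 512, 80, 160, 196, 72, 193, 66]), (20, [1280, 2560, 2112, 3200, 2064, 3104, 4, 8, 1, 2]), (7, [1024, 2048, 256, 512, 80, 160, 132, 200, 129, 194]), (20, [1280, 2560, 2112, 3200, 2064, 3104, 4, 8, 1, 2]), (6, [1024, 2048, 256, 512, 80, 160, 196, 72, 193, 66]), (17, [1280, 2560, 64, 128, 16, 32, 2052, 3080, 2049, 3074]), (7, [1024, 2048, 256, 512, 80, 160, 132, 200, 129, 194])] else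
  [(28, [1280, 2560, 1088, 2176, 1040, 2080, 4, 8, 1, 2]), (5, [1024, 2048, 256, 512, 80, 160, 68, 136, 65, 130]), (19, [1280, 2560, 64, 128, 16, 32, 1028, 2056, 1025, 2050]), (5, [1024, 2048, 256, 512, 80, 160, 68, 136, 65, 130]), (18, [1280, 2560, 64, 128, 16, 32, 2052, 3080, 2049, 3074]), (5, [1024, 2048, 256, 512, 80, 160, 68, 136, 65, 130]), (24, [1280, 2560, 2112, 3200, 2064, 3104, 4, 8, 1, 2]), (17, [1280, 2560, 64, 128, 16, 32, 3076, 1032, 3073, 1026]), (7, [1024, 2048, 256, 512, 80, 160, 132, 200, 129, 194]), (20, [1280, 2560, 3136, 1152, 3088, 1056, 4, 8, 1, 2]), (6, [1024, 2048, 256, 512, 80, 160, 196, 72, 193, 66]), (20, [1280, 2560, 3136, 1152, 3088, 1056, 4, 8, 1, 2]), (7, [1024, 2048, 256, 512, 80, 160, 132, 200, 129, 194]), (17, [1280, 2560, 64, 128, 16, 32, 3076, 1032, 3073, 1026]), (6, [1024, 2048, 256, 512, 80, 160, 196, 72, 193, 66])]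

/-- The parity making the lifts of the basis odd. -/
def par (x : ℕ) : Bool := (((((((x.testBit 0) ^^
    (x.testBit 1)) ^^
    (x.testBit 2)) ^^
    (x.testBit 3)) ^^
    (x.testBit 4)) ^^
    (x.testBit 5)) ^^
    (x.testBit 6))

theorem pn_spec : ∀ b, (((List.range 16).all fun n => (List.range 16).any fun m => (pn b).getD m 0 == n) &&
    ((List.range 16).all fun n => Nat.ble ((pn b).getD n 0 + 1) 16 && ((pn b).getD n 0 == 0) == (n == 0))) = true := by
  decide +kernel

/-- A witness realises the code: image and sign. -/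
def witOK (b : Bool) (n l y : ℕ) : Bool :=
  Nat.beq (Nat.xor (RC b n y) y) (bwC b (Nat.land (cd l) 63)) && Nat.ble (y + 1) 4096 &&
    par (cd l) == (qC y != btC (RC b n y) (omC (omC y)))

theorem wit_spec : ∀ b, ((List.range 15).all fun n =>
    ((inCoset ((pn b).getD (n + 1) 0)).zip ((wit b).getD n [])).all (fun p => witOK b (n + 1) p.1 p.2) &&
      ((wit b).getD n []).length == 16) = true := by
  decide +kernel

/-- Whether the low part of a code lies in the image of a map. -/
def inIm (b : Bool) (n x : ℕ) : Bool :=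
  memL x ((pn b).getD n 0) || memL (Nat.xor x 64) ((pn b).getD n 0)

theorem out_spec : ∀ b, ((List.range 15).all fun n => (List.range 64).all fun x => inIm b (n + 1) x ||
    ((fxv b).getD n []).any fun y => Nat.beq (RC b (n + 1) y) y && Nat.ble (y + 1) 4096 &&
      btC y (bwC b x)) = true := by
  decide +kernel

/-- The images are closed under the multiples. -/
theorem im_om : ∀ b, ((List.range 15).all fun n => (List.range 64).all fun x => !inIm b (n + 1) x ||
    (List.range 64).any fun x' => Nat.beq (omC (bwC b x)) (bwC b x') && inIm b (n + 1) x') = true := by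
  decide +kernel

/-- The test that a map moves the given vectors into the line of a point. -/
def radOK (b : Bool) (v : ℕ) (ys : List ℕ) (m : ℕ) : Bool :=
  Nat.beq (RC b m (bwC b v)) (bwC b v) && ys.all fun y =>
    let d := Nat.xor (RC b m y) y
    Nat.beq d 0 || Nat.beq d (bwC b v) || Nat.beq d (omC (bwC b v)) ||
      Nat.beq d (Nat.xor (bwC b v) (omC (bwC b v)))

theorem rad_spec : ∀ b, ((List.range 15).all fun n =>
    let r := (radT b).getD n (0, [])
    Nat.ble 1 r.1 && Nat.ble (r.1 + 1) 64 && !memL r.1 0 && radOK b r.1 r.2 (n + 1) &&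
      (r.2.all fun y => Nat.ble (y + 1) 4096 && !btC y (bwC b r.1) && !btC y (omC (bwC b r.1))) &&
      ((List.range 16).filter (radOK b r.1 r.2)).length == 4) = true := by
  decide +kernel

/-- `W` consists of the vectors constant on the pairs. -/
theorem bw_surj : ∀ b, ∀ p q r : K4, ((List.range 64).any fun x =>
    decide (vecOf (bwC b x) = pairV p 0 1 + pairV q 2 3 + pairV r 4 5)) = true := by decide +kernel

theorem bw_flat : ∀ b, ((List.range 6).all fun j =>
    decide (∀ i : Fin 3, vecOf (bwC b (2 ^ j)) ⟨2 * i.val, by omega⟩ = vecOf (bwC b (2 ^ j)) ⟨2 * i.val + 1, by omega⟩)) = true := by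
  decide +kernel


/-- Different maps differ on a unit vector. -/
theorem R_sep : ∀ b, ((List.range 16).all fun n => (List.range 16).all fun m => n == m ||
    (List.range 12).any fun j => !Nat.beq (RC b n (2 ^ j)) (RC b m (2 ^ j))) = true := by
  decide +kernel


end CfsgLib.FischerTwoFour.Cocode
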