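import Cfsg.Agent.Lib.FischerTwoFour.Cocode.Bits

/-!
The images of the fifteen maps as kernels of two parities, and counts in the subgroup of order 128.
-/

set_option autoImplicit false
set_option maxRecDepth 100000
set_option Elab.async false

namespace CfsgLib.FischerTwoFour.Cocode

/-- Two parities cutting out each image. -/
def imMask (b : Bool) : List (ℕ × ℕ) := if b then
  [(28, 36), (5, 10), (19, 33), (16, 32), (18, 35), (21, 42), (24, 44), (4, 8), (7, 9), (20, 40), (27, 45),
    (1, 2), (30, 39), (17, 34), (6, 11)] else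
  [(24, 44), (5, 10), (18, 35), (16, 32), (19, 33), (21, 42), (28, 36), (4, 8), (6, 11), (20, 40), (30, 39),
    (1, 2), (27, 45), (17, 34), (7, 9)]

/-- A parity. -/
def fPar (m x : ℕ) : Bool := par (Nat.land m x)

/-- Multiplication by `ω` on codes of `W`. -/
def omW (x : ℕ) : ℕ := linC [2, 3, 8, 12, 32, 48] x

/-- The class of a code modulo an image. -/
def imCls (b : Bool) (n x : ℕ) : Bool × Bool :=
  (fPar ((imMask b).getD (n - 1) (0, 0)).1 x, fPar ((imMask b).getD (n - 1) (0, 0)).2 x)

theorem cls_spec : ∀ b, ((List.range 15).all fun n => (List.range 64).all fun x =>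
    (inIm b (n + 1) x == (imCls b (n + 1) x == (false, false))) &&
    (inIm b (n + 1) x || (!(imCls b (n + 1) (omW x) == (false, false)) &&
      !(imCls b (n + 1) (omW x) == imCls b (n + 1) x) &&
      !(imCls b (n + 1) (omW (omW x)) == imCls b (n + 1) x)))) = true := by decide +kernel

theorem omW_spec : ∀ b, ((List.range 64).all fun x =>
    Nat.beq (bwC b (omW x)) (omC (bwC b x)) && Nat.ble (omW x + 1) 64) = true := by decide +kernel

theorem im_card : ∀ b, ((List.range 15).all fun n =>
    ((List.range 128).filter fun c => inIm b (n + 1) (c % 64)).length == 32) = true := by decide +kernel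

/-- The elements outside the four-sets and their translates. -/
theorem pair_count : ((List.range 128).all fun d => memL d 0 || d == 0 || d == 64 ||
    (((List.range 128).filter fun c => memL c 0 && !memL (Nat.xor c d) 0).length == 24 &&
      ((List.range 128).filter fun c => memL c 0 && memL (Nat.xor c d) 0).length == 12)) = true := by
  decide +kernel

theorem fPar_xor (m x y : ℕ) : fPar m (Nat.xor x y) = (fPar m x ^^ fPar m y) := by
  rw [fPar, fPar, fPar, ← par_xor]
  exact congrArg par (Nat.and_xor_distrib_left)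

theorem imCls_spec {b : Bool} {n x : ℕ} (hn : 1 ≤ n) (hn' : n < 16) (hx : x < 64) :
    (inIm b n x = true ↔ imCls b n x = (false, false)) ∧ (inIm b n x = false →
      imCls b n (omW x) ≠ (false, false) ∧ imCls b n (omW x) ≠ imCls b n x ∧
        imCls b n (omW (omW x)) ≠ imCls b n x) := by
  have h := List.all_eq_true.1 (List.all_eq_true.1 (cls_spec b) (n - 1) (List.mem_range.2 (by omega))) x
    (List.mem_range.2 hx)
  rw [show n - 1 + 1 = n by omega, Bool.and_eq_true, Bool.or_eq_true, beq_iff_eq] at h
  refine ⟨by rw [h.1, beq_iff_eq], fun hout => ?_⟩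
  have h' := h.2.resolve_left (by rw [hout]; exact Bool.false_ne_true)
  simp only [Bool.and_eq_true, Bool.not_eq_true', beq_eq_false_iff_ne] at h'
  exact ⟨h'.1.1, h'.1.2, h'.2⟩

theorem omW_lt {x : ℕ} (hx : x < 64) : omW x < 64 := by
  have h := List.all_eq_true.1 (omW_spec false) x (List.mem_range.2 hx)
  simp only [Bool.and_eq_true, Nat.ble_eq] at h
  omega

theorem bwC_omW {b : Bool} {x : ℕ} (hx : x < 64) : bwC b (omW x) = omC (bwC b x) := by
  have h := List.all_eq_true.1 (omW_spec b) x (List.mem_range.2 hx)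
  rw [Bool.and_eq_true] at h
  exact Nat.eq_of_beq_eq_true h.1

theorem inIm_xor {b : Bool} {n x y : ℕ} (hn : 1 ≤ n) (hn' : n < 16) (hx : x < 64) (hy : y < 64) :
    (inIm b n (Nat.xor x y) = true ↔ imCls b n x = imCls b n y) := by
  rw [(imCls_spec hn hn' (xor_lt' (k := 6) hx hy)).1]
  simp only [imCls, fPar_xor]
  generalize fPar _ x = p, fPar _ y = q
  generalize fPar _ x = r, fPar _ y = s
  revert p q r s
  decide

/-- The three translates of an element outside meet all classes outside. -/
theorem class_cases {b : Bool} {n x y : ℕ} (hn : 1 ≤ n) (hn' : n < 16) (hx : x < 64) (hy : y < 64)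
    (hox : inIm b n x = false) (hoy : inIm b n y = false) :
    inIm b n (Nat.xor x y) = true ∨ inIm b n (Nat.xor (omW x) y) = true ∨
      inIm b n (Nat.xor (omW (omW x)) y) = true := by
  have h1 := (imCls_spec (b := b) hn hn' hx).2 hox
  have ho1 : inIm b n (omW x) = false := by
    rw [← Bool.not_eq_true, (imCls_spec hn hn' (omW_lt hx)).1]; exact h1.1
  have h2 := (imCls_spec (b := b) hn hn' (omW_lt hx)).2 ho1
  have h0 : imCls b n x ≠ (false, false) := fun e => by
    rw [(imCls_spec hn hn' hx).1.2 e] at hox; cases hox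
  have hy0 : imCls b n y ≠ (false, false) := fun e => by
    rw [(imCls_spec hn hn' hy).1.2 e] at hoy; cases hoy
  rw [inIm_xor hn hn' hx hy, inIm_xor hn hn' (omW_lt hx) hy, inIm_xor hn hn' (omW_lt (omW_lt hx)) hy]
  have key : ∀ a c d e : Bool × Bool, a ≠ (false, false) → c ≠ (false, false) → d ≠ (false, false) →
      e ≠ (false, false) → c ≠ a → d ≠ a → d ≠ c → a = e ∨ c = e ∨ d = e := by
    rintro ⟨_ | _, _ | _⟩ ⟨_ | _, _ | _⟩ ⟨_ | _, _ | _⟩ ⟨_ | _, _ | _⟩ <;> simp
  exact key _ _ _ _ h0 h1.1 h2.1 hy0 h1.2.1 h1.2.2 h2.2.1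

end CfsgLib.FischerTwoFour.Cocode
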