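import Cfsg.Agent.Lib.FischerTwoFour.Cocode.Elem
import Cfsg.Agent.Lib.FischerTwoFour.Cocode.Masks

/-!
The types of the elements of a coset `rep n · B`: inside the image they are those of the two
representatives, outside they all agree.
-/

set_option autoImplicit false
set_option linter.unusedSectionVars false

namespace CfsgLib.FischerTwoFour.Cocode

open Subgroup
open Four hiding mul_one one_mul mul_assoc mul_comm mul_zero zero_mul mul_add add_mul

variable {G : Type*} [Group G] {z : G}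

theorem isConj_trans_iff {a b : G} (h : IsConj a b) : IsConj z a ↔ IsConj z b :=
  ⟨fun h' => h'.trans h, fun h' => h'.trans h.symm⟩

theorem isConj_conj_iff (g a : G) : IsConj z (g * a * g⁻¹) ↔ IsConj z a :=
  (isConj_trans_iff (isConj_iff.2 ⟨g, rfl⟩)).symm

theorem flip_mod (c : ℕ) : Nat.xor c 64 % 64 = c % 64 := by
  have h := Nat.xor_mod_two_pow (a := c) (b := 64) (n := 6)
  rw [nxor]
  simpa using h

theorem flip_cases {c x : ℕ} (hc : c < 128) (hx : x < 64) (h : c % 64 = x) :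
    c = x ∨ c = Nat.xor x 64 := by
  have key : ∀ c : Fin 128, c.val = c.val % 64 ∨ c.val = Nat.xor (c.val % 64) 64 := by decide +kernel
  subst h
  exact key ⟨c, hc⟩

variable {Y : Sys z}

namespace AData

variable (D : AData Y)

include D

theorem phi_flip (c : ℕ) : D.phi c * z = D.phi (Nat.xor c 64) := by rw [← D.phi_mul, D.phi_z]

theorem type_sym {c : ℕ} (hc : c < 128) (hc0 : c % 64 ≠ 0) :
    IsConj z (D.phi c) ↔ IsConj z (D.phi c * z) := by
  have h' : Nat.xor c 64 < 128 := xor_lt' (k := 7) hc (by norm_num)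
  rw [D.phi_flip, D.conj_phi hc (by omega), D.conj_phi h' (fun e => hc0 (by rw [← flip_mod, e]))]
  have hs : ∀ x, x < 64 → x ≠ 0 → memL x 0 = memL (Nat.xor x 64) 0 := fun x hx hx0 => by
    have h := List.all_eq_true.1 (isT_spec D.b) x (List.mem_range'_1.2 ⟨by omega, by omega⟩)
    simp only [Bool.and_eq_true, beq_iff_eq] at h
    exact h.1.1.2
  have hs' := hs _ (Nat.mod_lt c (by norm_num)) hc0
  rcases flip_cases hc (Nat.mod_lt c (by norm_num)) rfl with e | e <;> rw [e]
  · rw [hs']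
  · rw [nxor, nxor, Nat.xor_assoc, Nat.xor_self, Nat.xor_zero]; rw [← nxor, hs']

theorem phi_conj_Qg {q : G} (hq : q ∈ Y.Qg) (c : ℕ) :
    q⁻¹ * D.phi c * q = D.phi c ∨ q⁻¹ * D.phi c * q = D.phi (Nat.xor c 64) := by
  rcases Y.comm q⁻¹ (inv_mem hq) (D.phi c) (D.phi_mem c).2 with e | e <;> rw [inv_inv] at e
  · exact Or.inl (mul_inv_eq_one.1 e)
  · refine Or.inr ?_
    rw [← D.phi_flip, Y.zcomm (Y.le_cen (D.phi_mem c).2) (Or.inr rfl)]
    exact eq_mul_of_mul_inv_eq e

variable [Finite G]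

theorem exists_wit {n c : ℕ} (hn : 1 ≤ n) (hn' : n < 16) (hc : c < 128)
    (h : memL c ((pn D.b).getD n 0) = true) :
    ∃ q ∈ Y.Qg, q⁻¹ * D.rep n * q = D.rep n * D.phi c := by
  have hp := pn_spec D.b
  rw [Bool.and_eq_true] at hp
  have h1 := List.all_eq_true.1 hp.2 n (List.mem_range.2 hn')
  rw [Bool.and_eq_true, Nat.ble_eq] at h1
  have hw := List.all_eq_true.1 (wit_spec D.b) (n - 1) (List.mem_range.2 (by omega))
  rw [show n - 1 + 1 = n by omega, Bool.and_eq_true, beq_iff_eq] at hw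
  have hm := List.all_eq_true.1 (List.all_eq_true.1 memL_spec _ (List.mem_range.2 (by omega : (pn D.b).getD n 0 < 16)))
    c (List.mem_range.2 hc)
  rw [beq_iff_eq, h] at hm
  obtain ⟨l, hl, hlc⟩ := List.any_eq_true.1 hm.symm
  obtain ⟨i, hi, rfl⟩ := List.mem_iff_getElem.1 hl
  have h16 : ∀ k, k ≠ 0 → (inCoset k).length = 16 := fun k hk => by
    cases k with
    | zero => exact absurd rfl hk
    | succ k => simp [inCoset]
  have hk0 : (pn D.b).getD n 0 ≠ 0 := fun e => by
    have h2 := h1.2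
    rw [e] at h2
    simp at h2
    omega
  have hi' : i < ((wit D.b).getD (n - 1) []).length := by rw [hw.2, ← h16 _ hk0]; exact hi
  have hz := List.all_eq_true.1 hw.1 ((inCoset ((pn D.b).getD n 0))[i], ((wit D.b).getD (n - 1) [])[i]) (by
    rw [List.mem_iff_getElem]
    exact ⟨i, by rw [List.length_zip]; omega, List.getElem_zip⟩)
  rw [← Nat.eq_of_beq_eq_true hlc]
  exact D.conj_wit hn' hz

/-- Inside the image the two representatives give the types. -/
theorem conj_in {n c : ℕ} (hn : 1 ≤ n) (hn' : n < 16) (hc : c < 128) (h : inIm D.b n (c % 64) = true) :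
    (IsConj (D.rep n) (D.rep n * D.phi c) ∧ IsConj (D.rep n * z) (D.rep n * D.phi c * z)) ∨
      (IsConj (D.rep n * z) (D.rep n * D.phi c) ∧ IsConj (D.rep n) (D.rep n * D.phi c * z)) := by
  have key : ∀ l, l < 128 → memL l ((pn D.b).getD n 0) = true →
      IsConj (D.rep n) (D.rep n * D.phi l) ∧ IsConj (D.rep n * z) (D.rep n * D.phi l * z) := fun l hl hm => by
    obtain ⟨q, hq, e⟩ := D.exists_wit hn hn' hl hm
    refine ⟨isConj_iff.2 ⟨q⁻¹, by rw [inv_inv]; exact e⟩, isConj_iff.2 ⟨q⁻¹, ?_⟩⟩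
    rw [inv_inv, ← e]
    have hz := Y.zcomm (Y.le_cen hq) (Or.inr rfl : InZ z z)
    calc q⁻¹ * (D.rep n * z) * q = q⁻¹ * D.rep n * (z * q) := by group
      _ = q⁻¹ * D.rep n * q * z := by rw [← hz]; group
  have hx : c % 64 < 64 := Nat.mod_lt _ (by norm_num)
  have hflip : ∀ x, Nat.xor (Nat.xor x 64) 64 = x := fun x => by
    rw [nxor, nxor, Nat.xor_assoc, Nat.xor_self, Nat.xor_zero]
  have h' : memL c ((pn D.b).getD n 0) = true ∨ memL (Nat.xor c 64) ((pn D.b).getD n 0) = true := by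
    rw [inIm, Bool.or_eq_true] at h
    rcases flip_cases hc hx rfl with e | e
    · rw [e]; exact h
    · rw [e, hflip]; exact h.symm
  rcases h' with h' | h'
  · exact Or.inl (key c hc h')
  · obtain ⟨k1, k2⟩ := key _ (xor_lt' (k := 7) hc (by norm_num)) h'
    rw [← D.phi_flip] at k1 k2
    refine Or.inr ⟨?_, by rw [mul_assoc]; exact k1⟩
    rwa [mul_assoc, mul_assoc (D.phi c), Y.zz, mul_one] at k2

theorem rep_z (n : ℕ) (c : ℕ) : D.rep n * D.phi c * z = D.rep n * D.phi (Nat.xor c 64) := by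
  rw [mul_assoc, D.phi_flip]

/-- The type outside the image does not depend on the element. -/
theorem conj_uniform {n c d : ℕ} (hn : 1 ≤ n) (hn' : n < 16) (hc : c < 128) (hd : d < 128)
    (hoc : inIm D.b n (c % 64) = false) (hod : inIm D.b n (d % 64) = false) :
    IsConj z (D.rep n * D.phi c) ↔ IsConj z (D.rep n * D.phi d) := by
  let T : ℕ → Prop := fun c => IsConj z (D.rep n * D.phi c)
  have flip : ∀ c, c < 128 → inIm D.b n (c % 64) = false → (T c ↔ T (Nat.xor c 64)) := fun c hc h => by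
    have := isConj_trans_iff (z := z) (D.conj_out hn' hn hc h)
    rwa [D.rep_z] at this
  have low : ∀ c x, c < 128 → x < 64 → c % 64 = x → inIm D.b n x = false → (T c ↔ T x) := by
    intro c x hc hx e h
    rcases flip_cases hc hx e with e' | e' <;> rw [e']
    exact (flip x (by omega) (by rw [Nat.mod_eq_of_lt hx]; exact h)).symm
  have shift : ∀ x y, x < 64 → y < 64 → inIm D.b n x = false → inIm D.b n y = false →
      inIm D.b n (Nat.xor x y) = true → (T x ↔ T y) := by
    intro x y hx hy hox hoy h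
    rw [inIm, Bool.or_eq_true] at h
    have hxy : Nat.xor x y < 64 := xor_lt' (k := 6) hx hy
    obtain ⟨l, hl, hlx, hlm⟩ : ∃ l, l < 128 ∧ l % 64 = Nat.xor x y ∧ memL l ((pn D.b).getD n 0) = true := by
      rcases h with h | h
      · exact ⟨_, by omega, Nat.mod_eq_of_lt hxy, h⟩
      · exact ⟨_, xor_lt' (k := 7) (by omega) (by norm_num), by rw [flip_mod, Nat.mod_eq_of_lt hxy], h⟩
    obtain ⟨q, hq, e⟩ := D.exists_wit hn hn' hl hlm
    have hconj : ∀ c', q⁻¹ * D.phi x * q = D.phi c' → (T x ↔ T (Nat.xor l c')) := fun c' hc' => by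
      have := (isConj_conj_iff (z := z) q⁻¹ (D.rep n * D.phi x)).symm
      rw [inv_inv, show q⁻¹ * (D.rep n * D.phi x) * q = q⁻¹ * D.rep n * q * (q⁻¹ * D.phi x * q) by group,
        e, hc', mul_assoc, D.phi_mul] at this
      exact this
    have hmod : ∀ c', c' % 64 = x → Nat.xor l c' % 64 = y := fun c' hc' => by
      rw [nxor, show (64 : ℕ) = 2 ^ 6 from rfl, Nat.xor_mod_two_pow, show (2 : ℕ) ^ 6 = 64 from rfl, hlx, hc',
        nxor, Nat.xor_comm x y, Nat.xor_assoc, Nat.xor_self, Nat.xor_zero]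
    rcases D.phi_conj_Qg hq x with e' | e'
    · exact (hconj _ e').trans (low _ y (xor_lt' (k := 7) hl (by omega)) hy
        (hmod _ (Nat.mod_eq_of_lt hx)) hoy)
    · exact (hconj _ e').trans (low _ y (xor_lt' (k := 7) hl (xor_lt' (k := 7) (by omega) (by norm_num))) hy
        (hmod _ (by rw [flip_mod, Nat.mod_eq_of_lt hx])) hoy)
  have rot : ∀ x, x < 64 → inIm D.b n x = false → (T x ↔ T (omW x)) ∧ inIm D.b n (omW x) = false := by
    intro x hx hox
    have ho : inIm D.b n (omW x) = false := by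
      rw [← Bool.not_eq_true, (imCls_spec hn hn' (omW_lt hx)).1]
      exact ((imCls_spec hn hn' hx).2 hox).1
    refine ⟨?_, ho⟩
    obtain ⟨-, -, hsh, -⟩ := D.rep_spec hn'
    obtain ⟨c', hc', e⟩ := D.exists_code (D.sh_Bg (D.phi_mem x))
    have hco : D.co (D.phi c') = D.co (D.phi (omW x)) := by
      rw [e, D.co_sh _ (D.phi_mem x).2, D.co_phi, D.co_phi, Nat.mod_eq_of_lt hx,
        Nat.mod_eq_of_lt (omW_lt hx), bwC_omW hx, omV_vecOf (bwC_lt _ _)]
    obtain ⟨s, hs, hs'⟩ := D.co_eq (D.phi_mem c').2 (D.phi_mem (omW x)).2 hco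
    have hconj := (isConj_conj_iff (z := z) Y.ξ (D.rep n * D.phi x)).symm
    rw [show Y.ξ * (D.rep n * D.phi x) * Y.ξ⁻¹ = Y.sh (D.rep n * D.phi x) from rfl, Y.sh_mul, hsh, ← e, hs'] at hconj
    refine hconj.trans ?_
    rcases hs with rfl | rfl
    · rw [one_mul]
    · rw [← Y.zcomm (Y.le_cen (D.phi_mem _).2) (Or.inr rfl), D.phi_flip]
      exact (flip _ (by have := omW_lt hx; omega) (by rw [Nat.mod_eq_of_lt (omW_lt hx)]; exact ho)).symm
  show T c ↔ T d
  have hx : c % 64 < 64 := Nat.mod_lt _ (by norm_num)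
  have hy : d % 64 < 64 := Nat.mod_lt _ (by norm_num)
  refine ((low c _ hc hx rfl hoc).trans ?_).trans (low d _ hd hy rfl hod).symm
  obtain ⟨r1, o1⟩ := rot _ hx hoc
  obtain ⟨r2, o2⟩ := rot _ (omW_lt hx) o1
  rcases class_cases hn hn' hx hy hoc hod with h | h | h
  · exact shift _ _ hx hy hoc hod h
  · exact r1.trans (shift _ _ (omW_lt hx) hy o1 hod h)
  · exact r1.trans (r2.trans (shift _ _ (omW_lt (omW_lt hx)) hy o2 hod h))

end AData

end CfsgLib.FischerTwoFour.Cocode
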