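import Cfsg.Agent.Lib.FischerTwoFour.Cocode.Near

/-!
Counting in `A ∩ Qˢ`: in every coset outside `B` exactly one representative is conjugate to `z`, and
so is every element outside the image.
-/

set_option autoImplicit false
set_option linter.unusedSectionVars false
set_option linter.style.haveILetI false

namespace CfsgLib.FischerTwoFour.Cocode

open Subgroup
open Four hiding mul_one one_mul mul_assoc mul_comm mul_zero zero_mul mul_add add_mul

variable {G : Type*} [Group G] [Finite G] {z : G} {Y : CfsgLib.FischerTwoFour.Sys z}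

theorem ncard_filter_image_le (f : ℕ → G) (p : ℕ → Bool) (k : ℕ)
    (S : Set G) (hS : ∀ x ∈ S, ∃ c, c < k ∧ p c = true ∧ f c = x) :
    S.ncard ≤ ((List.range k).filter p).length := by
  classical
  have hsub : S ⊆ ↑(((List.range k).filter p).toFinset.image f) := fun x hx => by
    obtain ⟨c, hc, hp, e⟩ := hS x hx
    rw [Finset.mem_coe, Finset.mem_image]
    exact ⟨c, List.mem_toFinset.2 (List.mem_filter.2 ⟨List.mem_range.2 hc, hp⟩), e⟩
  refine (Set.ncard_le_ncard hsub (Finset.finite_toSet _)).trans ?_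
  rw [Set.ncard_coe_finset]
  exact Finset.card_image_le.trans (List.toFinset_card_le _)

namespace AData

variable (D : AData Y)

include D

theorem code_of_co {c d : ℕ} (hc : c < 128) (hd : d < 128) (h : D.co (D.phi c) = D.co (D.phi d)) :
    c % 64 = d % 64 := by
  obtain ⟨e, he, h'⟩ := D.co_eq (D.phi_mem c).2 (D.phi_mem d).2 h
  rcases he with rfl | rfl
  · rw [one_mul] at h'; rw [D.phi_inj hc hd h']
  · rw [← Y.zcomm (Y.le_cen (D.phi_mem d).2) (Or.inr rfl), D.phi_flip] at h'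
    rw [D.phi_inj hc (xor_lt' (k := 7) hd (by norm_num)) h', flip_mod]

theorem sh_code {c : ℕ} (hc : c < 128) :
    ∃ c', c' < 128 ∧ D.phi c' = Y.sh (D.phi c) ∧ c' % 64 = omW (c % 64) := by
  obtain ⟨c', hc', e⟩ := D.exists_code (D.sh_Bg (D.phi_mem c))
  have hx : c % 64 < 64 := Nat.mod_lt _ (by norm_num)
  have hlt : omW (c % 64) < 64 := omW_lt hx
  refine ⟨c', hc', e, ?_⟩
  have h := D.code_of_co hc' (show omW (c % 64) < 128 by omega) (by
    rw [e, D.co_sh _ (D.phi_mem c).2, D.co_phi, D.co_phi, Nat.mod_eq_of_lt hlt,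
      bwC_omW hx, omV_vecOf (bwC_lt _ _)])
  rwa [Nat.mod_eq_of_lt hlt] at h

theorem rep_not_Q {n : ℕ} (hn : 1 ≤ n) (hn' : n < 16) {b : G} (hb : b ∈ D.Bg) : D.rep n * b ∉ Y.Qg := by
  intro h
  have h' : D.rep n ∈ Y.Qg := by simpa using mul_mem h (inv_mem hb.2)
  have := D.acts_unique hn' (by norm_num) (D.rep_spec hn').2.1 (D.acts_Qg h')
  omega

theorem rep_phi_ne {n c : ℕ} (hn : 1 ≤ n) (hn' : n < 16) : D.rep n * D.phi c ≠ 1 := fun e =>
  D.rep_not_Q hn hn' (D.phi_mem c) (by rw [e]; exact one_mem _)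

/-- The elements of `A ∩ Qˢ` outside the class of `z`, counted by the type of their translate by `z`. -/
theorem AQ_counts (P : Pt Y) (hs : P.s ∈ D.Bg) :
    {x | x ∈ D.A ⊓ P.Qs ∧ x ≠ 1 ∧ ¬ IsConj z x ∧ x * z ≠ 1 ∧ ¬ IsConj z (x * z)}.ncard ≤ 12 ∧
      24 ≤ {x | x ∈ D.A ⊓ P.Qs ∧ x ≠ 1 ∧ ¬ IsConj z x ∧ IsConj z (x * z)}.ncard := by
  classical
  obtain ⟨h, hz, -, hmem⟩ := D.AQ_codes P hs
  obtain ⟨d, hd, hdz⟩ := (hmem z).1 ⟨(D.inZ_Bg (Or.inr rfl)).1, P.z_mem.2⟩
  have hconj : ∀ c, IsConj z (h * D.phi c * h⁻¹) ↔ IsConj z (D.phi c) := fun c => isConj_conj_iff h _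
  have hmul : ∀ c, h * D.phi c * h⁻¹ * z = h * D.phi (Nat.xor c d) * h⁻¹ := fun c => by
    calc h * D.phi c * h⁻¹ * z = h * D.phi c * h⁻¹ * (h * D.phi d * h⁻¹) := by rw [hdz]
      _ = h * (D.phi c * D.phi d) * h⁻¹ := by group
      _ = _ := by rw [D.phi_mul]
  have hd0 : d ≠ 0 := fun e => Y.z1 (by rw [← hdz, e, D.phi_zero]; group)
  have hd64 : d ≠ 64 := fun e => P.sz (by rw [← hz, ← D.phi_z, ← e, hdz, e, D.phi_z])
  have hdL : memL d 0 = false := (D.conj_phi hd hd0).1 ((hconj d).1 (by rw [hdz]))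
  have hcount := List.all_eq_true.1 pair_count d (List.mem_range.2 hd)
  simp only [Bool.or_eq_true, hdL, Bool.false_eq_true, beq_iff_eq, hd0, hd64, false_or, Bool.and_eq_true] at hcount
  have hmemL : ∀ c, c < 128 → h * D.phi c * h⁻¹ ≠ 1 → ¬ IsConj z (h * D.phi c * h⁻¹) → memL c 0 = true := by
    intro c hc h1 h2
    have hc0 : c ≠ 0 := fun e => h1 (by rw [e, D.phi_zero]; group)
    rw [hconj, D.conj_phi hc hc0] at h2
    simpa using h2
  have h00 : memL 0 0 = false := by decide +kernel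
  constructor
  · refine le_trans (ncard_filter_image_le (fun c => h * D.phi c * h⁻¹)
      (fun c => memL c 0 && memL (Nat.xor c d) 0) 128 _ ?_) hcount.2.le
    rintro x ⟨hx, h1, h2, h3, h4⟩
    obtain ⟨c, hc, rfl⟩ := (hmem x).1 hx
    rw [hmul] at h3 h4
    refine ⟨c, hc, ?_, rfl⟩
    rw [hmemL c hc h1 h2, hmemL _ (xor_lt' (k := 7) hc hd) h3 h4]
    rfl
  · set l := (List.range 128).filter fun c => memL c 0 && !memL (Nat.xor c d) 0
    have hl : (l.toFinset.image fun c => h * D.phi c * h⁻¹).card = 24 := by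
      rw [Finset.card_image_of_injOn, List.toFinset_card_of_nodup (List.nodup_range.filter _), hcount.1]
      intro a ha b hb e
      rw [Finset.mem_coe, List.mem_toFinset, List.mem_filter, List.mem_range] at ha hb
      exact D.phi_inj ha.1 hb.1 (mul_left_cancel (mul_right_cancel e))
    rw [← hl, ← Set.ncard_coe_finset]
    refine Set.ncard_le_ncard ?_ (Set.toFinite _)
    intro x hx
    rw [Finset.mem_coe, Finset.mem_image] at hx
    obtain ⟨c, hc, rfl⟩ := hx
    rw [List.mem_toFinset, List.mem_filter, List.mem_range, Bool.and_eq_true, Bool.not_eq_true'] at hc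
    obtain ⟨hc, hcL, hcd⟩ := hc
    have hc0 : c ≠ 0 := fun e => by rw [e, h00] at hcL; cases hcL
    have hcd0 : Nat.xor c d ≠ 0 := fun e => by
      rw [Nat.xor_eq_zero_iff.1 e, hdL] at hcL; cases hcL
    refine ⟨(hmem _).2 ⟨c, hc, rfl⟩, fun e => hc0 (D.phi_inj hc (by norm_num) ?_), fun e => ?_, ?_⟩
    · rw [D.phi_zero]; exact conj_eq_one_iff.1 e
    · rw [hconj, D.conj_phi hc hc0, hcL] at e
      cases e
    · rw [hmul, hconj, D.conj_phi (xor_lt' (k := 7) hc hd) hcd0]
      exact hcd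

/-- The types in the coset of a representative. -/
theorem rep_types {n : ℕ} (hn : 1 ≤ n) (hn' : n < 16) (P : Pt Y)
    (hP : P.s = D.lift ((radT D.b).getD (n - 1) (0, [])).1) :
    (IsConj z (D.rep n) ↔ ¬ IsConj z (D.rep n * z)) ∧
      ∀ c, c < 128 → inIm D.b n (c % 64) = false → IsConj z (D.rep n * D.phi c) := by
  classical
  haveI := Fintype.ofFinite G
  set r := ((radT D.b).getD (n - 1) (0, [])).1
  set ys := ((radT D.b).getD (n - 1) (0, [])).2
  have hrad := List.all_eq_true.1 (rad_spec D.b) (n - 1) (List.mem_range.2 (by omega))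
  simp only [Bool.and_eq_true, Nat.ble_eq, Bool.not_eq_true', beq_iff_eq, List.all_eq_true] at hrad
  obtain ⟨⟨⟨⟨⟨hr1, hr64⟩, -⟩, hradn⟩, hys⟩, hlen⟩ := hrad
  rw [show n - 1 + 1 = n by omega] at hradn
  have hr : r < 64 := by omega
  have hs : P.s ∈ D.Bg := hP ▸ (D.lift_spec r).1
  have hco : D.co P.s = vecOf (bwC D.b r) := by rw [hP, (D.lift_spec r).2.1, Nat.mod_eq_of_lt hr]
  have hys' : ∀ y ∈ ys, y < 4096 ∧ btC y (bwC D.b r) = false ∧ btC y (omC (bwC D.b r)) = false :=
    fun y hy => ⟨by have := (hys y hy).1.1; omega, (hys y hy).1.2, (hys y hy).2⟩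
  set L4 := ((List.range 16).filter (radOK D.b r ys)).toFinset with hL4
  have hL4card : L4.card = 4 := by
    rw [hL4, List.toFinset_card_of_nodup (List.nodup_range.filter _)]; exact hlen
  have hnL : n ∈ L4 := by
    rw [hL4, List.mem_toFinset, List.mem_filter, List.mem_range]; exact ⟨hn', hradn⟩
  set S := D.A ⊓ P.Qs with hS
  set Dd := D.Bg ⊓ P.Qs with hDd
  have hDS : Dd ≤ S := fun x hx => ⟨hx.1.1, hx.2⟩
  have hm : ∀ x : S, ∃ m : L4, D.Acts (x : G) m.1 ∧ m.1 < 16 ∧ D.rep m.1 * x ∈ Dd ∧ D.rep m.1 ∈ S := fun x => by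
    obtain ⟨m, hm, hact⟩ := D.A_act (x : G) x.2.1
    have hmL : m ∈ L4 := by
      rw [hL4, List.mem_toFinset, List.mem_filter, List.mem_range]
      exact ⟨hm, D.radOK_of P hs hr hco hys' x.2 hm hact⟩
    exact ⟨⟨m, hmL⟩, hact, hm, (D.rep_mem_of P hs x.2 hm hact).2, (D.rep_mem_of P hs x.2 hm hact).1⟩
  choose μ hμ using hm
  let f : S → L4 × Dd := fun x => (μ x, ⟨_, (hμ x).2.2.1⟩)
  have hf : Function.Injective f := fun x y e => by
    have e1 : μ x = μ y := congrArg Prod.fst e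
    have e2 : D.rep (μ x).1 * (x : G) = D.rep (μ y).1 * (y : G) := congrArg Subtype.val (congrArg Prod.snd e)
    rw [e1] at e2
    exact Subtype.ext (mul_left_cancel e2)
  have hcS : Nat.card S = 128 := by
    obtain ⟨_, -, h, -⟩ := D.AQ_codes P hs
    exact h
  obtain ⟨hD32, hDsh⟩ : Nat.card Dd ≤ 32 ∧ (Nat.card Dd = 32 → ∃ x ∈ Dd, Y.sh x ∉ Dd) := D.card_BR P hs
  have hprod : Nat.card (L4 × Dd) = 4 * Nat.card Dd := by
    rw [Nat.card_prod, Nat.card_eq_finsetCard, hL4card]
  have hDeq : Nat.card Dd = 32 := by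
    have := Nat.card_le_card_of_injective f hf
    rw [hcS, hprod] at this
    omega
  have hbij : Function.Bijective f := (Nat.bijective_iff_injective_and_card f).2 ⟨hf, by
    rw [hcS, hprod, hDeq]⟩
  have hrepS : ∀ m ∈ L4, D.rep m ∈ S := fun m hm => by
    obtain ⟨x, hx⟩ := hbij.2 (⟨m, hm⟩, ⟨1, one_mem _⟩)
    have e : μ x = ⟨m, hm⟩ := congrArg Prod.fst hx
    have := (hμ x).2.2.2
    rwa [e] at this
  have hzD : z ∈ Dd := ⟨D.inZ_Bg (Or.inr rfl), P.z_mem.2⟩
  obtain ⟨h12, h24⟩ := D.AQ_counts P hs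
  set Single : Set G := {x | x ∈ S ∧ x ≠ 1 ∧ ¬ IsConj z x ∧ IsConj z (x * z)}
  -- in one coset
  have coset : ∀ m ∈ L4, 1 ≤ m → m < 16 →
      (∀ c, c < 128 → inIm D.b m (c % 64) = false → IsConj z (D.rep m * D.phi c)) ∧
      {x | x ∈ Single ∧ D.Acts x m}.ncard ≤ 8 := by
    intro m hmL hm1 hm16
    let In : Set G := {x | ∃ c, c < 128 ∧ inIm D.b m (c % 64) = true ∧ D.phi c = x}
    have hIn : In.ncard ≤ 32 := by
      have h := List.all_eq_true.1 (im_card D.b) (m - 1) (List.mem_range.2 (by omega))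
      rw [show m - 1 + 1 = m by omega, beq_iff_eq] at h
      exact (ncard_filter_image_le D.phi (fun c => inIm D.b m (c % 64)) 128 In fun x hx => hx).trans h.le
    obtain ⟨d, hdD, hdI⟩ : ∃ d ∈ Dd, d ∉ In := by
      by_contra hcon
      push Not at hcon
      have heq : (Dd : Set G) = In := Set.eq_of_subset_of_ncard_le hcon (by
        rw [← Nat.card_coe_set_eq (Dd : Set G)]; exact hIn.trans hDeq.ge) (Set.toFinite _)
      obtain ⟨x, hx, hxn⟩ := hDsh hDeq
      refine hxn ?_
      rw [← SetLike.mem_coe, heq] at hx ⊢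
      obtain ⟨c, hc, hci, rfl⟩ := hx
      obtain ⟨c', hc', e, hmod⟩ := D.sh_code hc
      refine ⟨c', hc', ?_, e⟩
      rw [hmod]
      by_contra ho
      rw [Bool.not_eq_true] at ho
      -- the classes of a class zero element stay zero
      have hx : c % 64 < 64 := Nat.mod_lt _ (by norm_num)
      have h3 : omW (omW (omW (c % 64))) = c % 64 :=
        (by decide +kernel : ∀ x : Fin 64, omW (omW (omW x.val)) = x.val) ⟨_, hx⟩
      have h1 := (imCls_spec hm1 hm16 (omW_lt hx)).2 ho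
      have ho2 : inIm D.b m (omW (omW (c % 64))) = false := by
        rw [← Bool.not_eq_true, (imCls_spec hm1 hm16 (omW_lt (omW_lt hx))).1]; exact h1.1
      have h2 := (imCls_spec hm1 hm16 (omW_lt (omW_lt hx))).2 ho2
      rw [h3, (imCls_spec hm1 hm16 hx).1.1 hci] at h2
      exact h2.1 rfl
    obtain ⟨cd', hcd, rfl⟩ := D.exists_code hdD.1
    have hdo : inIm D.b m (cd' % 64) = false := by
      rw [← Bool.not_eq_true]; exact fun h => hdI ⟨cd', hcd, h, rfl⟩
    set In' : Set G := {x | x ∈ Dd ∧ x ∈ In}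
    set Out : Set G := {x | x ∈ Dd ∧ x ∉ In}
    have hio : In'.ncard + Out.ncard = 32 := by
      rw [← hDeq, ← Set.ncard_union_eq (by
        rw [Set.disjoint_left]; exact fun x hx hx' => hx'.2 hx.2) (Set.toFinite _) (Set.toFinite _)]
      refine congrArg Set.ncard (Set.ext fun x => ?_) |>.trans (Nat.card_coe_set_eq (Dd : Set G)).symm
      simp only [In', Out, Set.mem_union, Set.mem_ofPred_eq, SetLike.mem_coe]
      tauto
    have hmove : In'.ncard ≤ Out.ncard := by
      refine Set.ncard_le_ncard_of_injOn (fun x => x * D.phi cd') ?_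
        (fun a _ b _ e => mul_right_cancel e) (Set.toFinite _)
      rintro x ⟨hxD, c, hc, hci, rfl⟩
      refine ⟨mul_mem hxD hdD, ?_⟩
      rintro ⟨c', hc', hci', e⟩
      rw [D.phi_mul] at e
      have := D.phi_inj hc' (xor_lt' (k := 7) hc hcd) e
      have hx : c % 64 < 64 := Nat.mod_lt _ (by norm_num)
      have hy : cd' % 64 < 64 := Nat.mod_lt _ (by norm_num)
      rw [this, nxor, show (64 : ℕ) = 2 ^ 6 from rfl, Nat.xor_mod_two_pow,
        show (2 : ℕ) ^ 6 = 64 from rfl, ← nxor, inIm_xor hm1 hm16 hx hy] at hci'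
      rw [(imCls_spec hm1 hm16 hx).1.1 hci] at hci'
      rw [(imCls_spec hm1 hm16 hy).1.2 hci'.symm] at hdo
      cases hdo
    have houtconj : ∀ c, c < 128 → inIm D.b m (c % 64) = false → IsConj z (D.rep m * D.phi c) := by
      intro c hc hco'
      by_contra hcon
      have hsub : (fun x => D.rep m * x) '' Out ⊆
          {x | x ∈ S ∧ x ≠ 1 ∧ ¬ IsConj z x ∧ x * z ≠ 1 ∧ ¬ IsConj z (x * z)} := by
        rintro _ ⟨x, ⟨hxD, hxI⟩, rfl⟩
        obtain ⟨c', hc', rfl⟩ := D.exists_code hxD.1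
        have ho' : inIm D.b m (c' % 64) = false := by
          rw [← Bool.not_eq_true]; exact fun h => hxI ⟨c', hc', h, rfl⟩
        refine ⟨mul_mem (hrepS m hmL) (hDS hxD), D.rep_phi_ne hm1 hm16,
          fun h => hcon ((D.conj_uniform hm1 hm16 hc hc' hco' ho').2 h), ?_, fun h => hcon ?_⟩
        · show D.rep m * D.phi c' * z ≠ 1
          rw [D.rep_z]; exact D.rep_phi_ne hm1 hm16
        · rw [D.rep_z] at h
          exact (D.conj_uniform hm1 hm16 hc (xor_lt' (k := 7) hc' (by norm_num)) hco'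
            (by rw [flip_mod]; exact ho')).2 h
      have h16 := (Set.ncard_le_ncard hsub (Set.toFinite _)).trans h12
      rw [Set.ncard_image_of_injective _ (mul_right_injective _)] at h16
      omega
    refine ⟨houtconj, ?_⟩
    set T : Set G := {x | x ∈ Single ∧ D.Acts x m}
    have hT : T ∪ (fun x => x * z) '' T ⊆ (fun x => D.rep m * x) '' In' := by
      have key : ∀ x ∈ T, D.rep m * x ∈ In' := by
        rintro x ⟨⟨hxS, -, hxc, -⟩, hact⟩
        have hd := (D.rep_mem_of P hs hxS hm16 hact).2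
        obtain ⟨c, hc, e⟩ := D.exists_code hd.1
        refine ⟨hd, c, hc, ?_, e⟩
        by_contra ho
        rw [Bool.not_eq_true] at ho
        refine hxc ?_
        have := houtconj c hc ho
        rwa [e, ← mul_assoc, D.A_sq _ (D.rep_spec hm16).1, one_mul] at this
      have back : ∀ x, D.rep m * (D.rep m * x) = x := fun x => by
        rw [← mul_assoc, D.A_sq _ (D.rep_spec hm16).1, one_mul]
      rintro y (hy | ⟨x, hx, rfl⟩)
      · exact ⟨_, key y hy, back y⟩
      · obtain ⟨hxD, c, hc, hci, e⟩ := key x hx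
        refine ⟨D.rep m * x * z, ⟨mul_mem hxD hzD, Nat.xor c 64, xor_lt' (k := 7) hc (by norm_num),
          by rw [flip_mod]; exact hci, by rw [← D.phi_flip, e]⟩, ?_⟩
        show D.rep m * (D.rep m * x * z) = x * z
        rw [mul_assoc (D.rep m), back]
    have hdis : Disjoint T ((fun x => x * z) '' T) := by
      rw [Set.disjoint_left]
      rintro y hy ⟨x, hx, rfl⟩
      exact hy.1.2.2.1 hx.1.2.2.2
    have h2 := Set.ncard_le_ncard hT (Set.toFinite _)
    rw [Set.ncard_union_eq hdis (Set.toFinite _) (Set.toFinite _),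
      Set.ncard_image_of_injective _ (mul_left_injective _),
      Set.ncard_image_of_injective _ (mul_right_injective _)] at h2
    omega
  refine ⟨?_, (coset n hnL hn hn').1⟩
  -- the single elements meet the coset of `n`
  obtain ⟨x, hx, hact⟩ : ∃ x ∈ Single, D.Acts x n := by
    by_contra hno
    push Not at hno
    let L' := (L4.erase n).erase 0
    have hsub : Single ⊆ ⋃ m ∈ L', {x | x ∈ Single ∧ D.Acts x m} := by
      intro x hx
      obtain ⟨hact, hm16, -, -⟩ := hμ ⟨x, hx.1⟩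
      set m := (μ ⟨x, hx.1⟩).1
      have hm0 : m ≠ 0 := by
        intro e
        rw [e] at hact
        have hxB : x ∈ D.Bg := ⟨hx.1.1, (D.acts_zero_iff hx.1.1).1 hact⟩
        obtain ⟨c, hc, rfl⟩ := D.exists_code hxB
        by_cases h0 : c % 64 = 0
        · rcases flip_cases hc (by norm_num) h0 with rfl | rfl
          · exact hx.2.1 D.phi_zero
          · exact hx.2.2.1 (by rw [show Nat.xor 0 64 = 64 from rfl, D.phi_z])
        · exact hx.2.2.1 ((D.type_sym hc h0).2 hx.2.2.2)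
      exact Set.mem_biUnion (Finset.mem_erase.2 ⟨hm0, Finset.mem_erase.2
        ⟨fun e => hno x hx (e ▸ hact), (μ ⟨x, hx.1⟩).2⟩⟩) ⟨hx, hact⟩
    have hle : Single.ncard ≤ ∑ m ∈ L', {x | x ∈ Single ∧ D.Acts x m}.ncard :=
      (Set.ncard_le_ncard hsub (Set.toFinite _)).trans (Finset.set_ncard_biUnion_le _ _)
    have h0L : 0 ∈ L4.erase n := by
      refine Finset.mem_erase.2 ⟨by omega, ?_⟩
      have h0 := D.radOK_of P hs hr hco hys' (a := 1) (one_mem _) (m := 0) (by norm_num) (D.acts_Qg (one_mem _))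
      rw [hL4, List.mem_toFinset, List.mem_filter, List.mem_range]
      exact ⟨by norm_num, h0⟩
    have hc2 : L'.card = 2 := by
      rw [Finset.card_erase_of_mem h0L, Finset.card_erase_of_mem hnL, hL4card]
    have h16 : ∑ m ∈ L', {x | x ∈ Single ∧ D.Acts x m}.ncard ≤ ∑ _m ∈ L', 8 := by
      refine Finset.sum_le_sum fun m hm => ?_
      obtain ⟨hm0, hm'⟩ := Finset.mem_erase.1 hm
      have hmL := (Finset.mem_erase.1 hm').2
      have : m < 16 := by
        rw [hL4, List.mem_toFinset, List.mem_filter, List.mem_range] at hmL; exact hmL.1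
      exact (coset m hmL (by omega) this).2
    rw [Finset.sum_const, hc2, smul_eq_mul] at h16
    omega
  obtain ⟨hxS, -, hxc, hxz⟩ := hx
  have hd := (D.rep_mem_of P hs hxS hn' hact).2
  obtain ⟨c, hc, e⟩ := D.exists_code hd.1
  have hxe : x = D.rep n * D.phi c := by rw [e, ← mul_assoc, D.A_sq _ (D.rep_spec hn').1, one_mul]
  by_cases hci : inIm D.b n (c % 64) = true
  · rw [hxe] at hxc hxz
    rcases D.conj_in hn hn' hc hci with ⟨h1, h2⟩ | ⟨h1, h2⟩ <;>
      rw [← isConj_trans_iff h1] at hxc <;> rw [← isConj_trans_iff h2] at hxz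
    · exact ⟨fun h => absurd h hxc, fun h => absurd hxz h⟩
    · exact ⟨fun _ => hxc, fun _ => hxz⟩
  · rw [Bool.not_eq_true] at hci
    exact absurd ((coset n hnL hn hn').1 c hc hci) (hxe ▸ hxc)

end AData

end CfsgLib.FischerTwoFour.Cocode
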