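import Cfsg.Agent.Lib.FischerTwoFour.Symm
import Cfsg.Agent.Lib.FischerTwoFour.Cocode.Coords

/-!
The coordinates of `Q / Z(Q)` in a group of large Fischer type together with the elementary subgroup
of order `2^11`: the facts from which the cocode is recognised.
-/

set_option autoImplicit false

namespace CfsgLib.FischerTwoFour.Cocode

open Four

variable {G : Type*} [Group G] {z : G}

/-- A vector is constant on the pairs `01`, `23`, `45`. -/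
def IsFlat (x : Vec) : Prop := x 0 = x 1 ∧ x 2 = x 3 ∧ x 4 = x 5

/-- Coordinates of `Q / ⟨z⟩` and the subgroup `A` over the monomial group of order sixteen. -/
structure AData (Y : CfsgLib.FischerTwoFour.Sys z) where
  co : G → Vec
  co_mul : ∀ p ∈ Y.Qg, ∀ q ∈ Y.Qg, co (p * q) = co p + co q
  co_zero : ∀ q ∈ Y.Qg, (co q = 0 ↔ InZ z q)
  co_surj : ∀ x : Vec, ∃ q ∈ Y.Qg, co q = x
  co_sh : ∀ q ∈ Y.Qg, co (Y.sh q) = omV (co q)
  co_comm : ∀ p ∈ Y.Qg, ∀ q ∈ Y.Qg, (p * q = q * p ↔ btV (co p) (co q) = 0)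
  co_sq : ∀ q ∈ Y.Qg, (q * q = 1 ↔ ∑ i, nz (co q i) = 0)
  b : Bool
  co_conj : ∀ q ∈ Y.Qg, IsFlat (co q) → co q ≠ 0 → (IsConj z q ↔ isT b (co q) = false)
  A : Subgroup G
  A_le : A ≤ Y.M
  A_sq : ∀ a ∈ A, a * a = 1
  A_card : Nat.card A = 2048
  A_Q : ∀ q ∈ Y.Qg, (q ∈ A ↔ IsFlat (co q))
  A_act : ∀ a ∈ A, ∃ n, n < 16 ∧ ∀ q ∈ Y.Qg, co (a * q * a⁻¹) = Rf b n (co q)
  act_A : ∀ n, n < 16 → ∃ a ∈ A, ∀ q ∈ Y.Qg, co (a * q * a⁻¹) = Rf b n (co q)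
  A_full : ∀ c ∈ Subgroup.centralizer ({z} : Set G),
    (∀ q ∈ Y.Qg, IsFlat (co q) → co (c * q * c⁻¹) = co q) → ∃ a ∈ A, a * c ∈ Y.Qg
  A_unique : ∀ P E : Subgroup G, P ≤ Subgroup.centralizer ({z} : Set G) → IsPGroup 2 P → A ≤ P → E ≤ P →
    (∀ a ∈ E, a * a = 1) → Nat.card E = 2048 → E = A

end CfsgLib.FischerTwoFour.Cocode
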