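import Cfsg.Agent.Lib.FischerTwoFour.Cocode.Coords

/-!
Certificates in the monomial model for building the coordinate data of the cocode: the two classes of
vectors constant on the pairs, and the translations on the pairs `01` and `45`.
-/

set_option autoImplicit false
set_option maxRecDepth 100000
set_option Elab.async false

namespace CfsgLib.FischerTwoFour.Cocode

open Four

/-- The translation on the pair `01`. -/
def D01 (b : Bool) : Vec := pairV (muOf b) 0 1 + cst one

/-- The translation on the pair `45`. -/
def D45 (b : Bool) : Vec := pairV (muOf b) 4 5 + cst one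

/-- A vector constant on the pairs. -/
def flatV (p q r : K4) : Vec := ![p, p, q, q, r, r]

/-- A vector of weight two moved to full weight by the translation on `01`. -/
def srcT : Vec := pairV one 0 4

/-- A vector of weight four moved to full weight by the translation on `01`. -/
def srcZ : Vec := pairV one 0 4 + pairV one 3 5

/-- Four even permutations bringing the images to vectors constant on the pairs. -/
def mv : Fin 4 → Fin 6 → Fin 6 := ![![0, 4, 1, 2, 5, 3], ![1, 2, 0, 4, 5, 3], ![0, 3, 4, 5, 1, 2], ![1, 2, 3, 5, 4, 0]]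

/-- The inverses of `mv`. -/
def mvInv : Fin 4 → Fin 6 → Fin 6 := ![![0, 2, 3, 5, 1, 4], ![2, 0, 1, 5, 3, 4], ![0, 4, 5, 1, 2, 3], ![5, 0, 1, 2, 4, 3]]

theorem mv_spec : ∀ j, (∀ i, mv j (mvInv j i) = i) ∧ ∀ i, mvInv j (mv j i) = i := by decide +kernel

theorem src_spec : wtV srcT = 2 ∧ wtV srcZ = 4 := by decide +kernel

/-- Multiplication by a power of `ω`. -/
def omPow (k : Fin 3) (x : Vec) : Vec := omV^[k.val] x

set_option synthInstance.maxSize 1000 in
/-- The class of a vector constant on the pairs. -/
theorem flat_class : ∀ b, ∀ p q r : K4, flatV p q r ≠ 0 →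
    (isT b (flatV p q r) = true → wtV (flatV p q r) = 2 ∨
      ∃ k : Fin 3, ∃ j : Fin 4, ∀ i, flatV p q r i = omPow k (act (D01 b) srcT) (mv j i)) ∧
    (isT b (flatV p q r) = false → wtV (flatV p q r) = 4 ∨
      (wtV (flatV p q r) = 6 ∧ clsV (flatV p q r) = 0) ∨
      ∃ k : Fin 3, ∃ j : Fin 4, ∀ i, flatV p q r i = omPow k (act (D01 b) srcZ) (mv j i)) := by
  decide +kernel

/-- The exchange of the pairs `01` and `45`. -/
def sw45 : Fin 6 → Fin 6 := ![4, 5, 2, 3, 0, 1]

theorem conj45 : ∀ b i, act (D01 b) (fun k => one1 2 one (sw45 k)) (sw45 i) + one1 2 one i = D45 b i := by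
  decide +kernel

theorem muOf_ne : ∀ b, muOf b ≠ 0 := by decide

end CfsgLib.FischerTwoFour.Cocode
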