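import Cfsg.Agent.Lib.FischerTwoFour.Lifts
import Cfsg.Agent.Lib.FischerTwoFour.Cocode.Bits
import Cfsg.Agent.Lib.FischerTwoFour.Cocode.DataModel

/-!
In the monomial coordinates: the class of a vector constant on the base pairs, and the subgroup fixing
those vectors as the sixteen explicit maps.
-/

set_option autoImplicit false
set_option linter.unusedSectionVars false

universe u

namespace CfsgLib.FischerTwoFour

open Four hiding mul_one one_mul mul_assoc mul_comm mul_zero zero_mul mul_add add_mul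

theorem QRep.card_stab_eq {H V : Type*} [Group H] [Finite H] [AddCommGroup V] [Finite V] (R : QRep H V) {v w : V}
    (h : R.Rel v w) : Nat.card (R.stab w) = Nat.card (R.stab v) := by
  classical
  haveI := Fintype.ofFinite V
  have hv := R.card_stab_mul v
  have hw := R.card_stab_mul w
  have ho : R.orb w = R.orb v := Finset.ext fun x => by
    rw [QRep.mem_orb, QRep.mem_orb]
    exact ⟨fun h' => h.trans R h', fun h' => (h.symm R).trans R h'⟩
  rw [ho, ← hv] at hw
  have hpos : 0 < (R.orb v).card := Finset.card_pos.2 ⟨v, (QRep.mem_orb R).2 ⟨1, R.one_apply v⟩⟩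
  exact Nat.eq_of_mul_eq_mul_right hpos hw

theorem flat_base {x : Vec} : IsFlat base x ↔ Cocode.IsFlat x := by
  constructor
  · intro h
    exact ⟨h 1, h 3, h 5⟩
  · rintro ⟨h0, h2, h4⟩ i
    fin_cases i
    · exact h0.symm
    · exact h0
    · exact h2.symm
    · exact h2
    · exact h4.symm
    · exact h4

theorem flat_form {x : Vec} (hx : Cocode.IsFlat x) : x = Cocode.flatV (x 0) (x 2) (x 4) := by
  obtain ⟨h0, h2, h4⟩ := hx
  funext i
  fin_cases i
  · rfl
  · exact h0.symm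
  · rfl
  · exact h2.symm
  · rfl
  · exact h4.symm

theorem flat_nz {x : Vec} (hx : Cocode.IsFlat x) : ∑ i, nz (x i) = 0 := by
  rw [Fin.sum_univ_six, hx.1, hx.2.1, hx.2.2, add_assoc (_ + _ + _ + _)]
  generalize nz (x 1) = a, nz (x 3) = c, nz (x 5) = e
  revert a c e
  decide

theorem flat_bt {x y : Vec} (hx : Cocode.IsFlat x) (hy : Cocode.IsFlat y) : btV x y = 0 := by
  rw [btV, Fin.sum_univ_six, hx.1, hx.2.1, hx.2.2, hy.1, hy.2.1, hy.2.2]
  generalize bt (x 1) (y 1) = a, bt (x 3) (y 3) = c, bt (x 5) (y 5) = e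
  revert a c e
  decide

variable {C : Type u} [Group C] [Finite C] {Q : Subgroup C} [Q.Normal] {S : Shape Q} (G : Geo S)

namespace Geo

/-- The translation on the pair `01` is the one given by `b`. -/
def IsBase (b : Bool) : Prop := ∃ h ∈ G.K.S, G.K.D h = Cocode.D01 b

theorem exists_base : ∃ b, G.IsBase b := by
  obtain ⟨μ, hμ, -, hall⟩ := G.K.exists_pattern
  have hμ0 : μ ≠ 0 := by rcases hμ with rfl | rfl <;> decide
  obtain ⟨h, hh, hP⟩ := exists_pat hμ0 hall (P := ![1, 1, 0, 0, 0, 0]) (by decide)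
  have hD : G.K.D h = pairV μ 0 1 + cst (G.K.D h 2) := by
    rw [(hall h hh).2, hP]
    congr 1
    · funext i; fin_cases i <;> rfl
    · simp [patV, cst]
  rcases G.K.forced_pair h hh _ hD with ⟨e, -⟩ | ⟨-, e⟩
  · exact absurd e hμ0
  rw [e] at hD
  rcases hμ with rfl | rfl
  · exact ⟨false, h, hh, hD⟩
  · exact ⟨true, h, hh, hD⟩

theorem relC {u w : VQ Q} (h : (S.rep.sub G.Mb).Rel u w) : S.rep.Rel u w := by
  obtain ⟨g, hg⟩ := h
  exact ⟨g, hg⟩

theorem rel_step {x y : Vec} (h : G.Mb) (e : G.K.img h x = y) : (S.rep.sub G.Mb).Rel (G.K.e x) (G.K.e y) :=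
  ⟨h, by rw [← e, G.K.e_img]⟩

theorem rel_omPow (k : Fin 3) (x : Vec) : (S.rep.sub G.Mb).Rel (G.K.e x) (G.K.e (Cocode.omPow k x)) := by
  have h : ∀ n : ℕ, (S.rep.sub G.Mb).Rel (G.K.e x) (G.K.e (omV^[n] x)) := by
    intro n
    induction n with
    | zero => exact ⟨1, (S.rep.sub G.Mb).one_apply _⟩
    | succ n ih =>
      refine ih.trans _ ⟨G.K.t, ?_⟩
      rw [Function.iterate_succ_apply']
      exact G.K.e_om _
  exact h k.val

theorem rel_mv (j : Fin 4) {x y : Vec} (e : ∀ i, y i = x (Cocode.mv j i)) :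
    (S.rep.sub G.Mb).Rel (G.K.e x) (G.K.e y) := by
  let π : Equiv.Perm (Fin 6) := ⟨Cocode.mvInv j, Cocode.mv j, (Cocode.mv_spec j).1, (Cocode.mv_spec j).2⟩
  have hπ : Equiv.Perm.sign π = 1 := by
    revert π
    clear e
    fin_cases j <;> decide +kernel
  refine ⟨G.K.p ⟨π, Equiv.Perm.mem_alternatingGroup.2 hπ⟩, ?_⟩
  rw [G.K.p_e]
  exact congrArg G.K.e (funext fun i => (e i).symm)

/-- The stabiliser of a vector constant on the base pairs has order `11520` exactly off the class `T`. -/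
theorem class_flat {b : Bool} (hb : G.IsBase b) {x : Vec} (hx : Cocode.IsFlat x) (hx0 : x ≠ 0) :
    Nat.card (S.rep.stab (G.K.e x)) = 11520 ↔ Cocode.isT b x = false := by
  classical
  have : Fintype (VQ Q) := Fintype.ofFinite _
  obtain ⟨h, hh, hD⟩ := hb
  have hstep : ∀ {y : Vec} (k : Fin 3) (j : Fin 4) (s : Vec),
      (∀ i, y i = Cocode.omPow k (act (Cocode.D01 b) s) (Cocode.mv j i)) →
      (S.rep.sub G.Mb).Rel (G.K.e s) (G.K.e y) := fun {y} k j s e =>
    ((G.rel_step h (x := s) (by rw [G.K.img_S hh, hD])).trans _ (G.rel_omPow k _)).trans _ (G.rel_mv j e)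
  have hform := flat_form hx
  obtain ⟨hT, hZ⟩ := Cocode.flat_class b (x 0) (x 2) (x 4) (by rw [← hform]; exact hx0)
  rw [← hform] at hT hZ
  constructor
  · intro hcard
    cases hiT : Cocode.isT b x
    · rfl
    exfalso
    obtain ⟨w, hw, hwx⟩ : ∃ w, wtV w = 2 ∧ (S.rep.sub G.Mb).Rel (G.K.e w) (G.K.e x) := by
      rcases hT hiT with h2 | ⟨k, j, e⟩
      · exact ⟨x, h2, 1, (S.rep.sub G.Mb).one_apply _⟩
      · exact ⟨_, Cocode.src_spec.1, hstep k j _ e⟩
    -- the orbit of `v` is the same in `C / Q` and in `M / Q`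
    obtain ⟨u₁, u₂, c1, c2, -, -, n1, n2, hcov, -⟩ := S.orbit_data.2
    have hv0 : G.K.v ≠ 0 := fun e => by
      have : cst one = (0 : Vec) := G.K.e.injective (e.trans (map_zero _).symm)
      exact absurd (congrFun this 0) (by decide)
    have hvq : S.rep.q G.K.v = 0 := by
      show (S.rep.sub G.Mb).q G.K.v = 0
      rw [Co.v, G.K.q_e]; rfl
    have hq : S.rep.q (G.K.e x) = 0 := by
      show (S.rep.sub G.Mb).q (G.K.e x) = 0
      rw [G.K.q_e]; exact flat_nz hx
    have hne : G.K.e x ≠ 0 := fun e => hx0 (G.K.e.injective (e.trans (map_zero _).symm))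
    have hu : ∀ {u}, Nat.card (S.rep.stab u) = 11520 → S.rep.Rel u₁ u → False := fun {u} hu hr => by
      have := S.rep.card_stab_mul u₁
      rw [c1, ← S.rep.card_stab_eq hr, hu, S.card_C] at this
      omega
    have hrel : S.rep.Rel G.K.v (G.K.e x) := by
      rcases hcov _ hv0 hvq with h1 | h1
      · exact (hu G.card_stab' h1).elim
      · rcases hcov _ hne hq with h2 | h2
        · exact (hu hcard h2).elim
        · exact (h1.symm S.rep).trans S.rep h2
    have horb : (S.rep.sub G.Mb).orb G.K.v = S.rep.orb G.K.v := by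
      have h1 := (S.rep.sub G.Mb).card_stab_mul G.K.v
      have h2 := S.rep.card_stab_mul G.K.v
      rw [G.card_stab, G.card_Mb] at h1
      rw [G.card_stab', S.card_C] at h2
      refine Finset.eq_of_subset_of_card_le (fun a ha => ?_) (by omega)
      rw [QRep.mem_orb] at ha ⊢
      exact G.relC ha
    have hm : (S.rep.sub G.Mb).Rel G.K.v (G.K.e x) := by
      rw [← QRep.mem_orb, horb, QRep.mem_orb]; exact hrel
    exact G.K.wt_two w hw (hm.trans _ (hwx.symm _))
  · intro hiT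
    have hm : (S.rep.sub G.Mb).Rel G.K.v (G.K.e x) := by
      rcases hZ hiT with h4 | ⟨h6, hc⟩ | ⟨k, j, e⟩
      · exact G.K.wt_four _ h4
      · exact G.K.wt_six _ h6 hc
      · exact (G.K.wt_four _ Cocode.src_spec.2).trans _ (hstep k j _ e)
    rw [S.rep.card_stab_eq (G.relC hm), G.card_stab']

/-- The translations on the pairs `01` and `45` lie in the subgroup fixing the flat vectors. -/
theorem exists_tr {b : Bool} (hb : G.IsBase b) :
    ∃ h h' : G.Mb, (up h ∈ G.flatStab base ∧ ∀ x, G.K.img h x = Cocode.uTr b 0 1 x) ∧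
      (up h' ∈ G.flatStab base ∧ ∀ x, G.K.img h' x = Cocode.uTr b 4 5 x) := by
  obtain ⟨h, hh, hD⟩ := hb
  let σ : Equiv.Perm (Fin 6) := ⟨Cocode.sw45, Cocode.sw45, by decide +kernel, by decide +kernel⟩
  let π : A6 := ⟨σ, Equiv.Perm.mem_alternatingGroup.2 (by decide +kernel)⟩
  set h' := G.K.p π * h * (G.K.p π)⁻¹ with hh'
  have hS' : h' ∈ G.K.S := G.K.conj_mem hh (G.K.p_fix π)
  have hD' : G.K.D h' = Cocode.D45 b := by
    funext i
    rw [Co.D, hh', G.K.img_mul, G.K.img_mul, ← map_inv, G.K.img_p, G.K.img_S hh, G.K.img_p, hD]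
    exact Cocode.conj45 b i
  have hfix : ∀ {s : G.Mb}, s ∈ G.K.S → (∀ p q r, herm (Cocode.flatV p q r) (G.K.D s) = 0) →
      up s ∈ G.flatStab base := by
    intro s hs hD0
    refine ⟨s.2, fun x hx => ?_⟩
    have e := G.K.e_img s x
    rw [G.K.img_sum_zero hs hx.sum_zero] at e
    have h0 : herm x (G.K.D s) = 0 := by
      rw [flat_form (flat_base.1 hx)]; exact hD0 _ _ _
    rw [h0, show cst 0 = (0 : Vec) from rfl, add_zero] at e
    exact e.symm
  refine ⟨h, h', ⟨hfix hh fun p q r => ?_, fun x => ?_⟩, ⟨hfix hS' fun p q r => ?_, fun x => ?_⟩⟩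
  · rw [hD]; clear hD' hh' hS' hfix; clear hD; revert b p q r; decide +kernel
  · rw [G.K.img_S hh, hD]; rfl
  · rw [hD']; clear hD' hh' hS' hfix; clear hD; revert b p q r; decide +kernel
  · rw [G.K.img_S hS', hD']; rfl

/-- The sixteen maps are realised. -/
theorem exists_R {b : Bool} (hb : G.IsBase b) {n : ℕ} (hn : n < 16) :
    ∃ h : G.Mb, up h ∈ G.flatStab base ∧ ∀ x, G.K.img h x = Cocode.Rf b n x := by
  obtain ⟨h0, h1, ⟨hf0, hi0⟩, hf1, hi1⟩ := G.exists_tr hb
  obtain ⟨σ, hs, hsi, hsp⟩ : ∃ σ : Equiv.Perm (Fin 6), Equiv.Perm.sign σ = 1 ∧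
      (∀ i, σ.symm i = Cocode.kPerm (n / 4) i) ∧ ∀ i, σ i = i ∨ σ i = pairing base i :=
    (by decide +kernel : ∀ m : Fin 4, ∃ σ : Equiv.Perm (Fin 6), Equiv.Perm.sign σ = 1 ∧
      (∀ i, σ.symm i = Cocode.kPerm m.val i) ∧ ∀ i, σ i = i ∨ σ i = pairing base i) ⟨n / 4, by omega⟩
  let π : A6 := ⟨σ, Equiv.Perm.mem_alternatingGroup.2 hs⟩
  let a0 : G.Mb := if n.testBit 0 then h0 else 1
  let a1 : G.Mb := if n.testBit 1 then h1 else 1
  have himg1 : ∀ x, G.K.img (1 : G.Mb) x = x := fun x => G.K.img_eq ((S.rep.sub G.Mb).one_apply _)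
  have hm : ∀ {a : G.Mb} {c : Bool}, up a ∈ G.flatStab base → up (if c then a else 1) ∈ G.flatStab base := by
    intro a c ha
    cases c
    · exact one_mem _
    · exact ha
  refine ⟨G.K.p π * (a1 * a0), ?_, fun x => funext fun i => ?_⟩
  · show up (G.K.p π) * (up a1 * up a0) ∈ G.flatStab base
    exact mul_mem (p_flat (j := base) fun i => hsp i) (mul_mem (hm hf1) (hm hf0))
  · rw [G.K.img_mul, G.K.img_mul, G.K.img_p]
    show G.K.img a1 (G.K.img a0 x) (σ.symm i) = _
    rw [hsi]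
    simp only [Cocode.Rf, a0, a1]
    split_ifs <;> simp only [himg1, hi0, hi1]

theorem Rf_add {b : Bool} (hb : G.IsBase b) {n : ℕ} (hn : n < 16) (u w : Vec) :
    Cocode.Rf b n (u + w) = Cocode.Rf b n u + Cocode.Rf b n w := by
  obtain ⟨h, -, hi⟩ := G.exists_R hb hn
  rw [← hi, ← hi, ← hi, G.K.img_add]

/-- The sixteen maps exhaust the subgroup fixing the flat vectors. -/
theorem flat_maps {b : Bool} (hb : G.IsBase b) : ∃ f : Fin 16 → G.flatStab base, Function.Bijective f ∧
    ∀ n x, S.rep.ρ (f n : C ⧸ Q) (G.K.e x) = G.K.e (Cocode.Rf b n.val x) := by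
  classical
  choose r hr hri using fun n : Fin 16 => G.exists_R hb n.2
  let f : Fin 16 → G.flatStab base := fun n => ⟨up (r n), hr n⟩
  have hact : ∀ (n : Fin 16) x, S.rep.ρ (up (r n)) (G.K.e x) = G.K.e (Cocode.Rf b n.val x) := fun n x => by
    rw [← hri n x, G.K.e_img]; rfl
  have hf : Function.Injective f := fun n m e => by
    have e' : up (r n) = up (r m) := congrArg (fun c : G.flatStab base => (c : C ⧸ Q)) e
    have hs := List.all_eq_true.1 (List.all_eq_true.1 (Cocode.R_sep b) n.val (List.mem_range.2 n.2)) m.val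
      (List.mem_range.2 m.2)
    rw [Bool.or_eq_true, beq_iff_eq] at hs
    refine Fin.ext (hs.resolve_right fun h' => ?_)
    obtain ⟨j, hj, hj'⟩ := List.any_eq_true.1 h'
    have hlt : (2 : ℕ) ^ j < 4096 :=
      Nat.pow_lt_pow_right (show 1 < 2 by norm_num) (List.mem_range.1 hj : j < 12)
    have ee : Cocode.Rf b n.val (Cocode.vecOf (2 ^ j)) = Cocode.Rf b m.val (Cocode.vecOf (2 ^ j)) :=
      G.K.e.injective (by rw [← hact, ← hact, e'])
    rw [Cocode.add_table n.2 _ (G.Rf_add hb n.2) (fun _ => rfl) hlt,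
      Cocode.add_table m.2 _ (G.Rf_add hb m.2) (fun _ => rfl) hlt] at ee
    have hz : Cocode.vecOf (Nat.xor (Cocode.RC b n.val (2 ^ j)) (Cocode.RC b m.val (2 ^ j))) = 0 := by
      rw [Cocode.vecOf_xor, ee, Four.vec_add_self]
    have key : ∀ y, y < 4096 → Cocode.vecOf y = 0 → y = 0 := fun y hy h => by
      refine Nat.eq_of_testBit_eq fun k => ?_
      rw [Nat.zero_testBit]
      by_cases hk : k < 12
      · have h' := congrFun h ⟨k / 2, by omega⟩
        rw [Cocode.vecOf, Pi.zero_apply, Prod.mk_eq_zero] at h'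
        rcases Nat.mod_two_eq_zero_or_one k with e | e
        · rw [show 2 * (k / 2) = k by omega] at h'; exact Cocode.b2_eq_zero.1 h'.1
        · rw [show 2 * (k / 2) + 1 = k by omega] at h'; exact Cocode.b2_eq_zero.1 h'.2
      · exact Nat.testBit_eq_false_of_lt (lt_of_lt_of_le hy (Nat.pow_le_pow_right two_pos (Nat.not_lt.1 hk)))
    have := key _ (Cocode.xor_lt' (k := 12) (Cocode.RC_lt n.2 _) (Cocode.RC_lt m.2 _)) hz
    rw [Nat.xor_eq_zero_iff.1 this, Nat.beq_refl] at hj'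
    exact Bool.noConfusion hj'
  have hb2 : Function.Bijective f := (Nat.bijective_iff_injective_and_card f).2 ⟨hf,
    le_antisymm (Nat.card_le_card_of_injective f hf) ((G.card_flatStab_le base).trans (le_of_eq (Nat.card_fin 16).symm))⟩
  exact ⟨f, hb2, hact⟩

/-- Every element fixing the flat vectors is one of the sixteen maps. -/
theorem flat_R {b : Bool} (hb : G.IsBase b) {c : C ⧸ Q} (hc : c ∈ G.flatStab base) :
    ∃ n, n < 16 ∧ ∀ x, S.rep.ρ c (G.K.e x) = G.K.e (Cocode.Rf b n x) := by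
  obtain ⟨f, hf, hact⟩ := G.flat_maps hb
  obtain ⟨n, hn⟩ := hf.2 ⟨c, hc⟩
  exact ⟨n.val, n.2, fun x => by rw [← hact n x, hn]⟩

theorem card_flatStab : Nat.card (G.flatStab base) = 16 := by
  obtain ⟨b, hb⟩ := G.exists_base
  obtain ⟨f, hf, -⟩ := G.flat_maps hb
  rw [← Nat.card_eq_of_bijective f hf, Nat.card_fin]

end Geo

end CfsgLib.FischerTwoFour
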