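import Cfsg.Agent.Lib.FischerTwoFour.MaxElem
import Cfsg.Agent.Lib.FischerTwoFour.Cocode.DataGeo

/-!
The elementary subgroup of order `2^11` of `C` over the flat vectors: its image is the full pointwise
stabiliser of those vectors, and it is the only one of that order in any `2`-subgroup containing it.
-/

set_option autoImplicit false
set_option linter.unusedSectionVars false

universe u

namespace CfsgLib.FischerTwoFour

open Four hiding mul_one one_mul mul_assoc mul_comm mul_zero zero_mul mul_add add_mul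

variable {C : Type u} [Group C] [Finite C] {Q : Subgroup C} [Q.Normal] {S : Shape Q} (G : Geo S)

namespace Geo

theorem mem_flatPre {a : Q} : a ∈ G.flatPre base ↔ Cocode.IsFlat (G.K.e.symm (pr a)) := by
  constructor
  · rintro ⟨x, hx, e⟩
    rw [← e, G.K.e.symm_apply_apply]
    exact flat_base.1 hx
  · intro h
    exact ⟨_, flat_base.2 h, G.K.e.apply_symm_apply _⟩

/-- A subgroup `A` over the sixteen maps and the flat vectors. -/
theorem exists_A : ∃ A : Subgroup C, (∀ a ∈ A, a * a = 1) ∧ Nat.card A = 2048 ∧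
    (∀ q : Q, ((q : C) ∈ A ↔ q ∈ G.flatPre base)) ∧
    (∀ a ∈ A, (QuotientGroup.mk a : C ⧸ Q) ∈ G.flatStab base) ∧
    ∀ h ∈ G.flatStab base, ∃ a ∈ A, (QuotientGroup.mk a : C ⧸ Q) = h := by
  obtain ⟨X⟩ := G.exists_lift
  let L := G.flatPre base
  have hLx : ∀ q ∈ L, cjQ X.x q ∈ L := by
    rintro q ⟨x, hx, e⟩
    refine ⟨omV x, fun i => congrArg om (hx i), ?_⟩
    rw [← S.rep_apply, X.mkx, ← e]
    exact (G.K.e_om x).symm
  let P : C → Prop := fun c => ∃ k, k * X.x = X.x * k ∧ (QuotientGroup.mk k : C ⧸ Q) ∈ G.flatStab base ∧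
    ∃ q ∈ L, c = k * (q : C)
  have hkq : ∀ {k : C}, k * X.x = X.x * k → (QuotientGroup.mk k : C ⧸ Q) ∈ G.flatStab base → ∀ {q : Q}, q ∈ L →
      k * (q : C) = (q : C) * k := fun {k} hk hm {q} hq =>
    X.commutes_pre hk L hLx (fun q hq => G.flatPre_fix hm hq) hq
  have hmul : ∀ {a b}, P a → P b → P (a * b) := by
    rintro _ _ ⟨k, hk, hm, q, hq, rfl⟩ ⟨k', hk', hm', q', hq', rfl⟩
    refine ⟨k * k', ((show Commute k X.x from hk).mul_left hk').eq, mul_mem hm hm', q * q', mul_mem hq hq', ?_⟩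
    calc k * (q : C) * (k' * (q' : C)) = k * ((q : C) * k') * (q' : C) := by group
      _ = k * k' * ((q : C) * (q' : C)) := by rw [← hkq hk' hm' hq]; group
  have hsq : ∀ {a}, P a → a * a = 1 := by
    rintro _ ⟨k, hk, hm, q, hq, rfl⟩
    calc k * (q : C) * (k * (q : C)) = k * ((q : C) * k) * (q : C) := by group
      _ = (k * k) * ((q : C) * (q : C)) := by rw [← hkq hk hm hq]; group
      _ = 1 := by
        rw [sq_flat X hm k hk rfl, _root_.one_mul, ← Subgroup.coe_mul, G.flatPre_sq hq, OneMemClass.coe_one]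
  let A : Subgroup C :=
    { carrier := {c | P c}
      one_mem' := ⟨1, by rw [_root_.one_mul, _root_.mul_one], one_mem _, 1, one_mem _, by simp⟩
      mul_mem' := hmul
      inv_mem' := fun {a} ha => by
        show P a⁻¹
        rw [inv_eq_of_mul_eq_one_right (hsq ha)]; exact ha }
  have hmk : ∀ {k : C} {q : Q}, (QuotientGroup.mk (k * (q : C)) : C ⧸ Q) = QuotientGroup.mk k := fun {k q} => by
    rw [QuotientGroup.mk_mul, (QuotientGroup.eq_one_iff (q : C)).2 q.2, _root_.mul_one]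
  have hQ : ∀ q : Q, (q : C) ∈ A ↔ q ∈ L := by
    refine fun q => ⟨?_, fun hq => ⟨1, by rw [_root_.one_mul, _root_.mul_one], one_mem _, q, hq, (_root_.one_mul _).symm⟩⟩
    rintro ⟨k, hk, -, q', hq', e⟩
    have hkQ : k ∈ Q := by
      have h : k = (q : C) * (q' : C)⁻¹ := by rw [e]; group
      rw [h]; exact mul_mem q.2 (inv_mem q'.2)
    have hc := X.cent_Q (q := ⟨k, hkQ⟩) hk.symm
    have hkL : (⟨k, hkQ⟩ : Q) ∈ L := ⟨0, fun _ => rfl, by rw [map_zero, S.pr_eq_zero.2 hc]⟩
    rw [show q = ⟨k, hkQ⟩ * q' from Subtype.ext e]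
    exact mul_mem hkL hq'
  have hmem : ∀ a ∈ A, (QuotientGroup.mk a : C ⧸ Q) ∈ G.flatStab base := by
    rintro _ ⟨k, -, hm, q, -, rfl⟩
    rw [hmk]; exact hm
  have hlift : ∀ h ∈ G.flatStab base, ∃ a ∈ A, (QuotientGroup.mk a : C ⧸ Q) = h := fun h hh => by
    obtain ⟨k, hk, rfl⟩ := X.exists_cent hh.1
    exact ⟨k, ⟨k, hk, hh, 1, one_mem _, by simp⟩, rfl⟩
  refine ⟨A, fun a ha => hsq ha, ?_, hQ, hmem, hlift⟩
  have hAQ : A.subgroupOf Q = L := by ext q; exact hQ q
  have hmap : A.map (QuotientGroup.mk' Q) = G.flatStab base := by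
    refine le_antisymm ?_ fun h hh => ?_
    · rintro _ ⟨a, ha, rfl⟩; exact hmem a ha
    · obtain ⟨a, ha, e⟩ := hlift h hh
      exact ⟨a, ha, e⟩
  rw [card_split (Q := Q) A, hmap, hAQ, G.card_flatStab, G.card_flatPre]

/-- The flat vectors are their own orthogonal. -/
theorem flat_perp {x : Vec} (h : ∀ y, IsFlat base y → btV x y = 0) : IsFlat base x := by
  have key : ∀ a b : K4, (∀ p : K4, bt (a + b) p = 0) → a = b := by decide
  refine flat_base.2 ⟨key _ _ fun p => ?_, key _ _ fun p => ?_, key _ _ fun p => ?_⟩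
  · have := h (Cocode.flatV p 0 0) (flat_base.2 ⟨rfl, rfl, rfl⟩)
    simp [btV, Fin.sum_univ_six, Cocode.flatV, bt] at this ⊢
    linear_combination this
  · have := h (Cocode.flatV 0 p 0) (flat_base.2 ⟨rfl, rfl, rfl⟩)
    simp [btV, Fin.sum_univ_six, Cocode.flatV, bt] at this ⊢
    linear_combination this
  · have := h (Cocode.flatV 0 0 p) (flat_base.2 ⟨rfl, rfl, rfl⟩)
    simp [btV, Fin.sum_univ_six, Cocode.flatV, bt] at this ⊢
    linear_combination this

/-- Fixing all flat vectors puts an element into the sixteen maps. -/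
theorem flat_full {h : C ⧸ Q} (hh : ∀ x, IsFlat base x → S.rep.ρ h (G.K.e x) = G.K.e x) :
    h ∈ G.flatStab base := by
  classical
  let R := S.rep
  let W : Subgroup (C ⧸ Q) :=
    { carrier := {c | ∀ x, IsFlat base x → R.ρ c (G.K.e x) = G.K.e x}
      one_mem' := fun x _ => R.one_apply _
      mul_mem' := fun {a b} ha hb x hx => by rw [R.mul_apply, hb x hx, ha x hx]
      inv_mem' := fun {a} ha x hx => by
        conv_lhs => rw [← ha x hx]
        exact R.inv_apply a _ }
  have hsq : ∀ c ∈ W, c * c = 1 := by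
    intro c hc
    refine R.faithful _ fun y => ?_
    obtain ⟨d, hd⟩ := G.K.e.surjective (R.ρ c y + y)
    have hflat : IsFlat base d := flat_perp fun l hl => by
      rw [← G.K.b_e, hd]
      show R.b (R.ρ c y + y) (G.K.e l) = 0
      rw [R.b_add]
      nth_rewrite 1 [← hc l hl]
      rw [R.b_inv]
      exact (by decide : ∀ k : ZMod 2, k + k = 0) _
    have e := hc d hflat
    rw [hd, map_add, ← R.mul_apply] at e
    exact add_left_cancel (a := R.ρ c y) (by rw [add_comm]; exact e)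
  obtain ⟨hle, -⟩ := G.elementary_bound W hsq (fun a ha => ha _ (flat_cst base one)) (G.flatV base)
    (G.card_flatV base).le (fun a ha b hb => by
      obtain ⟨x, hx, rfl⟩ := ha
      obtain ⟨y, hy, rfl⟩ := hb
      rw [show S.rep.b = (S.rep.sub G.Mb).b from rfl, G.K.b_e]
      exact flat_bt (flat_base.1 hx) (flat_base.1 hy))
    (fun a ha u hu => by obtain ⟨x, hx, rfl⟩ := hu; exact ha x hx)
  rw [G.card_flatV] at hle
  have heq : G.flatStab base = W :=
    Subgroup.eq_of_le_of_card_ge (fun a ha => ha.2) (by rw [G.card_flatStab]; omega)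
  rw [heq]; exact hh

include G in
/-- Largest elementary subgroups of a `2`-group coincide. -/
theorem elem_eq {P A E : Subgroup C} (hP : IsPGroup 2 P) (hAP : A ≤ P) (hEP : E ≤ P)
    (hA : ∀ a ∈ A, a * a = 1) (hE : ∀ a ∈ E, a * a = 1) (hAc : Nat.card A = 2048) (hEc : Nat.card E = 2048) :
    E = A := by
  classical
  have : Fact (Nat.Prime 2) := ⟨Nat.prime_two⟩
  obtain ⟨T, hT⟩ := hP.exists_le_sylow
  obtain ⟨A₁, hA₁, hc₁, -, -⟩ := G.sylow_max T
  have hel : ∀ {B : Subgroup C}, B ≤ (T : Subgroup C) → (∀ a ∈ B, a * a = 1) → Nat.card B = 2048 →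
      B.subgroupOf (T : Subgroup C) = A₁ := by
    intro B hB h2 hc
    have hcard : Nat.card (B.subgroupOf (T : Subgroup C)) = 2048 := by
      rw [Nat.card_congr (Subgroup.subgroupOfEquivOfLe hB).toEquiv, hc]
    have hel : Cfsg.IsElementaryAbelian 2 (B.subgroupOf (T : Subgroup C)) := by
      have hi : ∀ a ∈ B, a⁻¹ = a := fun a ha => inv_eq_of_mul_eq_one_right (h2 a ha)
      refine ⟨⟨⟨fun a b => Subtype.ext (Subtype.ext ?_)⟩⟩, fun a ha => Subtype.ext ?_⟩
      · have ha : ((a.1 : ↥(T : Subgroup C)) : C) ∈ B := a.2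
        have hb : ((b.1 : ↥(T : Subgroup C)) : C) ∈ B := b.2
        have e := hi _ (mul_mem ha hb)
        rw [mul_inv_rev, hi _ ha, hi _ hb] at e
        exact e.symm
      · rw [SubmonoidClass.coe_pow, sq]
        exact h2 _ ha
    have hmax : B.subgroupOf (T : Subgroup C) ∈ Cfsg.maxElementaryAbelianSubgroups 2 ↥(T : Subgroup C) := by
      refine ⟨hel, fun B' hB' => ?_⟩
      have hA₁' : A₁ ∈ Cfsg.maxElementaryAbelianSubgroups 2 ↥(T : Subgroup C) := by
        rw [hA₁]; exact Set.mem_singleton A₁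
      rw [hcard, show (2048 : ℕ) = 2 ^ 11 by norm_num, ← hc₁]
      exact hA₁'.2 B' hB'
    rw [hA₁] at hmax
    exact hmax
  have h := (hel (hEP.trans hT) hE hEc).trans (hel (hAP.trans hT) hA hAc).symm
  exact (Subgroup.subgroupOf_inj.1 h) |> fun e => by
    rwa [inf_eq_left.2 (hEP.trans hT), inf_eq_left.2 (hAP.trans hT)] at e

end Geo

end CfsgLib.FischerTwoFour
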