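import Cfsg.Agent.Lib.FischerTwoFour.Cocode.Bits

/-!
The subgroup `B = A ∩ Q` as codes below 128, representatives of its cosets in `A` centralising `ξ`,
and their conjugates under `Q`.
-/

set_option autoImplicit false
set_option linter.unusedSectionVars false

namespace CfsgLib.FischerTwoFour.Cocode

open Subgroup
open Four hiding mul_one one_mul mul_assoc mul_comm mul_zero zero_mul mul_add add_mul

variable {G : Type*} [Group G] {z : G}

/-- `z` or `1`. -/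
def zb (z : G) (p : Bool) : G := if p then z else 1

theorem zb_inZ (p : Bool) : InZ z (zb z p) := by cases p <;> simp [zb, InZ]

theorem vecOf_eq_zero {y : ℕ} (hy : y < 4096) (h : vecOf y = 0) : y = 0 := by
  refine Nat.eq_of_testBit_eq fun j => ?_
  rw [Nat.zero_testBit]
  by_cases hj : j < 12
  · have h' := congrFun h ⟨j / 2, by omega⟩
    rw [vecOf, Pi.zero_apply, Prod.mk_eq_zero] at h'
    rcases Nat.mod_two_eq_zero_or_one j with e | e
    · have : 2 * (j / 2) = j := by omega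
      rw [this] at h'; exact b2_eq_zero.1 h'.1
    · have : 2 * (j / 2) + 1 = j := by omega
      rw [this] at h'; exact b2_eq_zero.1 h'.2
  · exact Nat.testBit_eq_false_of_lt (lt_of_lt_of_le hy (Nat.pow_le_pow_right (n := 2) (by norm_num) (Nat.not_lt.1 hj)))

theorem vecOf_inj {x y : ℕ} (hx : x < 4096) (hy : y < 4096) (h : vecOf x = vecOf y) : x = y := by
  have h0 : vecOf (Nat.xor x y) = 0 := by rw [vecOf_xor, h, vec_add_self]
  have := vecOf_eq_zero (xor_lt' (k := 12) hx hy) h0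
  exact Nat.xor_eq_zero_iff.1 this

theorem bt_omega : ∀ x : K4, bt x (om (om x)) = nz x := by decide

variable {Y : Sys z}

theorem zb_xor (Y : Sys z) (p q : Bool) : zb z (p ^^ q) = zb z p * zb z q := by
  cases p <;> cases q <;> simp [zb, Y.zz]

theorem zb_inj (Y : Sys z) {p q : Bool} (h : zb z p = zb z q) : p = q := by
  cases p <;> cases q <;> simp [zb, Y.z1, Ne.symm Y.z1] at h ⊢

theorem phi_mul_z (Y : Sys z) {a : G} (ha : a ∈ Y.Qg) : Y.Φ (a * z) = Y.Φ a * z := by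
  have hc : Y.sh (Y.sh a) * z = z * Y.sh (Y.sh a) :=
    Y.zcomm (Y.le_cen (Y.sh_mem (Y.sh_mem ha))) (Or.inr rfl)
  rw [Y.Φ_mul ha Y.zQ, Y.Φ_of_inZ (Or.inr rfl), ← hc, mul_inv_cancel_right, mul_inv_cancel, mul_one]

namespace AData

variable (D : AData Y)

include D

theorem A_cen : D.A ≤ centralizer ({z} : Set G) := D.A_le.trans Y.Mle

theorem A_inv {a : G} (ha : a ∈ D.A) : a⁻¹ = a := inv_eq_of_mul_eq_one_right (D.A_sq a ha)

theorem A_comm {a c : G} (ha : a ∈ D.A) (hc : c ∈ D.A) : a * c = c * a := by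
  calc a * c = (a * c)⁻¹ := (D.A_inv (mul_mem ha hc)).symm
    _ = c * a := by rw [mul_inv_rev, D.A_inv ha, D.A_inv hc]

theorem co_one : D.co 1 = 0 := (D.co_zero 1 (one_mem _)).2 (Or.inl rfl)

theorem co_inZ {e : G} (he : InZ z e) : D.co e = 0 := (D.co_zero e (Y.inZ_mem he)).2 he

theorem co_inv {q : G} (hq : q ∈ Y.Qg) : D.co q⁻¹ = D.co q := by
  have h := D.co_mul q hq q⁻¹ (inv_mem hq)
  rw [mul_inv_cancel, D.co_one] at h
  calc D.co q⁻¹ = D.co q + (D.co q + D.co q⁻¹) := by rw [← add_assoc, vec_add_self, zero_add]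
    _ = D.co q := by rw [← h, add_zero]

theorem co_eq {p q : G} (hp : p ∈ Y.Qg) (hq : q ∈ Y.Qg) (h : D.co p = D.co q) :
    ∃ e, InZ z e ∧ p = e * q := by
  refine ⟨p * q⁻¹, (D.co_zero _ (mul_mem hp (inv_mem hq))).1 ?_, by group⟩
  rw [D.co_mul p hp _ (inv_mem hq), D.co_inv hq, h, vec_add_self]

theorem co_conj_inZ {q e : G} (hq : q ∈ Y.Qg) (he : InZ z e) : D.co (q * e) = D.co q := by
  rw [D.co_mul q hq e (Y.inZ_mem he), D.co_inZ he, add_zero]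

theorem comm_bit {p q : G} (hp : p ∈ Y.Qg) (hq : q ∈ Y.Qg) {x y : ℕ} (hx : D.co p = vecOf x)
    (hy : D.co q = vecOf y) : p * q * p⁻¹ * q⁻¹ = zb z (btC x y) := by
  have h := D.co_comm p hp q hq
  rw [hx, hy, btV_vecOf, b2_eq_zero] at h
  rcases Y.comm p hp q hq with e | e
  · rw [e]
    have : p * q = q * p := mul_inv_eq_iff_eq_mul.1 (mul_inv_eq_one.1 e)
    rw [h.1 this]; rfl
  · rw [e]
    have : btC x y ≠ false := fun hb => Y.z1 (by
      rw [← e, h.2 hb]; group)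
    rw [Bool.eq_true_of_not_eq_false this]; rfl

theorem sq_bit {q : G} (hq : q ∈ Y.Qg) {y : ℕ} (hy : D.co q = vecOf y) : q * q = zb z (qC y) := by
  have h := D.co_sq q hq
  rw [hy, qV_vecOf, b2_eq_zero] at h
  rcases Y.sq q hq with e | e
  · rw [e, h.1 e]; rfl
  · rw [e]
    have : qC y ≠ false := fun hb => Y.z1 (by rw [← e, h.2 hb])
    rw [Bool.eq_true_of_not_eq_false this]; rfl

/-- `A ∩ Q`. -/
def Bg : Subgroup G := D.A ⊓ Y.Qg

theorem mem_Bg {a : G} : a ∈ D.Bg ↔ a ∈ Y.Qg ∧ IsFlat (D.co a) :=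
  ⟨fun h => ⟨h.2, (D.A_Q a h.2).1 h.1⟩, fun h => ⟨(D.A_Q a h.1).2 h.2, h.1⟩⟩

theorem mem_Bg_code {a : G} : a ∈ D.Bg ↔ a ∈ Y.Qg ∧ ∃ x, x < 64 ∧ vecOf (bwC D.b x) = D.co a := by
  rw [D.mem_Bg, flat_iff D.b]

theorem flat_om {v : Vec} (h : IsFlat v) : IsFlat (omV v) :=
  ⟨congrArg om h.1, congrArg om h.2.1, congrArg om h.2.2⟩

theorem sh_Bg {a : G} (ha : a ∈ D.Bg) : Y.sh a ∈ D.Bg := by
  obtain ⟨hq, hf⟩ := D.mem_Bg.1 ha
  exact D.mem_Bg.2 ⟨Y.sh_mem hq, by rw [D.co_sh a hq]; exact D.flat_om hf⟩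

theorem inZ_Bg {e : G} (he : InZ z e) : e ∈ D.Bg :=
  D.mem_Bg.2 ⟨Y.inZ_mem he, by rw [D.co_inZ he]; exact ⟨rfl, rfl, rfl⟩⟩

theorem Phi_Bg {a c : G} (ha : a ∈ D.Bg) (hc : c ∈ D.Bg) : Y.Φ (a * c) = Y.Φ a * Y.Φ c := by
  rw [Y.Φ_mul ha.2 hc.2, show c * Y.sh (Y.sh a) = Y.sh (Y.sh a) * c from
    D.A_comm hc.1 (D.sh_Bg (D.sh_Bg ha)).1]
  group

theorem exists_lift (x : ℕ) : ∃ a ∈ D.Bg, D.co a = vecOf (bwC D.b (x % 64)) ∧ Y.Φ a = 1 := by
  obtain ⟨a, ha, hco⟩ := D.co_surj (vecOf (bwC D.b (x % 64)))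
  have hB : a ∈ D.Bg := D.mem_Bg_code.2 ⟨ha, _, Nat.mod_lt _ (by norm_num), hco.symm⟩
  rcases Y.Φ_inZ ha with h | h
  · exact ⟨a, hB, hco, h⟩
  · refine ⟨a * z, mul_mem hB (D.inZ_Bg (Or.inr rfl)), ?_, ?_⟩
    · rw [D.co_conj_inZ ha (Or.inr rfl), hco]
    · rw [phi_mul_z Y ha, h, Y.zz]

/-- The lift with trivial orbit product. -/
noncomputable def lift (x : ℕ) : G := (D.exists_lift x).choose

theorem lift_spec (x : ℕ) : D.lift x ∈ D.Bg ∧ D.co (D.lift x) = vecOf (bwC D.b (x % 64)) ∧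
    Y.Φ (D.lift x) = 1 :=
  ⟨(D.exists_lift x).choose_spec.1, (D.exists_lift x).choose_spec.2.1, (D.exists_lift x).choose_spec.2.2⟩

theorem lift_unique {a : G} (ha : a ∈ D.Bg) {x : ℕ} (hco : D.co a = vecOf (bwC D.b (x % 64)))
    (hΦ : Y.Φ a = 1) : a = D.lift x := by
  obtain ⟨h1, h2, h3⟩ := D.lift_spec x
  obtain ⟨e, he, hae⟩ := D.co_eq ha.2 h1.2 (hco.trans h2.symm)
  rw [hae, D.Phi_Bg (D.inZ_Bg he) h1, Y.Φ_of_inZ he, h3, mul_one] at hΦ
  rw [hae, hΦ, one_mul]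

theorem lift_mul (x y : ℕ) : D.lift x * D.lift y = D.lift (Nat.xor x y) := by
  obtain ⟨hx1, hx2, hx3⟩ := D.lift_spec x
  obtain ⟨hy1, hy2, hy3⟩ := D.lift_spec y
  refine D.lift_unique (mul_mem hx1 hy1) ?_ (by rw [D.Phi_Bg hx1 hy1, hx3, hy3, mul_one])
  rw [D.co_mul _ hx1.2 _ hy1.2, hx2, hy2, ← vecOf_xor, bwC, bwC, ← linC_xor, bwC]
  congr 2
  exact (Nat.xor_mod_two_pow (n := 6)).symm

/-- The element of a code. -/
noncomputable def phi (c : ℕ) : G := D.lift c * zb z (par c)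

theorem phi_mem (c : ℕ) : D.phi c ∈ D.Bg := mul_mem (D.lift_spec c).1 (D.inZ_Bg (zb_inZ _))

theorem co_phi (c : ℕ) : D.co (D.phi c) = vecOf (bwC D.b (c % 64)) := by
  rw [phi, D.co_conj_inZ (D.lift_spec c).1.2 (zb_inZ _), (D.lift_spec c).2.1]

theorem Phi_phi (c : ℕ) : Y.Φ (D.phi c) = zb z (par c) := by
  rw [phi, D.Phi_Bg (D.lift_spec c).1 (D.inZ_Bg (zb_inZ _)), (D.lift_spec c).2.2, one_mul,
    Y.Φ_of_inZ (zb_inZ _)]

theorem phi_unique {a : G} (ha : a ∈ D.Bg) {c : ℕ} (hco : D.co a = vecOf (bwC D.b (c % 64)))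
    (hΦ : Y.Φ a = zb z (par c)) : a = D.phi c := by
  obtain ⟨e, he, hae⟩ := D.co_eq ha.2 (D.phi_mem c).2 (hco.trans (D.co_phi c).symm)
  rw [hae, D.Phi_Bg (D.inZ_Bg he) (D.phi_mem c), Y.Φ_of_inZ he, D.Phi_phi] at hΦ
  rw [hae, mul_eq_right.1 hΦ, one_mul]

theorem phi_mul (x y : ℕ) : D.phi x * D.phi y = D.phi (Nat.xor x y) := by
  rw [phi, phi, phi, par_xor, zb_xor Y, ← D.lift_mul]
  calc D.lift x * zb z (par x) * (D.lift y * zb z (par y))
      = D.lift x * (zb z (par x) * D.lift y) * zb z (par y) := by group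
    _ = D.lift x * (D.lift y * zb z (par x)) * zb z (par y) := by
        rw [← Y.zcomm (Y.le_cen (D.lift_spec y).1.2) (zb_inZ _)]
    _ = _ := by group

theorem phi_zero : D.phi 0 = 1 :=
  (D.phi_unique (one_mem _) (by rw [D.co_one, bwC, linC_zero, vecOf_zero])
    (by rw [Y.Φ_of_inZ (Or.inl rfl)]; rfl)).symm

theorem phi_z : D.phi 64 = z :=
  (D.phi_unique (D.inZ_Bg (Or.inr rfl)) (by rw [D.co_inZ (Or.inr rfl), bwC, linC_zero, vecOf_zero])
    (by rw [Y.Φ_of_inZ (Or.inr rfl)]; rfl)).symm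

theorem phi_inj {x y : ℕ} (hx : x < 128) (hy : y < 128) (h : D.phi x = D.phi y) : x = y := by
  have hc : vecOf (bwC D.b (x % 64)) = vecOf (bwC D.b (y % 64)) := by rw [← D.co_phi, h, D.co_phi]
  have hp : par x = par y := zb_inj Y (by rw [← D.Phi_phi, h, D.Phi_phi])
  have h0 : bwC D.b (Nat.xor (x % 64) (y % 64)) = 0 := by
    rw [bwC, linC_xor, ← bwC, ← bwC, vecOf_inj (bwC_lt _ _) (bwC_lt _ _) hc]
    exact Nat.xor_self _
  have hlt : Nat.xor (x % 64) (y % 64) < 2 ^ 6 :=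
    xor_lt' (Nat.mod_lt _ (by norm_num)) (Nat.mod_lt _ (by norm_num))
  have e : x % 64 = y % 64 := by
    refine Nat.xor_eq_zero_iff.1 ?_
    by_contra hne
    have := List.all_eq_true.1 (isT_spec D.b) _ (List.mem_range'_1.2
      (⟨Nat.one_le_iff_ne_zero.2 hne, by
        change Nat.xor (x % 64) (y % 64) < 1 + 63
        omega⟩ : 1 ≤ (x % 64) ^^^ (y % 64) ∧ (x % 64) ^^^ (y % 64) < 1 + 63))
    simp only [Bool.and_eq_true, Bool.not_eq_true'] at this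
    rw [← nxor, h0] at this
    exact Bool.noConfusion this.1.2
  have key : ∀ a b : Fin 128, a.val % 64 = b.val % 64 → par a.val = par b.val → a.val = b.val := by
    decide +kernel
  exact key ⟨x, hx⟩ ⟨y, hy⟩ e hp

theorem exists_code {a : G} (ha : a ∈ D.Bg) : ∃ c, c < 128 ∧ D.phi c = a := by
  obtain ⟨x, hx, hco⟩ := (D.mem_Bg_code.1 ha).2
  obtain ⟨p, hp⟩ : ∃ p, Y.Φ a = zb z p := by
    rcases Y.Φ_inZ ha.2 with h | h
    · exact ⟨false, h⟩
    · exact ⟨true, h⟩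
  have key : ∀ x : Fin 64, ∀ p : Bool, ∃ c : Fin 128, c.val % 64 = x.val ∧ par c.val = p := by decide +kernel
  obtain ⟨c, hc, hc'⟩ := key ⟨x, hx⟩ p
  exact ⟨c, c.2, (D.phi_unique ha (by rw [hc]; exact hco.symm) (by rw [hc']; exact hp)).symm⟩

theorem card_Bg : Nat.card D.Bg = 128 := by
  rw [← Nat.card_fin 128]
  refine (Nat.card_congr (Equiv.ofBijective (fun c : Fin 128 => (⟨D.phi c, D.phi_mem c⟩ : D.Bg))
    ⟨fun a b h => Fin.ext (D.phi_inj a.2 b.2 (congrArg Subtype.val h)), fun a => ?_⟩)).symm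
  obtain ⟨c, hc, e⟩ := D.exists_code a.2
  exact ⟨⟨c, hc⟩, Subtype.ext e⟩

/-- The types of the elements of `B`. -/
theorem conj_phi {c : ℕ} (hc : c < 128) (hc0 : c ≠ 0) :
    IsConj z (D.phi c) ↔ memL c 0 = false := by
  by_cases h64 : c = 64
  · subst h64
    rw [D.phi_z]
    exact ⟨fun _ => by decide +kernel, fun _ => IsConj.refl z⟩
  have hx : c % 64 ≠ 0 := by omega
  have hs := List.all_eq_true.1 (isT_spec D.b) (c % 64)
    (List.mem_range'_1.2 (⟨by omega, by omega⟩ : 1 ≤ c % 64 ∧ c % 64 < 1 + 63))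
  simp only [Bool.and_eq_true, beq_iff_eq, Bool.not_eq_true'] at hs
  have hne : D.co (D.phi c) ≠ 0 := by
    rw [D.co_phi]
    intro e
    rw [vecOf_eq_zero (bwC_lt _ _) e] at hs
    exact Bool.noConfusion hs.1.2
  rw [D.co_conj _ (D.phi_mem c).2 (D.mem_Bg.1 (D.phi_mem c)).2 hne, D.co_phi, hs.1.1.1]
  have hcc : c = c % 64 ∨ c = Nat.xor (c % 64) 64 := by
    have key : ∀ c : Fin 128, c.val = c.val % 64 ∨ c.val = Nat.xor (c.val % 64) 64 := by decide +kernel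
    exact key ⟨c, hc⟩
  rcases hcc with e | e
  · rw [← e]
  · conv_rhs => rw [e, ← hs.1.1.2]

theorem Rf_add {n : ℕ} (hn : n < 16) (u w : Vec) : Rf D.b n (u + w) = Rf D.b n u + Rf D.b n w := by
  obtain ⟨a, ha, hact⟩ := D.act_A n hn
  obtain ⟨p, hp, rfl⟩ := D.co_surj u
  obtain ⟨q, hq, rfl⟩ := D.co_surj w
  rw [← D.co_mul p hp q hq, ← hact p hp, ← hact q hq, ← hact _ (mul_mem hp hq),
    ← D.co_mul _ (Y.normQ a (D.A_cen ha) p hp) _ (Y.normQ a (D.A_cen ha) q hq)]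
  congr 1; group

theorem Rf_code {n : ℕ} (hn : n < 16) {y : ℕ} (hy : y < 4096) :
    Rf D.b n (vecOf y) = vecOf (RC D.b n y) :=
  add_table hn (Rf D.b n) (D.Rf_add hn) (fun _ => rfl) hy

omit D in
theorem Rf_zero (b : Bool) (v : Vec) : Rf b 0 v = v := by
  funext i
  simp [Rf, kPerm]

/-- The map induced by an element of `A`. -/
def Acts (a : G) (n : ℕ) : Prop := ∀ q ∈ Y.Qg, D.co (a * q * a⁻¹) = Rf D.b n (D.co q)

theorem acts_unique {a : G} {n m : ℕ} (hn : n < 16) (hm : m < 16) (h1 : D.Acts a n) (h2 : D.Acts a m) :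
    n = m := by
  have h := List.all_eq_true.1 (List.all_eq_true.1 (R_sep D.b) n (List.mem_range.2 hn)) m (List.mem_range.2 hm)
  rw [Bool.or_eq_true, beq_iff_eq] at h
  refine h.resolve_right fun h' => ?_
  obtain ⟨j, hj, hj'⟩ := List.any_eq_true.1 h'
  have hlt : (2 : ℕ) ^ j < 4096 :=
    Nat.pow_lt_pow_right (show 1 < 2 by norm_num) (List.mem_range.1 hj : j < 12)
  obtain ⟨q, hq, hco⟩ := D.co_surj (vecOf (2 ^ j))
  have e : vecOf (RC D.b n (2 ^ j)) = vecOf (RC D.b m (2 ^ j)) := by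
    rw [← D.Rf_code hn hlt, ← D.Rf_code hm hlt, ← hco, ← h1 q hq, h2 q hq]
  rw [vecOf_inj (RC_lt hn _) (RC_lt hm _) e, Nat.beq_refl] at hj'
  exact Bool.noConfusion hj'

theorem acts_Qg {a : G} (ha : a ∈ Y.Qg) : D.Acts a 0 := fun q hq => by
  rw [Rf_zero, D.co_mul _ (mul_mem ha hq) _ (inv_mem ha), D.co_mul a ha q hq, D.co_inv ha, add_right_comm,
    vec_add_self, zero_add]

theorem acts_mul {a c : G} (hc : c ∈ centralizer ({z} : Set G)) {n m : ℕ} (h1 : D.Acts a n)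
    (h2 : D.Acts c m) {q : G} (hq : q ∈ Y.Qg) :
    D.co (a * c * q * (a * c)⁻¹) = Rf D.b n (Rf D.b m (D.co q)) := by
  rw [← h2 q hq, ← h1 _ (Y.normQ c hc q hq)]
  congr 1; group

theorem acts_mul_Qg {a c : G} {n : ℕ} (h : D.Acts a n) (hc : c ∈ Y.Qg) : D.Acts (a * c) n := fun q hq => by
  rw [D.acts_mul (Y.le_cen hc) h (D.acts_Qg hc) hq, Rf_zero]

theorem Rf_invol {n : ℕ} (hn : n < 16) (v : Vec) : Rf D.b n (Rf D.b n v) = v := by
  obtain ⟨a, ha, hact⟩ := D.act_A n hn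
  obtain ⟨q, hq, rfl⟩ := D.co_surj v
  rw [← D.acts_mul (D.A_cen ha) hact hact hq, D.A_sq a ha]
  simp

theorem acts_zero_iff [Finite G] {a : G} (ha : a ∈ D.A) : D.Acts a 0 ↔ a ∈ Y.Qg := by
  classical
  refine ⟨fun h => ?_, D.acts_Qg⟩
  have hB : D.Bg ≤ D.A := inf_le_left
  let K : Subgroup G :=
    { carrier := {x | x ∈ D.A ∧ D.Acts x 0}
      one_mem' := ⟨one_mem _, D.acts_Qg (one_mem _)⟩
      mul_mem' := fun {u v} hu hv => ⟨mul_mem hu.1 hv.1, fun q hq => by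
        rw [D.acts_mul (D.A_cen hv.1) hu.2 hv.2 hq, Rf_zero, Rf_zero]⟩
      inv_mem' := fun {u} hu => ⟨inv_mem hu.1, by rw [D.A_inv hu.1]; exact hu.2⟩ }
  have hBK : D.Bg ≤ K := fun x hx => ⟨hx.1, D.acts_Qg hx.2⟩
  choose r hr hract using D.act_A
  let f : Fin 16 × K → D.A := fun p => ⟨r p.1.val p.1.2 * p.2.1, mul_mem (hr _ _) p.2.2.1⟩
  have hf : Function.Injective f := by
    rintro ⟨n, k⟩ ⟨m, l⟩ e
    have e' : r n.val n.2 * (k : G) = r m.val m.2 * (l : G) := congrArg Subtype.val e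
    have an : D.Acts (r n.val n.2 * (k : G)) n.val := fun q hq => by
      rw [D.acts_mul (D.A_cen k.2.1) (hract _ _) k.2.2 hq, Rf_zero]
    have am : D.Acts (r m.val m.2 * (l : G)) m.val := fun q hq => by
      rw [D.acts_mul (D.A_cen l.2.1) (hract _ _) l.2.2 hq, Rf_zero]
    rw [e'] at an
    have hnm : n = m := Fin.ext (D.acts_unique n.2 m.2 an am)
    subst hnm
    exact Prod.ext rfl (Subtype.ext (mul_left_cancel e'))
  have hle := Nat.card_le_card_of_injective f hf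
  rw [Nat.card_prod, Nat.card_fin, D.A_card] at hle
  have heq : D.Bg = K := eq_of_le_of_card_ge hBK (by rw [D.card_Bg]; omega)
  exact ((heq ▸ (⟨ha, h⟩ : a ∈ K)) : a ∈ D.Bg).2

theorem acts_eq [Finite G] {a c : G} (ha : a ∈ D.A) (hc : c ∈ D.A) {n : ℕ} (hn : n < 16)
    (h1 : D.Acts a n) (h2 : D.Acts c n) : a * c ∈ D.Bg := by
  refine ⟨mul_mem ha hc, (D.acts_zero_iff (mul_mem ha hc)).1 fun q hq => ?_⟩
  rw [D.acts_mul (D.A_cen hc) h1 h2 hq, D.Rf_invol hn, Rf_zero]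

theorem isPGroup_sup [Finite G] : IsPGroup 2 ↥(D.A ⊔ Y.Qg) := by
  have h := card_sup_mul_inf D.A Y.Qg fun a ha q hq => Y.normQ a (D.A_cen ha) q hq
  rw [show Nat.card ↥(D.A ⊓ Y.Qg) = 128 from D.card_Bg, D.A_card, Y.card_Qg] at h
  exact IsPGroup.of_card (n := 17) (by omega)

/-- Elements moving `A` into `A Q` normalise it. -/
theorem conj_mem [Finite G] {c : G} (hc : c ∈ centralizer ({z} : Set G))
    (h : ∀ a ∈ D.A, c * a * c⁻¹ ∈ D.A ⊔ Y.Qg) {a : G} (ha : a ∈ D.A) : c * a * c⁻¹ ∈ D.A := by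
  have e := D.A_unique (D.A ⊔ Y.Qg) (D.A.map (MulAut.conj c).toMonoidHom)
    (sup_le D.A_cen Y.le_cen) D.isPGroup_sup le_sup_left
    (by rintro _ ⟨x, hx, rfl⟩; exact h x hx)
    (by rintro _ ⟨x, hx, rfl⟩; rw [← map_mul, D.A_sq x hx, map_one])
    (by rw [card_map_of_injective (MulAut.conj c).injective, D.A_card])
  rw [← e]
  exact ⟨a, ha, rfl⟩

theorem Qg_norm [Finite G] {q : G} (hq : q ∈ Y.Qg) {a : G} (ha : a ∈ D.A) : q * a * q⁻¹ ∈ D.A :=
  D.conj_mem (Y.le_cen hq) (fun x hx => mul_mem (mul_mem (mem_sup_right hq) (mem_sup_left hx))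
    (inv_mem (mem_sup_right hq))) ha

theorem sh_step {a : G} (ha : a ∈ D.A) : Y.ξ * a * Y.ξ⁻¹ * a⁻¹ ∈ Y.Qg := by
  have := inv_mem (Y.xiC a (D.A_le ha))
  rwa [show (a * Y.ξ * a⁻¹ * Y.ξ⁻¹)⁻¹ = Y.ξ * a * Y.ξ⁻¹ * a⁻¹ by group] at this

theorem sh_A [Finite G] {a : G} (ha : a ∈ D.A) : Y.sh a ∈ D.A := by
  refine D.conj_mem Y.xi_cen (fun x hx => ?_) ha
  rw [show Y.ξ * x * Y.ξ⁻¹ = Y.ξ * x * Y.ξ⁻¹ * x⁻¹ * x by group]
  exact mul_mem (mem_sup_right (D.sh_step hx)) (mem_sup_left hx)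

theorem exists_rep [Finite G] {n : ℕ} (hn : n < 16) :
    ∃ a ∈ D.A, D.Acts a n ∧ Y.sh a = a ∧ (n = 0 → a = 1) := by
  by_cases h0 : n = 0
  · subst h0
    exact ⟨1, one_mem _, D.acts_Qg (one_mem _), by simp [Sys.sh], fun _ => rfl⟩
  obtain ⟨a, ha, hact⟩ := D.act_A n hn
  have h1 := D.sh_A ha
  have h2 := D.sh_A h1
  have a1 : D.Acts (Y.sh a) n := by
    have e : a * (a * Y.sh a) = Y.sh a := by rw [← mul_assoc, D.A_sq a ha, one_mul]
    rw [← e]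
    refine D.acts_mul_Qg hact ?_
    rw [D.A_comm ha h1, show Y.sh a * a = Y.ξ * a * Y.ξ⁻¹ * a⁻¹ * (a * a) by simp [Sys.sh, mul_assoc],
      D.A_sq a ha, mul_one]
    exact D.sh_step ha
  have a2 : D.Acts (Y.sh (Y.sh a)) n := by
    have e : Y.sh a * (Y.sh a * Y.sh (Y.sh a)) = Y.sh (Y.sh a) := by rw [← mul_assoc, D.A_sq _ h1, one_mul]
    rw [← e]
    refine D.acts_mul_Qg a1 ?_
    rw [D.A_comm h1 h2,
      show Y.sh (Y.sh a) * Y.sh a = Y.ξ * Y.sh a * Y.ξ⁻¹ * (Y.sh a)⁻¹ * (Y.sh a * Y.sh a) by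
        simp [Sys.sh, mul_assoc], D.A_sq _ h1, mul_one]
    exact D.sh_step h1
  refine ⟨a * Y.sh a * Y.sh (Y.sh a), mul_mem (mul_mem ha h1) h2, fun q hq => ?_, ?_, fun e => absurd e h0⟩
  · have e12 : D.Acts (a * Y.sh a) 0 := fun q hq => by
      rw [D.acts_mul (D.A_cen h1) hact a1 hq, D.Rf_invol hn, Rf_zero]
    rw [D.acts_mul (D.A_cen h2) e12 a2 hq, Rf_zero]
  · rw [Y.sh_mul, Y.sh_mul, Y.sh_three, D.A_comm (mul_mem h1 h2) ha, ← mul_assoc]

variable [Finite G]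

open scoped Classical in
/-- The representative of a map centralising `ξ`. -/
noncomputable def rep (n : ℕ) : G := if h : n < 16 then (D.exists_rep h).choose else 1

theorem rep_spec {n : ℕ} (hn : n < 16) : D.rep n ∈ D.A ∧ D.Acts (D.rep n) n ∧
    Y.sh (D.rep n) = D.rep n ∧ (n = 0 → D.rep n = 1) := by
  rw [rep, dif_pos hn]
  exact (D.exists_rep hn).choose_spec

theorem exists_rep_code {a : G} (ha : a ∈ D.A) :
    ∃ n c, n < 16 ∧ c < 128 ∧ D.Acts a n ∧ a = D.rep n * D.phi c := by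
  obtain ⟨n, hn, hact⟩ := D.A_act a ha
  obtain ⟨hr, hract, -, -⟩ := D.rep_spec hn
  obtain ⟨c, hc, e⟩ := D.exists_code (D.acts_eq hr ha hn hract hact)
  exact ⟨n, c, hn, hc, hact, by rw [e, ← mul_assoc, D.A_sq _ hr, one_mul]⟩

/-- The sign and image of a conjugate of a representative. -/
theorem conj_rep {n : ℕ} (hn : n < 16) {q : G} (hq : q ∈ Y.Qg) {y : ℕ} (hy : y < 4096)
    (hco : D.co q = vecOf y) :
    ∃ x ∈ D.Bg, q⁻¹ * D.rep n * q = x * D.rep n ∧ D.co x = vecOf (Nat.xor (RC D.b n y) y) ∧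
      Y.Φ x = zb z (qC y ^^ btC (RC D.b n y) (omC (omC y))) := by
  obtain ⟨ha, hact, hsh, -⟩ := D.rep_spec hn
  set a := D.rep n with hadef
  set q' := a * q * a⁻¹ with hq'
  have hq'Q : q' ∈ Y.Qg := Y.normQ a (D.A_cen ha) q hq
  have hq'co : D.co q' = vecOf (RC D.b n y) := by rw [hact q hq, hco, D.Rf_code hn hy]
  have hA : q⁻¹ * a * q ∈ D.A := by simpa using D.Qg_norm (inv_mem hq) ha
  have hx : q⁻¹ * q' = q⁻¹ * a * q * a⁻¹ := by rw [hq']; group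
  refine ⟨q⁻¹ * q', Subgroup.mem_inf.2 ⟨?_, mul_mem (inv_mem hq) hq'Q⟩, by rw [hx]; group, ?_, ?_⟩
  · rw [hx]; exact mul_mem hA (inv_mem ha)
  · rw [D.co_mul _ (inv_mem hq) _ hq'Q, D.co_inv hq, hco, hq'co, ← vecOf_xor, nxor, nxor, Nat.xor_comm]
  have hΦq' : Y.Φ q' = Y.Φ q := by
    refine Y.Φ_conj ?_ (D.A_cen ha) hq
    calc a * Y.ξ = Y.sh a * Y.ξ := by rw [hsh]
      _ = Y.ξ * a := by simp [Sys.sh]
  have hss : Y.sh (Y.sh q⁻¹) ∈ Y.Qg := Y.sh_mem (Y.sh_mem (inv_mem hq))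
  have hsco : D.co (Y.sh (Y.sh q⁻¹)) = vecOf (omC (omC y)) := by
    rw [D.co_sh _ (Y.sh_mem (inv_mem hq)), D.co_sh _ (inv_mem hq), D.co_inv hq, hco, omV_vecOf hy,
      omV_vecOf (omC_lt _)]
  have hqq := D.sq_bit hq hco
  have hΦi : Y.Φ q⁻¹ = Y.Φ q * zb z (qC y) := by
    have e : q⁻¹ = q * zb z (qC y) := by
      refine inv_eq_of_mul_eq_one_right ?_
      rw [← mul_assoc, hqq]
      exact Y.inZ_sq (zb_inZ _)
    rw [e]
    cases qC y
    · simp [zb, Sys.Φ, Sys.sh]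
    · exact phi_mul_z Y hq
  rw [Y.Φ_mul (inv_mem hq) hq'Q, D.comm_bit hq'Q hss hq'co hsco, hΦi, hΦq', zb_xor Y]
  have hc := Y.zcomm (Y.le_cen (Y.inZ_mem (Y.Φ_inZ hq))) (zb_inZ (z := z) (qC y))
  rw [hc, mul_assoc (zb z (qC y)), Y.inZ_sq (Y.Φ_inZ hq), mul_one]

/-- The witnessed conjugates. -/
theorem conj_wit {n l y : ℕ} (hn : n < 16) (h : witOK D.b n l y = true) :
    ∃ q ∈ Y.Qg, q⁻¹ * D.rep n * q = D.rep n * D.phi (cd l) := by
  simp only [witOK, Bool.and_eq_true, Nat.ble_eq, beq_iff_eq] at h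
  obtain ⟨⟨h1, h2⟩, h3⟩ := h
  have hy : y < 4096 := by omega
  obtain ⟨q, hq, hco⟩ := D.co_surj (vecOf y)
  obtain ⟨x, hx, he, hxco, hxΦ⟩ := D.conj_rep hn hq hy hco
  have hxe : x = D.phi (cd l) := by
    refine D.phi_unique hx ?_ (hxΦ.trans (congrArg (zb z) ?_))
    · rw [hxco, Nat.eq_of_beq_eq_true h1]
      congr 2
      exact Nat.and_two_pow_sub_one_eq_mod (cd l) 6
    · exact h3.symm
  exact ⟨q, hq, by rw [he, hxe, D.A_comm (D.phi_mem _).1 (D.rep_spec hn).1]⟩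

/-- Outside the image both signs are conjugate. -/
theorem conj_out {n x : ℕ} (hn : n < 16) (hn0 : 1 ≤ n) (hx : x < 128)
    (h : inIm D.b n (x % 64) = false) :
    IsConj (D.rep n * D.phi x) (D.rep n * D.phi x * z) := by
  have hs := List.all_eq_true.1 (List.all_eq_true.1 (out_spec D.b) (n - 1) (List.mem_range.2 (by omega)))
    (x % 64) (List.mem_range.2 (Nat.mod_lt _ (by norm_num)))
  rw [show n - 1 + 1 = n by omega, h, Bool.false_or, List.any_eq_true] at hs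
  obtain ⟨y, -, hy'⟩ := hs
  simp only [Bool.and_eq_true, Nat.ble_eq] at hy'
  obtain ⟨⟨hfix, hy⟩, hbt⟩ := hy'
  have hy : y < 4096 := by omega
  obtain ⟨q, hq, hco⟩ := D.co_surj (vecOf y)
  obtain ⟨u, hu, he, huco, huΦ⟩ := D.conj_rep hn hq hy hco
  rw [Nat.eq_of_beq_eq_true hfix] at huco huΦ
  have hb : (qC y ^^ btC y (omC (omC y))) = false := by
    have h1 := btV_vecOf y (omC (omC y))
    rw [← omV_vecOf (omC_lt _), ← omV_vecOf hy] at h1
    have h2 : btV (vecOf y) (omV (omV (vecOf y))) = ∑ i, nz (vecOf y i) :=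
      Finset.sum_congr rfl fun i _ => bt_omega _
    rw [h2, qV_vecOf] at h1
    cases hq' : qC y <;> cases hb' : btC y (omC (omC y)) <;> rw [hq', hb'] at h1 <;>
      first | rfl | exact absurd h1 (by decide)
  have hu1 : u = 1 := by
    rw [hb] at huΦ
    have h0 : InZ z u := (D.co_zero u hu.2).1 (by rw [huco, nxor, Nat.xor_self, vecOf_zero])
    rw [Y.Φ_of_inZ h0] at huΦ
    exact huΦ
  rw [hu1, one_mul] at he
  have hc := D.comm_bit (inv_mem hq) (D.phi_mem x).2 (x := y) (by rw [D.co_inv hq, hco]) (D.co_phi x)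
  rw [hbt, inv_inv] at hc
  refine isConj_iff.2 ⟨q⁻¹, ?_⟩
  have hphi : q⁻¹ * D.phi x * q = z * D.phi x := eq_mul_of_mul_inv_eq hc
  rw [inv_inv]
  calc q⁻¹ * (D.rep n * D.phi x) * q = q⁻¹ * D.rep n * q * (q⁻¹ * D.phi x * q) := by group
    _ = D.rep n * (z * D.phi x) := by rw [he, hphi]
    _ = D.rep n * (D.phi x * z) := by rw [Y.zcomm (Y.le_cen (D.phi_mem x).2) (Or.inr rfl)]
    _ = D.rep n * D.phi x * z := by group

end AData

end CfsgLib.FischerTwoFour.Cocode
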