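import Cfsg.Agent.Lib.FischerTwoFour.Of

/-!
The local structure at a given conjugate of `z` in `Q` with trivial orbit product.
-/

set_option autoImplicit false
set_option linter.unusedSectionVars false

namespace CfsgLib.FischerTwoFour

open Subgroup

variable {G : Type*} [Group G] [Finite G] {z : G}

/-- Transport of a point by an element of the centraliser of `z`. -/
theorem Pt.exists_moved {Y : Sys z} (P : Pt Y) {c : G} (hc : c ∈ centralizer ({z} : Set G))
    (hphi : Y.Φ (c * P.s * c⁻¹) = 1) : ∃ P' : Pt Y, P'.s = c * P.s * c⁻¹ := by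
  have hci : c⁻¹ ∈ centralizer ({z} : Set G) := inv_mem hc
  have hQm : ∀ {x : G}, x ∈ Y.Qg ↔ c⁻¹ * x * c ∈ Y.Qg := fun {x} => by
    refine ⟨fun h => ?_, fun h => ?_⟩
    · have := Y.normQ _ hci x h
      rwa [inv_inv] at this
    · have := Y.normQ c hc _ h
      rwa [show c * (c⁻¹ * x * c) * c⁻¹ = x by group] at this
  have hQs : ∀ {x : G}, x ∈ Y.Qg.map (MulAut.conj (c * P.g)).toMonoidHom ↔
      c⁻¹ * x * c ∈ Y.Qg.map (MulAut.conj P.g).toMonoidHom := fun {x} => by
    constructor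
    · rintro ⟨y, hy, rfl⟩
      exact ⟨y, hy, by simp [mul_assoc]⟩
    · rintro ⟨y, hy, e⟩
      refine ⟨y, hy, ?_⟩
      have e' : P.g * y * P.g⁻¹ = c⁻¹ * x * c := by simpa using e
      calc (MulAut.conj (c * P.g)).toMonoidHom y = c * (P.g * y * P.g⁻¹) * c⁻¹ := by simp [mul_assoc]
        _ = x := by rw [e']; group
  have hR : ∀ {x : G}, x ∈ Y.Qg ⊓ Y.Qg.map (MulAut.conj (c * P.g)).toMonoidHom ↔
      c⁻¹ * x * c ∈ Y.Qg ⊓ Y.Qg.map (MulAut.conj P.g).toMonoidHom := fun {x} => and_congr hQm hQs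
  have hsz : c * P.s * c⁻¹ ≠ z := fun e => P.sz (by
    have hz := mem_centralizer_singleton_iff.1 hc
    calc P.s = c⁻¹ * (c * P.s * c⁻¹) * c := by group
      _ = c⁻¹ * z * c := by rw [e]
      _ = c⁻¹ * (c * z) := by rw [hz]; group
      _ = z := by group)
  have hD : ∀ d : ↥(centralizer ({z} : Set G) ⊓ centralizer ({c * P.s * c⁻¹} : Set G)),
      c⁻¹ * (d : G) * c ∈ centralizer ({z} : Set G) ⊓ centralizer ({P.s} : Set G) := fun d => by
    refine ⟨mul_mem (mul_mem hci d.2.1) hc, mem_centralizer_singleton_iff.2 ?_⟩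
    have h := mem_centralizer_singleton_iff.1 d.2.2
    calc c⁻¹ * (d : G) * c * P.s = c⁻¹ * ((d : G) * (c * P.s * c⁻¹)) * c := by group
      _ = c⁻¹ * (c * P.s * c⁻¹ * (d : G)) * c := by rw [h]
      _ = P.s * (c⁻¹ * (d : G) * c) := by group
  let ι : ↥(centralizer ({z} : Set G) ⊓ centralizer ({c * P.s * c⁻¹} : Set G)) →*
      ↥(centralizer ({z} : Set G) ⊓ centralizer ({P.s} : Set G)) :=
    MonoidHom.mk' (fun d => ⟨_, hD d⟩) fun a b => Subtype.ext (by
      show c⁻¹ * ((a : G) * (b : G)) * c = c⁻¹ * (a : G) * c * (c⁻¹ * (b : G) * c)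
      group)
  refine ⟨
    { s := c * P.s * c⁻¹
      g := c * P.g
      sQ := Y.normQ c hc _ P.sQ
      hg := by rw [← P.hg]; group
      sz := hsz
      Φs := hphi
      Rsq := fun a ha => by
        have h := P.Rsq _ (hR.1 ha)
        calc a * a = c * (c⁻¹ * a * c * (c⁻¹ * a * c)) * c⁻¹ := by group
          _ = 1 := by rw [h]; group
      Rcard := by
        rw [← P.Rcard]
        exact Nat.card_congr
          { toFun := fun x => ⟨_, hR.1 x.2⟩
            invFun := fun x => ⟨c * x.1 * c⁻¹, hR.2 (by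
              rw [show c⁻¹ * (c * (x : G) * c⁻¹) * c = x by group]; exact x.2)⟩
            left_inv := fun x => Subtype.ext (by show c * (c⁻¹ * (x : G) * c) * c⁻¹ = x; group)
            right_inv := fun x => Subtype.ext (by show c⁻¹ * (c * (x : G) * c⁻¹) * c = x; group) }
      π := P.π.comp ι
      π_surj := P.π_surj.comp fun d => ⟨⟨c * d.1 * c⁻¹, ?_, ?_⟩, Subtype.ext (by
        show c⁻¹ * (c * (d : G) * c⁻¹) * c = d; group)⟩
      π_ker := fun d => ?_
      π_kill := fun d hd => P.π_kill (ι d) (hd.imp hQm.1 hQs.1)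
      trans := fun a ha haz haz' => ?_ }, rfl⟩
  · exact mul_mem (mul_mem hc d.2.1) hci
  · refine mem_centralizer_singleton_iff.2 ?_
    have h := mem_centralizer_singleton_iff.1 d.2.2
    calc c * (d : G) * c⁻¹ * (c * P.s * c⁻¹) = c * ((d : G) * P.s) * c⁻¹ := by group
      _ = c * (P.s * (d : G)) * c⁻¹ := by rw [h]
      _ = c * P.s * c⁻¹ * (c * (d : G) * c⁻¹) := by group
  · have hinj : Function.Injective ι := fun a b e => Subtype.ext (by
      have e' : c⁻¹ * (a : G) * c = c⁻¹ * (b : G) * c := congrArg Subtype.val e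
      simpa using e')
    obtain ⟨k, hk⟩ := P.π_ker ⟨ι d.1, d.2⟩
    exact ⟨k, Subtype.ext (hinj (by
      rw [SubmonoidClass.coe_pow, map_pow, OneMemClass.coe_one, map_one]
      exact congrArg Subtype.val hk))⟩
  · obtain ⟨d, hd, hda⟩ := P.trans a ha haz haz'
    exact ⟨d * c⁻¹, mul_mem hd hci, by rw [← hda]; group⟩

/-- A point at a given conjugate of `z` with trivial orbit product. -/
theorem exists_pt_at {Q : Subgroup (Subgroup.centralizer ({z} : Set G))} [Q.Normal]
    (hF : Cfsg.IsOfLargeFischerTypeAt z Q) (Y : Sys z)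
    (hQ : Y.Qg = Q.map (Subgroup.centralizer ({z} : Set G)).subtype) {q : G} (hq : q ∈ Y.Qg)
    (hc : IsConj z q) (hne : q ≠ z) (hphi : Y.Φ q = 1) : ∃ P : Pt Y, P.s = q := by
  obtain ⟨P⟩ := exists_pt hF Y hQ
  obtain ⟨c, hcc, rfl⟩ := P.trans q hq hc hne
  exact P.exists_moved hcc hphi

end CfsgLib.FischerTwoFour
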