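import Cfsg.Agent.Lib.FischerTwoFour.Cocode.Pairs
import Cfsg.Agent.Lib.FischerTwoFour.Of
import Cfsg.Agent.Lib.FischerTwoFour.Types
import Cfsg.Agent.Lib.Golay.Mathieu

/-!
The normaliser of `A` modulo `A` is `M24` acting on the pairs, and controls the fusion in `A`.
-/

set_option autoImplicit false
set_option linter.unusedSectionVars false
set_option linter.style.haveILetI false

namespace CfsgLib.FischerTwoFour.Cocode

open Subgroup
open Four hiding mul_one one_mul mul_assoc mul_comm mul_zero zero_mul mul_add add_mul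

variable {G : Type*} [Group G] [Finite G] {z : G}

/-- Involutions of `Q` outside the class of `z` are conjugate in `C(z)`. -/
theorem conj_in_Q {Q : Subgroup (Subgroup.centralizer ({z} : Set G))} [Q.Normal]
    (hF : Cfsg.IsOfLargeFischerTypeAt z Q) {u v : G}
    (hu : u ∈ Q.map (Subgroup.centralizer ({z} : Set G)).subtype)
    (hv : v ∈ Q.map (Subgroup.centralizer ({z} : Set G)).subtype)
    (hu2 : u * u = 1) (hv2 : v * v = 1) (hu1 : u ≠ 1) (hv1 : v ≠ 1)
    (huz : ¬ IsConj z u) (hvz : ¬ IsConj z v) :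
    ∃ c ∈ Subgroup.centralizer ({z} : Set G), c * u * c⁻¹ = v := by
  have S := shape_of hF
  have hz : orderOf z = 2 := hF.1.1
  obtain ⟨g₀, ⟨hq₀, hg₀Q⟩, hne₀⟩ := hF.1.2.2.2.2
  obtain ⟨a, rfl⟩ := mem_map_iff.1 hu
  obtain ⟨b, rfl⟩ := mem_map_iff.1 hv
  let s : Q := ⟨⟨_, hq₀⟩, hg₀Q⟩
  have hsG : toG s = g₀ * z * g₀⁻¹ := rfl
  have hs11520 := (local_structure S hz s rfl hne₀ _ rfl _ rfl).1
  have hz1 : z ≠ 1 := fun e => by rw [e, orderOf_one] at hz; omega
  have hsn : s ∉ Subgroup.center Q := not_center S hz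
    (fun e => hz1 (conj_eq_one_iff.1 (show g₀ * z * g₀⁻¹ = 1 from e))) hne₀
  have sq : ∀ x : Q, toG x * toG x = 1 → x * x = 1 := fun x h => toG_inj (by rw [map_mul, h, map_one])
  have hs2 : s * s = 1 := sq s (by
    have hzz : z * z = 1 := by rw [← _root_.sq, ← hz]; exact pow_orderOf_eq_one z
    rw [hsG, show g₀ * z * g₀⁻¹ * (g₀ * z * g₀⁻¹) = g₀ * (z * z) * g₀⁻¹ by group, hzz]
    group)
  have big : ∀ x : Q, toG x * toG x = 1 → toG x ≠ 1 → ¬ IsConj z (toG x) →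
      x ∉ Subgroup.center Q ∧ Nat.card (stabImage x) = 51840 := fun x h2 h1 hc => by
    have hn : x ∉ Subgroup.center Q := not_center S hz h1 fun e => hc (by
      rw [show toG x = z from e])
    refine ⟨hn, ((S.stab_cases (sq x h2) hn).1).resolve_right fun h => hc ?_⟩
    obtain ⟨c, hcc⟩ := S.conj_of_card hs2 hsn (sq x h2) hn (hs11520.trans h.symm)
    refine isConj_iff.2 ⟨(c : G) * g₀, ?_⟩
    rw [show toG x = ((x : Subgroup.centralizer ({z} : Set G)) : G) from rfl, ← hcc]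
    show (c : G) * g₀ * z * ((c : G) * g₀)⁻¹ = (c : G) * (g₀ * z * g₀⁻¹) * (c : G)⁻¹
    group
  obtain ⟨han, ha⟩ := big a hu2 hu1 huz
  obtain ⟨hbn, hb⟩ := big b hv2 hv1 hvz
  obtain ⟨c, hcc⟩ := S.conj_of_card (sq a hu2) han (sq b hv2) hbn (ha.trans hb.symm)
  exact ⟨c, c.2, congrArg Subtype.val hcc⟩

/-- An orbit under conjugation times the centraliser. -/
theorem card_orbit_mul (H : Subgroup G) (x : G) :
    {y : G | ∃ h ∈ H, h * x * h⁻¹ = y}.ncard * Nat.card ↥(H ⊓ Subgroup.centralizer ({x} : Set G)) = Nat.card H := by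
  classical
  set K := H ⊓ Subgroup.centralizer ({x} : Set G) with hK
  let f : H ⧸ K.subgroupOf H → G := Quotient.lift (fun h : H => (h : G) * x * (h : G)⁻¹) fun a b hab => by
    have h : (a : G)⁻¹ * b ∈ Subgroup.centralizer ({x} : Set G) :=
      (Subgroup.mem_subgroupOf.1 (QuotientGroup.leftRel_apply.1 hab)).2
    have h' := mem_centralizer_singleton_iff.1 h
    calc (a : G) * x * (a : G)⁻¹ = (a : G) * (x * ((a : G)⁻¹ * b)) * (b : G)⁻¹ := by group
      _ = (a : G) * ((a : G)⁻¹ * b * x) * (b : G)⁻¹ := by rw [h']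
      _ = (b : G) * x * (b : G)⁻¹ := by group
  have hf : Function.Injective f := by
    intro a b
    induction a using Quotient.inductionOn with
    | _ a =>
      induction b using Quotient.inductionOn with
      | _ b =>
        intro e
        refine Quotient.sound (QuotientGroup.leftRel_apply.2 (Subgroup.mem_subgroupOf.2
          ⟨H.mul_mem (H.inv_mem a.2) b.2, mem_centralizer_singleton_iff.2 ?_⟩))
        have e' : (a : G) * x * (a : G)⁻¹ = (b : G) * x * (b : G)⁻¹ := e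
        show (a : G)⁻¹ * b * x = x * ((a : G)⁻¹ * b)
        calc (a : G)⁻¹ * b * x = (a : G)⁻¹ * ((b : G) * x * (b : G)⁻¹) * b := by group
          _ = x * ((a : G)⁻¹ * b) := by rw [← e']; group
  have hr : Set.range f = {y : G | ∃ h ∈ H, h * x * h⁻¹ = y} := by
    ext y
    constructor
    · rintro ⟨q, rfl⟩
      induction q using Quotient.inductionOn with
      | _ a => exact ⟨a, a.2, rfl⟩
    · rintro ⟨h, hh, rfl⟩
      exact ⟨QuotientGroup.mk ⟨h, hh⟩, rfl⟩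
  rw [← hr, Set.ncard_range_of_injective hf, ← Nat.card_congr (Subgroup.subgroupOfEquivOfLe
    (inf_le_left : K ≤ H)).toEquiv]
  exact (Subgroup.card_eq_card_quotient_mul_card_subgroup _).symm

/-- A subgroup of `M24` of index at most fifteen is everything. -/
theorem M24_top (H : Subgroup Cfsg.M24) (h : Nat.card Cfsg.M24 ≤ Nat.card H * 15) : H = ⊤ := by
  classical
  haveI := CfsgLib.Golay.isSimpleGroup_M24
  haveI := Fact.mk (show Nat.Prime 23 by norm_num)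
  by_contra hne
  have hcard := CfsgLib.Golay.natCard_M24
  have hidx : H.index ≤ 15 := by
    have h' := H.card_mul_index
    by_contra hgt
    have := Nat.mul_le_mul_left (Nat.card H) (show 16 ≤ H.index by omega)
    omega
  rcases (MulAction.toPermHom Cfsg.M24 (Cfsg.M24 ⧸ H)).normal_ker.eq_bot_or_eq_top with e | e
  · obtain ⟨x, hx⟩ := exists_prime_orderOf_dvd_card' (G := Cfsg.M24) 23 (by rw [hcard]; norm_num)
    have h1 := orderOf_injective _ ((MonoidHom.ker_eq_bot_iff _).1 e) x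
    have h2 : orderOf (MulAction.toPermHom Cfsg.M24 (Cfsg.M24 ⧸ H) x) ∣ H.index.factorial := by
      refine (_root_.orderOf_dvd_natCard _).trans (dvd_of_eq ?_)
      rw [Nat.card_perm]
      rfl
    rw [h1, hx] at h2
    have := (Nat.Prime.dvd_factorial (by norm_num)).1 h2
    omega
  · rw [← Subgroup.normalCore_eq_ker] at e
    exact hne (top_le_iff.1 (e ▸ H.normalCore_le))

theorem perm_eq_of_pairs {σ τ : Equiv.Perm Cfsg.GolayPt}
    (h : ∀ i j, i ≠ j → (τ i = σ i ∧ τ j = σ j) ∨ (τ i = σ j ∧ τ j = σ i)) : τ = σ := by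
  have three : ∀ i : Cfsg.GolayPt, ∃ j k, i ≠ j ∧ i ≠ k ∧ j ≠ k := by decide
  refine Equiv.ext fun i => ?_
  obtain ⟨j, k, hij, hik, hjk⟩ := three i
  rcases h i j hij with h1 | h1
  · exact h1.1
  rcases h i k hik with h2 | h2
  · exact h2.1
  exact absurd (σ.injective (h1.1.symm.trans h2.1)) hjk

/-- The outcome: a subgroup of order `2^11` whose normaliser induces `M24` on its two orbits. -/
structure MathieuLocal (z : G) (A : Subgroup G) : Prop where
  comm : ∀ a ∈ A, ∀ b ∈ A, a * b = b * a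
  sq : ∀ a ∈ A, a * a = 1
  card : Nat.card A = 2048
  conjz : ∃ a ∈ A, a ≠ 1 ∧ IsConj z a
  other : ∃ a ∈ A, a ≠ 1 ∧ ¬ IsConj z a
  trans : ∀ a ∈ A, ∀ b ∈ A, a ≠ 1 → b ≠ 1 → (IsConj z a ↔ IsConj z b) →
    ∃ m ∈ normalizer (A : Set G), m * a * m⁻¹ = b
  quot : ∃ φ : ↥(normalizer (A : Set G)) →* ↥Cfsg.M24, Function.Surjective φ ∧
    φ.ker = A.subgroupOf (normalizer (A : Set G)) ∧
    ∀ t ∈ A, t ≠ 1 → ¬ IsConj z t → ∃ i j : Cfsg.GolayPt, i ≠ j ∧ ∀ x : ↥(normalizer (A : Set G)),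
      (x : G) * t * (x : G)⁻¹ = t ↔ ((φ x : Equiv.Perm Cfsg.GolayPt) i = i ∧ (φ x : Equiv.Perm Cfsg.GolayPt) j = j) ∨
        ((φ x : Equiv.Perm Cfsg.GolayPt) i = j ∧ (φ x : Equiv.Perm Cfsg.GolayPt) j = i)

variable {Y : CfsgLib.FischerTwoFour.Sys z} {Q : Subgroup (Subgroup.centralizer ({z} : Set G))} [Q.Normal]

namespace AData

variable (D : AData Y) (hF : Cfsg.IsOfLargeFischerTypeAt z Q)
  (hQ : Y.Qg = Q.map (Subgroup.centralizer ({z} : Set G)).subtype) (hpt : HasPts Y)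

include D

theorem card_NcG_Bg : {u | u ∈ D.NcG ∧ u ∈ D.Bg}.ncard ≤ 36 := by
  classical
  have hc : ((List.range 128).filter fun c => memL c 0).length = 36 := by decide +kernel
  refine le_trans (ncard_filter_image_le D.phi (fun c => memL c 0) 128 _ ?_) hc.le
  rintro u ⟨⟨-, hu1, huc⟩, huB⟩
  obtain ⟨c, hcl, rfl⟩ := D.exists_code huB
  refine ⟨c, hcl, ?_, rfl⟩
  have hc0 : c ≠ 0 := fun e => hu1 (by rw [e, D.phi_zero])
  rw [D.conj_phi hcl hc0] at huc
  simpa using huc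

include hF hQ hpt

theorem trans_tet {u v : G} (hu : u ∈ D.NcG) (huB : u ∈ D.Bg) (hv : v ∈ D.NcG) (hvB : v ∈ D.Bg) :
    ∃ m ∈ normalizer (D.A : Set G) ⊓ Subgroup.centralizer ({z} : Set G), m * u * m⁻¹ = v := by
  have huQ := huB.2
  have hvQ := hvB.2
  rw [hQ] at huQ hvQ
  obtain ⟨c, hc, hcu⟩ := conj_in_Q hF huQ hvQ (D.A_sq u hu.1) (D.A_sq v hv.1) hu.2.1 hv.2.1 hu.2.2 hv.2.2
  have hAv : D.A ≤ Subgroup.centralizer ({z} : Set G) ⊓ Subgroup.centralizer ({v} : Set G) := fun a ha =>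
    ⟨D.A_cen ha, mem_centralizer_singleton_iff.2 (D.A_comm ha hv.1)⟩
  obtain ⟨d, hd, h⟩ := D.exists_norm (g := c⁻¹) _ inf_le_left hAv fun a ha => by
    rw [inv_inv]
    refine Subgroup.mem_inf.2
      ⟨mul_mem (mul_mem hc (D.A_cen ha)) (inv_mem hc), mem_centralizer_singleton_iff.2 ?_⟩
    rw [← hcu]
    calc c * a * c⁻¹ * (c * u * c⁻¹) = c * (a * u) * c⁻¹ := by group
      _ = c * (u * a) * c⁻¹ := by rw [D.A_comm ha hu.1]
      _ = c * u * c⁻¹ * (c * a * c⁻¹) := by group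
  have hm := inv_mem (D.mem_normalizer_A h)
  rw [show (c⁻¹ * d⁻¹)⁻¹ = d * c by group] at hm
  refine ⟨d * c, ⟨hm, mul_mem hd.1 hc⟩, ?_⟩
  rw [show d * c * u * (d * c)⁻¹ = d * (c * u * c⁻¹) * d⁻¹ by group, hcu,
    mem_centralizer_singleton_iff.1 hd.2, mul_inv_cancel_right]

theorem trans_NcG {u v : G} (hu : u ∈ D.NcG) (hv : v ∈ D.NcG) :
    ∃ m ∈ normalizer (D.A : Set G), m * u * m⁻¹ = v := by
  obtain ⟨p, -, -, -, -, -, -, -, -, htet, htetB, -⟩ := D.exists_pairs hpt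
  have back : ∀ u ∈ D.NcG, ∃ m ∈ normalizer (D.A : Set G), ∃ w, w ∈ D.NcG ∧ w ∈ D.Bg ∧ m * w * m⁻¹ = u := by
    intro u hu
    obtain ⟨z', hz'A, hz'c, hz'u⟩ := htet u hu
    obtain ⟨m, hm, rfl⟩ := D.exists_norm_z hz'A hz'c
    refine ⟨m, hm, m⁻¹ * u * m, ?_, ?_, by group⟩
    · rw [← D.norm_NcG hm, show m * (m⁻¹ * u * m) * m⁻¹ = u by group]; exact hu
    · refine htetB _ ?_ ?_
      · rw [← D.norm_NcG hm, show m * (m⁻¹ * u * m) * m⁻¹ = u by group]; exact hu
      · rw [← D.norm_NcG hm, show m * (z * (m⁻¹ * u * m)) * m⁻¹ = m * z * m⁻¹ * u by group]; exact hz'u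
  obtain ⟨m, hm, w, hw, hwB, rfl⟩ := back u hu
  obtain ⟨m', hm', w', hw', hwB', rfl⟩ := back v hv
  obtain ⟨k, hk, rfl⟩ := D.trans_tet hF hQ hpt hw hwB hw' hwB'
  exact ⟨m' * k * m⁻¹, mul_mem (mul_mem hm' hk.1) (inv_mem hm), by group⟩

theorem mathieuLocal : MathieuLocal z D.A ∧
    (Nat.card ↥(normalizer (D.A : Set G)) = 2048 * 244823040) := by
  classical
  haveI := Fintype.ofFinite G
  haveI := Fact.mk Nat.prime_two
  obtain ⟨p, hdiag, hsym, hNc, hsurj, huniq, hequiv, hker, h276, -, htetB, h36⟩ := D.exists_pairs hpt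
  set N := normalizer (D.A : Set G) with hN
  have heq : ∀ {σ τ : Equiv.Perm Cfsg.GolayPt}, (∀ i j, p (σ i) (σ j) = p (τ i) (τ j)) → τ = σ :=
    fun {σ τ} h => perm_eq_of_pairs fun i j hij =>
      huniq _ _ _ _ (fun e => hij (σ.injective e)) (fun e => hij (τ.injective e)) (h i j)
  choose σ hσM hσ using fun m : N => hequiv m m.2
  let φ : N →* Cfsg.M24 := MonoidHom.mk' (fun m => ⟨σ m, hσM m⟩) fun a b => Subtype.ext (by
    refine heq fun i j => ?_
    show p (σ a (σ b i)) (σ a (σ b j)) = p (σ (a * b) i) (σ (a * b) j)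
    rw [← hσ a, ← hσ b, ← hσ (a * b), Subgroup.coe_mul]; group)
  have hAN : D.A ≤ N := le_normalizer
  have hfix : ∀ m : N, φ m = 1 ↔ (m : G) ∈ D.A := by
    intro m
    constructor
    · intro h
      have h' : σ m = 1 := congrArg Subtype.val h
      refine hker m m.2 fun u hu => ?_
      obtain ⟨i, j, -, rfl⟩ := hsurj u hu
      rw [hσ m, h']; rfl
    · intro h
      refine Subtype.ext (heq (σ := 1) fun i j => ?_)
      show p i j = p (σ m i) (σ m j)
      rw [← hσ m]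
      by_cases hij : i = j
      · subst hij
        rw [hdiag i, mul_one, mul_inv_cancel]
      · rw [D.A_comm h (hNc i j hij).1, mul_inv_cancel_right]
  have hkerA : φ.ker = D.A.subgroupOf N := by
    ext m
    rw [MonoidHom.mem_ker, hfix, mem_subgroupOf]
  have hcardN : Nat.card N = 2048 * Nat.card φ.range := by
    rw [Subgroup.card_eq_card_quotient_mul_card_subgroup φ.ker,
      Nat.card_congr (QuotientGroup.quotientKerEquivRange φ).toEquiv, hkerA,
      Nat.card_congr (subgroupOfEquivOfLe hAN).toEquiv, D.A_card, mul_comm]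
  -- the orbit of `z`
  have horb1 : {y : G | ∃ h ∈ N, h * z * h⁻¹ = y}.ncard = 1771 := by
    have e : {y : G | ∃ h ∈ N, h * z * h⁻¹ = y} = {a | a ∈ D.A ∧ a ≠ 1} \ D.NcG := by
      ext y
      constructor
      · rintro ⟨h, hh, rfl⟩
        exact ⟨⟨D.norm_conj hh D.z_mem_A, fun e => Y.z1 (conj_eq_one_iff.1 e)⟩,
          fun hn => hn.2.2 (isConj_iff.2 ⟨h, rfl⟩)⟩
      · rintro ⟨⟨hy, hy1⟩, hyn⟩
        exact D.exists_norm_z hy ((D.eq_or_conj hy hy1).resolve_left hyn)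
    have h1 : {a : G | a ∈ D.A ∧ a ≠ 1} = (D.A : Set G) \ {1} := by ext a; simp
    rw [e, Set.ncard_sdiff (show D.NcG ⊆ {a | a ∈ D.A ∧ a ≠ 1} from fun a ha => ⟨ha.1, ha.2.1⟩) (Set.toFinite _), h276, h1,
      Set.ncard_sdiff_singleton_of_mem (one_mem D.A), ← Nat.card_coe_set_eq]
    show Nat.card D.A - 1 - 276 = 1771
    rw [D.A_card]
  -- the orbit of a tetrad at `z`
  set Nz := N ⊓ Subgroup.centralizer ({z} : Set G) with hNz
  set T : Set G := {u | u ∈ D.NcG ∧ z * u ∈ D.NcG}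
  have hTB : T ⊆ {u | u ∈ D.NcG ∧ u ∈ D.Bg} := fun u hu => ⟨hu.1, htetB u hu.1 hu.2⟩
  have hT36 : T.ncard = 36 :=
    le_antisymm ((Set.ncard_le_ncard hTB (Set.toFinite _)).trans D.card_NcG_Bg) h36
  obtain ⟨u₀, hu₀⟩ : T.Nonempty := Set.nonempty_of_ncard_ne_zero (by rw [hT36]; norm_num)
  have horb2 : {y : G | ∃ h ∈ Nz, h * u₀ * h⁻¹ = y} = T := by
    ext y
    constructor
    · rintro ⟨h, hh, rfl⟩
      refine ⟨(D.norm_NcG hh.1).2 hu₀.1, ?_⟩
      rw [show z * (h * u₀ * h⁻¹) = h * (z * u₀) * h⁻¹ by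
        rw [← mul_assoc, ← mul_assoc, ← Y.zcomm hh.2 (Or.inr rfl), mul_assoc h z]]
      exact (D.norm_NcG hh.1).2 hu₀.2
    · intro hy
      exact D.trans_tet hF hQ hpt hu₀.1 (hTB hu₀).2 hy.1 (hTB hy).2
  have hdA : 2048 ∣ Nat.card ↥(Nz ⊓ Subgroup.centralizer ({u₀} : Set G)) := by
    rw [← D.A_card]
    exact card_dvd_of_le fun a ha => ⟨⟨hAN ha, D.A_cen ha⟩, mem_centralizer_singleton_iff.2 (D.A_comm ha hu₀.1.1)⟩
  have hd1 : 63756 * 2048 ∣ Nat.card N := by
    have h1 := card_orbit_mul N z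
    have h2 := card_orbit_mul Nz u₀
    rw [horb1] at h1
    rw [horb2, hT36] at h2
    rw [← h1, ← hNz, ← h2]
    obtain ⟨k, hk⟩ := hdA
    rw [hk]
    exact ⟨k, by ring⟩
  have hd2 : 2 ^ 21 ∣ Nat.card N := by
    have hC : 2 ^ 21 ∣ Nat.card ↥(Subgroup.centralizer ({z} : Set G)) := by
      rw [Subgroup.card_eq_card_quotient_mul_card_subgroup Q, (shape_of hF).card_C, (shape_of hF).card_Q]
      norm_num
    set C := Subgroup.centralizer ({z} : Set G)
    obtain ⟨T, hT⟩ := (D.isPGroup_A.comap_subtype (K := C)).exists_le_sylow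
    refine (T.pow_dvd_card_of_pow_dvd_card hC).trans ?_
    rw [show Nat.card (T : Subgroup C) = Nat.card ↥((T : Subgroup C).map C.subtype) from
      (card_map_of_injective C.subtype_injective).symm]
    refine card_dvd_of_le ?_
    rintro _ ⟨t, ht, rfl⟩
    refine D.mem_normalizer_A fun a ha => ?_
    have e := D.A_unique ((T : Subgroup C).map C.subtype) (D.A.map (MulAut.conj (t : G)).toMonoidHom)
      (map_subtype_le _) (T.2.map _) (fun a ha => ⟨⟨a, D.A_cen ha⟩, hT ha, rfl⟩)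
      (by
        rintro _ ⟨x, hx, rfl⟩
        exact ⟨t * ⟨x, D.A_cen hx⟩ * t⁻¹, mul_mem (mul_mem ht (hT hx)) (inv_mem ht), rfl⟩)
      (D.conj_A_sq _) (D.conj_A_card _)
    rw [← e]
    exact ⟨a, ha, rfl⟩
  have hrange : φ.range = ⊤ := by
    refine M24_top _ ?_
    rw [CfsgLib.Golay.natCard_M24]
    rw [hcardN] at hd1 hd2
    have h1 : 63756 ∣ Nat.card φ.range := Nat.dvd_of_mul_dvd_mul_left (by norm_num : 0 < 2048) (by
      rwa [mul_comm 63756] at hd1)
    have h2 : 1024 ∣ Nat.card φ.range := Nat.dvd_of_mul_dvd_mul_left (by norm_num : 0 < 2048) (by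
      norm_num at hd2 ⊢; exact hd2)
    have h3 := Nat.le_of_dvd Nat.card_pos (Nat.lcm_dvd h1 h2)
    rw [show Nat.lcm 63756 1024 = 16321536 by decide +kernel] at h3
    omega
  refine ⟨⟨fun a ha b hb => D.A_comm ha hb, D.A_sq, D.A_card, ⟨z, D.z_mem_A, Y.z1, IsConj.refl z⟩, ?_,
    fun a ha b hb ha1 hb1 hab => ?_, φ, MonoidHom.range_eq_top.1 hrange, hkerA, fun t ht ht1 htc => ?_⟩, ?_⟩
  · exact ⟨u₀, hu₀.1.1, hu₀.1.2.1, hu₀.1.2.2⟩
  · by_cases hc : IsConj z a
    · obtain ⟨m, hm, rfl⟩ := D.exists_norm_z ha hc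
      obtain ⟨m', hm', rfl⟩ := D.exists_norm_z hb (hab.1 hc)
      exact ⟨m' * m⁻¹, mul_mem hm' (inv_mem hm), by group⟩
    · exact D.trans_NcG hF hQ hpt ⟨ha, ha1, hc⟩ ⟨hb, hb1, fun h => hc (hab.2 h)⟩
  · obtain ⟨i, j, hij, rfl⟩ := hsurj t ⟨ht, ht1, htc⟩
    refine ⟨i, j, hij, fun x => ?_⟩
    rw [hσ x]
    show _ ↔ (σ x i = i ∧ σ x j = j) ∨ (σ x i = j ∧ σ x j = i)
    constructor
    · intro h
      exact huniq i j _ _ hij (fun e => hij ((σ x).injective e)) h.symm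
    · rintro (⟨h1, h2⟩ | ⟨h1, h2⟩) <;> rw [h1, h2]
      exact hsym j i
  · rw [hcardN, hrange, Subgroup.card_top, CfsgLib.Golay.natCard_M24]

end AData

end CfsgLib.FischerTwoFour.Cocode
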