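import Cfsg.Prelude.Def_Transfer
import Cfsg.Agent.Lib.FischerTwoFour.Cocode.Fusion

/-!
`A` is the Thompson subgroup of a Sylow `2`-subgroup of `G`.
-/

set_option autoImplicit false
set_option linter.unusedSectionVars false
set_option linter.style.haveILetI false

namespace CfsgLib.FischerTwoFour.Cocode

open Subgroup
open Four hiding mul_one one_mul mul_assoc mul_comm mul_zero zero_mul mul_add add_mul

variable {G : Type*} [Group G] [Finite G] {z : G}

theorem MathieuLocal.map {A : Subgroup G} (h : MathieuLocal z A) (g : G) :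
    MathieuLocal z (A.map (MulAut.conj g).toMonoidHom) := by
  set A' := A.map (MulAut.conj g).toMonoidHom with hA'
  have hmem : ∀ x, x ∈ A' ↔ g⁻¹ * x * g ∈ A := fun x => by
    constructor
    · rintro ⟨a, ha, rfl⟩
      show g⁻¹ * (g * a * g⁻¹) * g ∈ A
      rwa [show g⁻¹ * (g * a * g⁻¹) * g = a by group]
    · intro hx
      exact ⟨_, hx, show g * (g⁻¹ * x * g) * g⁻¹ = x by group⟩
  have hN : ∀ x, x ∈ normalizer (A' : Set G) ↔ g⁻¹ * x * g ∈ normalizer (A : Set G) := fun x => by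
    constructor
    · intro hx
      refine mem_normalizer_iff.2 fun a => ?_
      have := mem_normalizer_iff.1 hx (g * a * g⁻¹)
      rw [hmem, hmem] at this
      rwa [show g⁻¹ * (g * a * g⁻¹) * g = a by group, show g⁻¹ * (x * (g * a * g⁻¹) * x⁻¹) * g =
        g⁻¹ * x * g * a * (g⁻¹ * x * g)⁻¹ by group] at this
    · intro hx
      refine mem_normalizer_iff.2 fun a => ?_
      rw [hmem, hmem, mem_normalizer_iff.1 hx (g⁻¹ * a * g),
        show g⁻¹ * x * g * (g⁻¹ * a * g) * (g⁻¹ * x * g)⁻¹ = g⁻¹ * (x * a * x⁻¹) * g by group]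
  have hty : ∀ x, IsConj z x ↔ IsConj z (g⁻¹ * x * g) := fun x => by
    have := isConj_conj_iff (z := z) g⁻¹ x
    rw [inv_inv] at this
    exact this.symm
  have hne : ∀ x, x ≠ 1 → g⁻¹ * x * g ≠ 1 := fun x hx e => hx (by
    calc x = g * (g⁻¹ * x * g) * g⁻¹ := by group
      _ = 1 := by rw [e]; group)
  obtain ⟨φ, hφ, hk, ht⟩ := h.quot
  refine ⟨?_, ?_, ?_, ?_, ?_, ?_, ?_⟩
  · rintro _ ⟨a, ha, rfl⟩ _ ⟨b, hb, rfl⟩
    rw [← map_mul, ← map_mul, h.comm a ha b hb]
  · rintro _ ⟨a, ha, rfl⟩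
    rw [← map_mul, h.sq a ha, map_one]
  · rw [card_map_of_injective (MulAut.conj g).injective, h.card]
  · obtain ⟨a, ha, ha1, hc⟩ := h.conjz
    exact ⟨g * a * g⁻¹, ⟨a, ha, rfl⟩, fun e => ha1 (conj_eq_one_iff.1 e), (isConj_conj_iff g a).2 hc⟩
  · obtain ⟨a, ha, ha1, hc⟩ := h.other
    exact ⟨g * a * g⁻¹, ⟨a, ha, rfl⟩, fun e => ha1 (conj_eq_one_iff.1 e), fun e => hc ((isConj_conj_iff g a).1 e)⟩
  · intro a ha b hb ha1 hb1 hab
    obtain ⟨m, hm, e⟩ := h.trans _ ((hmem a).1 ha) _ ((hmem b).1 hb) (hne a ha1) (hne b hb1)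
      ((hty a).symm.trans (hab.trans (hty b)))
    refine ⟨g * m * g⁻¹, (hN _).2 (by rwa [show g⁻¹ * (g * m * g⁻¹) * g = m by group]), ?_⟩
    calc g * m * g⁻¹ * a * (g * m * g⁻¹)⁻¹ = g * (m * (g⁻¹ * a * g) * m⁻¹) * g⁻¹ := by group
      _ = b := by rw [e]; group
  · let ι : ↥(normalizer (A' : Set G)) →* ↥(normalizer (A : Set G)) :=
      MonoidHom.mk' (fun x => ⟨g⁻¹ * (x : G) * g, (hN x).1 x.2⟩) fun a b => Subtype.ext (by
        show g⁻¹ * ((a : G) * (b : G)) * g = g⁻¹ * (a : G) * g * (g⁻¹ * (b : G) * g)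
        group)
    refine ⟨φ.comp ι, hφ.comp fun y => ⟨⟨g * (y : G) * g⁻¹, (hN _).2 (by
      rw [show g⁻¹ * (g * (y : G) * g⁻¹) * g = y by group]; exact y.2)⟩, Subtype.ext (by
        show g⁻¹ * (g * (y : G) * g⁻¹) * g = y; group)⟩, ?_, ?_⟩
    · ext x
      rw [MonoidHom.mem_ker, MonoidHom.comp_apply, ← MonoidHom.mem_ker, hk, mem_subgroupOf, mem_subgroupOf, hmem]
      rfl
    · intro t htA ht1 htc
      obtain ⟨i, j, hij, hx⟩ := ht _ ((hmem t).1 htA) (hne t ht1) fun e => htc ((hty t).2 e)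
      refine ⟨i, j, hij, fun x => ?_⟩
      rw [MonoidHom.comp_apply, ← hx (ι x)]
      show _ ↔ g⁻¹ * (x : G) * g * (g⁻¹ * t * g) * (g⁻¹ * (x : G) * g)⁻¹ = g⁻¹ * t * g
      rw [show g⁻¹ * (x : G) * g * (g⁻¹ * t * g) * (g⁻¹ * (x : G) * g)⁻¹ =
        g⁻¹ * ((x : G) * t * (x : G)⁻¹) * g by group]
      exact ⟨fun e => by rw [e], fun e => mul_left_cancel (mul_right_cancel e)⟩

/-- A subgroup with no rival is the Thompson subgroup. -/
theorem thompson_eq (P E : Subgroup G) (hEP : E ≤ P) (hcomm : ∀ a ∈ E, ∀ b ∈ E, a * b = b * a)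
    (hsq : ∀ a ∈ E, a * a = 1)
    (huniq : ∀ B : Subgroup G, B ≤ P → (∀ a ∈ B, a * a = 1) → Nat.card E ≤ Nat.card B → B = E) :
    Cfsg.thompsonSubgroupOf 2 P = E := by
  have hsqB : ∀ B : Subgroup P, Cfsg.IsElementaryAbelian 2 B → ∀ a ∈ B.map P.subtype, a * a = 1 := by
    rintro B hB _ ⟨a, ha, rfl⟩
    rw [← map_mul, ← sq a, hB.2 a ha, map_one]
  have hel : Cfsg.IsElementaryAbelian 2 (E.subgroupOf P) :=
    ⟨⟨⟨fun a b => Subtype.ext (Subtype.ext (hcomm _ (mem_subgroupOf.1 a.2) _ (mem_subgroupOf.1 b.2)))⟩⟩,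
      fun a ha => Subtype.ext (by
        rw [SubmonoidClass.coe_pow, sq, OneMemClass.coe_one]; exact hsq _ (mem_subgroupOf.1 ha))⟩
  have hmap : (E.subgroupOf P).map P.subtype = E := map_subgroupOf_eq_of_le hEP
  have hc : Nat.card (E.subgroupOf P) = Nat.card E := Nat.card_congr (subgroupOfEquivOfLe hEP).toEquiv
  have huniq' : ∀ B : Subgroup P, Cfsg.IsElementaryAbelian 2 B → Nat.card E ≤ Nat.card B → B = E.subgroupOf P := by
    intro B hB hle
    refine map_injective P.subtype_injective ?_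
    rw [hmap]
    exact huniq _ (map_subtype_le B) (hsqB B hB) (by rwa [card_map_of_injective P.subtype_injective])
  have hset : Cfsg.maxElementaryAbelianSubgroups 2 P = {E.subgroupOf P} := by
    ext B
    constructor
    · intro hB
      exact huniq' B hB.1 (hc.ge.trans (hB.2 _ hel))
    · rintro rfl
      refine ⟨hel, fun B hB => ?_⟩
      by_contra hlt
      rw [not_le, hc] at hlt
      rw [huniq' B hB hlt.le, hc] at hlt
      omega
  rw [Cfsg.thompsonSubgroupOf, Cfsg.thompsonSubgroup, hset, sSup_singleton, hmap]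

variable {Y : CfsgLib.FischerTwoFour.Sys z} {Q : Subgroup (Subgroup.centralizer ({z} : Set G))} [Q.Normal]

namespace AData

variable (D : AData Y) (hF : Cfsg.IsOfLargeFischerTypeAt z Q)
  (hQ : Y.Qg = Q.map (Subgroup.centralizer ({z} : Set G)).subtype) (hpt : HasPts Y)

include D

theorem max_elem (P : Subgroup G) (hP : P ≤ Subgroup.centralizer ({z} : Set G)) (hP2 : IsPGroup 2 P)
    (hAP : D.A ≤ P) {B : Subgroup G} (hBP : B ≤ P) (hsq : ∀ a ∈ B, a * a = 1) (hcard : 2048 ≤ Nat.card B) :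
    B = D.A := by
  haveI := Fact.mk Nat.prime_two
  have hle : B ≤ D.A := by
    intro x hx
    have hB2 : IsPGroup 2 B := fun a => ⟨1, Subtype.ext (by
      rw [pow_one, SubmonoidClass.coe_pow, sq, OneMemClass.coe_one]; exact hsq _ a.2)⟩
    obtain ⟨k, hk⟩ := hB2.exists_card_eq
    have hk11 : 11 ≤ k := by
      by_contra h
      have := Nat.pow_le_pow_right (show 1 ≤ 2 by norm_num) (show k ≤ 10 by omega)
      omega
    obtain ⟨j, hj⟩ := (hB2.to_subgroup (zpowers (⟨x, hx⟩ : B))).exists_card_eq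
    have hj11 : j ≤ 11 := by
      have h : orderOf (⟨x, hx⟩ : B) ∣ 2 := orderOf_dvd_of_pow_eq_one (Subtype.ext (by
        rw [SubmonoidClass.coe_pow, sq, OneMemClass.coe_one]; exact hsq x hx))
      rw [← Nat.card_zpowers, hj] at h
      have h' := Nat.le_of_dvd (by norm_num) h
      by_contra h12
      have := Nat.pow_le_pow_right (show 1 ≤ 2 by norm_num) (show 12 ≤ j by omega)
      omega
    obtain ⟨K, hK, hxK⟩ := Sylow.exists_subgroup_card_pow_prime_le 2
      (show 2 ^ 11 ∣ Nat.card B by rw [hk]; exact Nat.pow_dvd_pow 2 hk11) (zpowers (⟨x, hx⟩ : B)) hj hj11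
    have e : K.map B.subtype = D.A := D.A_unique P _ hP hP2 hAP ((map_subtype_le K).trans hBP)
      (by rintro _ ⟨a, -, rfl⟩; exact hsq _ a.2)
      (by rw [card_map_of_injective B.subtype_injective, hK]; norm_num)
    rw [← e]
    exact ⟨⟨x, hx⟩, hxK (mem_zpowers _), rfl⟩
  exact eq_of_le_of_card_ge hle (by rw [D.A_card]; exact hcard)

include hF hQ hpt

/-- The Thompson subgroup of every Sylow subgroup. -/
theorem mathieu_thompson (T : Sylow 2 G) : MathieuLocal z (Cfsg.thompsonSubgroupOf 2 (T : Subgroup G)) := by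
  classical
  haveI := Fact.mk Nat.prime_two
  obtain ⟨hM, hcardN⟩ := D.mathieuLocal hF hQ hpt
  have hCdvd : 2 ^ 21 ∣ Nat.card ↥(Subgroup.centralizer ({z} : Set G)) := by
    rw [Subgroup.card_eq_card_quotient_mul_card_subgroup Q, (shape_of hF).card_C, (shape_of hF).card_Q]
    norm_num
  set C := Subgroup.centralizer ({z} : Set G) with hC
  obtain ⟨Tc, hTc⟩ := (D.isPGroup_A.comap_subtype (K := C)).exists_le_sylow
  set P : Subgroup G := (Tc : Subgroup C).map C.subtype with hP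
  have hPC : P ≤ C := map_subtype_le _
  have hAP : D.A ≤ P := fun a ha => ⟨⟨a, D.A_cen ha⟩, hTc ha, rfl⟩
  have hP2 : IsPGroup 2 P := Tc.2.map _
  have hNP : normalizer (P : Set G) ≤ normalizer (D.A : Set G) := by
    intro t ht
    refine D.mem_normalizer_A fun a ha => ?_
    have e := D.A_unique P (D.A.map (MulAut.conj t).toMonoidHom) hPC hP2 hAP
      (by rintro _ ⟨x, hx, rfl⟩; exact (mem_normalizer_iff.1 ht x).1 (hAP hx))
      (D.conj_A_sq _) (D.conj_A_card _)
    rw [← e]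
    exact ⟨a, ha, rfl⟩
  obtain ⟨k, hk⟩ := hP2.exists_card_eq
  have hN22 : ¬ 2 ^ 22 ∣ Nat.card ↥(normalizer (D.A : Set G)) := by rw [hcardN]; norm_num
  have hk21 : k = 21 := by
    have h1 : 2 ^ k ∣ Nat.card ↥(normalizer (D.A : Set G)) :=
      hk ▸ card_dvd_of_le (le_normalizer.trans hNP)
    have h2 : 2 ^ 21 ∣ 2 ^ k := by
      rw [← hk, hP, card_map_of_injective C.subtype_injective]
      exact Tc.pow_dvd_card_of_pow_dvd_card hCdvd
    have h3 := (Nat.pow_dvd_pow_iff_le_right (by norm_num)).1 h2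
    by_contra hne
    exact hN22 ((Nat.pow_dvd_pow 2 (show 22 ≤ k by omega)).trans h1)
  have hG22 : ¬ 2 ^ 22 ∣ Nat.card G := fun h => hN22 ((Sylow.prime_pow_dvd_card_normalizer (n := 21) h
    (hk.trans (by rw [hk21]))).trans (card_dvd_of_le hNP))
  obtain ⟨T0, hT0⟩ := hP2.exists_le_sylow
  have hT0P : (T0 : Subgroup G) = P := by
    refine (eq_of_le_of_card_ge hT0 ?_).symm
    obtain ⟨j, hj⟩ := T0.2.exists_card_eq
    rw [hj, hk, hk21]
    refine Nat.pow_le_pow_right (by norm_num) ?_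
    by_contra hlt
    exact hG22 ((Nat.pow_dvd_pow 2 (show 22 ≤ j by omega)).trans (hj ▸ card_subgroup_dvd_card _))
  obtain ⟨g, hg⟩ := MulAction.exists_smul_eq G T0 T
  have hT : (T : Subgroup G) = P.map (MulAut.conj g).toMonoidHom := by
    rw [← hg, Sylow.coe_subgroup_smul, hT0P]
    rfl
  rw [hT, thompson_eq _ (D.A.map (MulAut.conj g).toMonoidHom) (map_mono hAP) (hM.map g).comm (hM.map g).sq ?_]
  · exact hM.map g
  intro B hB hBsq hcard
  rw [card_map_of_injective (MulAut.conj g).injective, D.A_card] at hcard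
  have hB' : B.map (MulAut.conj g⁻¹).toMonoidHom = D.A := by
    refine D.max_elem P hPC hP2 hAP ?_ ?_ ?_
    · rintro _ ⟨b, hb, rfl⟩
      obtain ⟨p, hp, rfl⟩ := hB hb
      show g⁻¹ * (g * p * g⁻¹) * g⁻¹⁻¹ ∈ P
      rw [show g⁻¹ * (g * p * g⁻¹) * g⁻¹⁻¹ = p by group]
      exact hp
    · rintro _ ⟨b, hb, rfl⟩
      rw [← map_mul, hBsq b hb, map_one]
    · rw [card_map_of_injective (MulAut.conj g⁻¹).injective]; exact hcard
  rw [← hB', map_map]
  convert (map_id B).symm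
  ext b
  simp [mul_assoc]

end AData

end CfsgLib.FischerTwoFour.Cocode
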