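import Cfsg.Prelude.Def_Sporadic_a
import Cfsg.Agent.Lib.FischerTwoFour.Cocode.Thompson
import Cfsg.Agent.Lib.FischerTwoFour.Cocode.DataExists
import Cfsg.Agent.Lib.FischerTwoFour.Cocode.PtAt

/-!
Large Fischer type: the Thompson subgroup of a Sylow `2`-subgroup and its normaliser.
-/

set_option autoImplicit false
set_option linter.unusedSectionVars false
set_option linter.style.haveILetI false

namespace CfsgLib.FischerTwoFour.Cocode

open Subgroup
open scoped Pointwise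

variable {G : Type*} [Group G] [Finite G] {z : G}

theorem mathieuLocal_of_fischer {Q : Subgroup (Subgroup.centralizer ({z} : Set G))} [Q.Normal]
    (hF : Cfsg.IsOfLargeFischerTypeAt z Q) (T : Sylow 2 G) :
    MathieuLocal z (Cfsg.thompsonSubgroupOf 2 (T : Subgroup G)) := by
  obtain ⟨Y, hQ, ⟨D⟩⟩ := exists_aData hF
  exact D.mathieu_thompson hF hQ (fun q hq hc hne hΦ => exists_pt_at hF Y hQ hq hc hne hΦ) T

theorem MathieuLocal.quot_iso {A : Subgroup G} (h : MathieuLocal z A) :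
    ∃ _ : (A.subgroupOf (normalizer (A : Set G))).Normal,
      Nonempty (↥(normalizer (A : Set G)) ⧸ A.subgroupOf (normalizer (A : Set G)) ≃* ↥Cfsg.M24) := by
  obtain ⟨φ, hφ, hk, -⟩ := h.quot
  haveI hn : (A.subgroupOf (normalizer (A : Set G))).Normal := hk ▸ φ.normal_ker
  exact ⟨hn, ⟨(QuotientGroup.quotientMulEquivOfEq hk.symm).trans (QuotientGroup.quotientKerEquivOfSurjective φ hφ)⟩⟩

theorem MathieuLocal.fusion {A : Subgroup G} (h : MathieuLocal z A) {a : G} (ha : a ∈ A) (g : G)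
    (hg : g * a * g⁻¹ ∈ A) : ∃ m ∈ normalizer (A : Set G), m * a * m⁻¹ = g * a * g⁻¹ := by
  by_cases ha1 : a = 1
  · exact ⟨1, one_mem _, by rw [ha1]; group⟩
  exact h.trans a ha _ hg ha1 (fun e => ha1 (conj_eq_one_iff.1 e))
    ⟨fun h' => h'.trans (isConj_iff.2 ⟨g, rfl⟩), fun h' => h'.trans (isConj_iff.2 ⟨g, rfl⟩).symm⟩

theorem MathieuLocal.stab_iso {A : Subgroup G} (h : MathieuLocal z A) {t : G} (htA : t ∈ A) (ht1 : t ≠ 1)
    (ht : ¬ IsConj z t) :
    ∃ _ : (A.subgroupOf (normalizer (A : Set G) ⊓ Subgroup.centralizer ({t} : Set G))).Normal,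
      Nonempty (↥(normalizer (A : Set G) ⊓ Subgroup.centralizer ({t} : Set G)) ⧸
        A.subgroupOf (normalizer (A : Set G) ⊓ Subgroup.centralizer ({t} : Set G)) ≃*
        ↥(Cfsg.M24 ⊓ MulAction.stabilizer (Equiv.Perm Cfsg.GolayPt) ({none, some 0} : Set Cfsg.GolayPt))) := by
  classical
  obtain ⟨φ, hφ, hk, hst⟩ := h.quot
  obtain ⟨i, j, hij, hx⟩ := hst t htA ht1 ht
  obtain ⟨g, hg, hgL⟩ := CfsgLib.Golay.exists_map_eq (L := [i, j]) (L' := [none, some 0])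
    (by simpa using hij) (by simp) rfl (by simp)
  simp only [List.map_cons, List.map_nil, List.cons.injEq, and_true] at hgL
  set H := normalizer (A : Set G) ⊓ Subgroup.centralizer ({t} : Set G)
  let gM : Cfsg.M24 := ⟨g, hg⟩
  have hstab : ∀ σ : Equiv.Perm Cfsg.GolayPt,
      σ ∈ MulAction.stabilizer (Equiv.Perm Cfsg.GolayPt) ({none, some 0} : Set Cfsg.GolayPt) ↔
        (σ none = none ∧ σ (some 0) = some 0) ∨ (σ none = some 0 ∧ σ (some 0) = none) := fun σ => by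
    rw [MulAction.mem_stabilizer_iff, Set.smul_set_insert, Set.smul_set_singleton, Equiv.Perm.smul_def,
      Equiv.Perm.smul_def, Set.pair_eq_pair_iff]
  have hval : ∀ x : ↥(normalizer (A : Set G)),
      ((gM * φ x * gM⁻¹ : Cfsg.M24) : Equiv.Perm Cfsg.GolayPt) = g * (φ x : Equiv.Perm Cfsg.GolayPt) * g⁻¹ :=
    fun x => rfl
  have hg1 : g⁻¹ none = i := by rw [← hgL.1]; simp
  have hg2 : g⁻¹ (some 0) = j := by rw [← hgL.2]; simp
  have key : ∀ x : ↥(normalizer (A : Set G)),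
      (g * (φ x : Equiv.Perm Cfsg.GolayPt) * g⁻¹ ∈
        MulAction.stabilizer (Equiv.Perm Cfsg.GolayPt) ({none, some 0} : Set Cfsg.GolayPt)) ↔
      (x : G) * t * (x : G)⁻¹ = t := by
    intro x
    rw [hx x, hstab]
    have hgi : ∀ k, g k = none ↔ k = i := fun k => by rw [← hgL.1, g.injective.eq_iff]
    have hgj : ∀ k, g k = some 0 ↔ k = j := fun k => by rw [← hgL.2, g.injective.eq_iff]
    simp only [Equiv.Perm.mul_apply, hg1, hg2, hgi, hgj]
  let ι : H →* ↥(normalizer (A : Set G)) := inclusion inf_le_left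
  have hmem : ∀ x : H, ((gM * φ (ι x) * gM⁻¹ : Cfsg.M24) : Equiv.Perm Cfsg.GolayPt) ∈
      Cfsg.M24 ⊓ MulAction.stabilizer (Equiv.Perm Cfsg.GolayPt) ({none, some 0} : Set Cfsg.GolayPt) := fun x =>
    ⟨(gM * φ (ι x) * gM⁻¹).2, by
      rw [hval]
      exact (key (ι x)).2 (mul_inv_eq_iff_eq_mul.2 (mem_centralizer_singleton_iff.1 x.2.2))⟩
  let ψ : H →* ↥(Cfsg.M24 ⊓ MulAction.stabilizer (Equiv.Perm Cfsg.GolayPt) ({none, some 0} : Set Cfsg.GolayPt)) :=
    MonoidHom.mk' (fun x => ⟨_, hmem x⟩) fun a b => Subtype.ext (by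
      show ((gM * φ (ι (a * b)) * gM⁻¹ : Cfsg.M24) : Equiv.Perm Cfsg.GolayPt) =
        (((gM * φ (ι a) * gM⁻¹) * (gM * φ (ι b) * gM⁻¹) : Cfsg.M24) : Equiv.Perm Cfsg.GolayPt)
      rw [map_mul, map_mul]
      exact congrArg Subtype.val (by group))
  have hψk : ψ.ker = A.subgroupOf H := by
    ext x
    rw [MonoidHom.mem_ker, mem_subgroupOf]
    have hi : ((x : G) ∈ A) ↔ φ (ι x) = 1 := by
      rw [← MonoidHom.mem_ker, hk, mem_subgroupOf]; rfl
    rw [hi]
    constructor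
    · intro e
      have e' := congrArg Subtype.val e
      exact conj_eq_one_iff.1 (Subtype.ext e' : gM * φ (ι x) * gM⁻¹ = 1)
    · intro e
      refine Subtype.ext ?_
      show ((gM * φ (ι x) * gM⁻¹ : Cfsg.M24) : Equiv.Perm Cfsg.GolayPt) = 1
      rw [e, mul_one, mul_inv_cancel]; rfl
  have hψs : Function.Surjective ψ := by
    rintro ⟨σ, hσM, hσS⟩
    obtain ⟨x, hxe⟩ := hφ (gM⁻¹ * ⟨σ, hσM⟩ * gM)
    have hσ : g * (φ x : Equiv.Perm Cfsg.GolayPt) * g⁻¹ = σ := by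
      rw [← hval, hxe, show gM * (gM⁻¹ * ⟨σ, hσM⟩ * gM) * gM⁻¹ = ⟨σ, hσM⟩ by group]
    have hxt := (key x).1 (by rw [hσ]; exact hσS)
    refine ⟨⟨x, x.2, mem_centralizer_singleton_iff.2 (mul_inv_eq_iff_eq_mul.1 hxt)⟩, Subtype.ext ?_⟩
    exact (hval x).trans hσ
  haveI hn : (A.subgroupOf H).Normal := hψk ▸ ψ.normal_ker
  exact ⟨hn, ⟨(QuotientGroup.quotientMulEquivOfEq hψk.symm).trans (QuotientGroup.quotientKerEquivOfSurjective ψ hψs)⟩⟩

end CfsgLib.FischerTwoFour.Cocode
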