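import Mathlib
import Cfsg.Agent.Lib.FischerTwoFour.Cocode.Model

/-!
A set `Nc` of elements of a group of order 2048 and exponent 2 with the local frames of the model:
the graph "sum in `Nc`" has, at every point, two cliques of 22 neighbours.
-/

set_option autoImplicit false
set_option linter.unusedSectionVars false

namespace CfsgLib.FischerTwoFour.Cocode

variable {A : Type*} [AddCommGroup A]

/-- The local model at `z`. -/
structure Frame (Nc : Set A) (z : A) where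
  φ : ℕ → A
  φ_xor : ∀ a b, a < 128 → b < 128 → φ (Nat.xor a b) = φ a + φ b
  φ_inj : ∀ a b, a < 128 → b < 128 → φ a = φ b → a = b
  φ_z : φ 64 = z
  W : ℕ → A
  W_zero : W 0 = 0
  W_sep : ∀ c d a, c < 16 → d < 16 → a < 128 → W c + W d = φ a → c = d
  nc_iff : ∀ x, x ∈ Nc ↔ ∃ n, n < 276 ∧ W (cs n) + φ (cd n) = x

/-- A system of local models. -/
structure Sys (A : Type*) [AddCommGroup A] where
  Nc : Set A
  two : ∀ a : A, a + a = 0
  card : Nat.card A = 2048
  nonempty : ∃ z : A, z ≠ 0 ∧ z ∉ Nc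
  frame : ∀ z : A, z ≠ 0 → z ∉ Nc → Nonempty (Frame Nc z)

theorem xor_lt {a b : ℕ} (ha : a < 128) (hb : b < 128) : Nat.xor a b < 128 :=
  Nat.xor_lt_two_pow (n := 7) ha hb

theorem all_of {l : List ℕ} {p : ℕ → Bool} (h : l.all p = true) {n : ℕ} (hn : n ∈ l) : p n = true :=
  List.all_eq_true.mp h n hn

theorem cd_lt {n : ℕ} (hn : n < 276) : cd n < 128 ∧ cs n < 16 ∧ (n < 36 → cd n ≠ 0) ∧
    ((inCoset (cs n)).filter fun m => Nat.beq (cd m) (cd n)) = [n] := by
  have h := all_of basics (n := n) (List.mem_range.2 hn)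
  simp only [Bool.and_eq_true, Nat.ble_eq, Bool.or_eq_true, Bool.not_eq_true', beq_iff_eq] at h
  refine ⟨by omega, by omega, fun h36 h0 => ?_, h.2⟩
  rcases h.1.2 with h1 | h1
  · omega
  · rw [h0] at h1; cases h1

theorem mem_inCoset {n c : ℕ} (hc : c < 16) : n ∈ inCoset c ↔ n < 276 ∧ cs n = c := by
  cases c with
  | zero =>
    simp only [inCoset, List.mem_range, cs]
    constructor
    · intro h; exact ⟨by omega, by rw [if_pos h]⟩
    · intro h; by_contra hn; rw [if_neg hn] at h; omega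
  | succ c =>
    simp only [inCoset, List.mem_range'_1, cs]
    constructor
    · intro h; refine ⟨by omega, ?_⟩; rw [if_neg (by omega)]; omega
    · intro h
      by_cases hn : n < 36
      · rw [if_pos hn] at h; omega
      · rw [if_neg hn] at h; omega

theorem memL_iff {x c : ℕ} (hx : x < 128) (hc : c < 16) :
    memL x c = true ↔ ∃ n, n < 276 ∧ cs n = c ∧ cd n = x := by
  have h := all_of (all_of memL_spec (List.mem_range.2 hc)) (List.mem_range.2 hx)
  rw [beq_iff_eq] at h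
  rw [h, List.any_eq_true]
  constructor
  · rintro ⟨n, hn, e⟩
    exact ⟨n, ((mem_inCoset hc).1 hn).1, ((mem_inCoset hc).1 hn).2, Nat.eq_of_beq_eq_true e⟩
  · rintro ⟨n, hn, h1, rfl⟩
    exact ⟨n, (mem_inCoset hc).2 ⟨hn, h1⟩, Nat.beq_refl _⟩

theorem cs_zero {n : ℕ} : cs n = 0 ↔ n < 36 := by
  rw [cs]; split <;> omega

/-- The neighbours of a point. -/
def nbr (Nc : Set A) (u : A) : Set A := {v | v ∈ Nc ∧ u + v ∈ Nc}

namespace Frame

variable {Nc : Set A} {z : A} (F : Frame Nc z) (two : ∀ a : A, a + a = 0)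

/-- The element of a label. -/
def val (n : ℕ) : A := F.W (cs n) + F.φ (cd n)

include two

theorem φ_zero : F.φ 0 = 0 := by
  have h := F.φ_xor 0 0 (by norm_num) (by norm_num)
  rw [two] at h; exact h

theorem sep_iff {c d a b : ℕ} (hc : c < 16) (hd : d < 16) (ha : a < 128) (hb : b < 128)
    (h : F.W c + F.φ a = F.W d + F.φ b) : c = d ∧ a = b := by
  have e : F.W c + F.W d = F.φ (Nat.xor a b) := by
    rw [F.φ_xor a b ha hb]
    calc F.W c + F.W d = (F.W c + F.φ a) + F.φ a + F.W d := by rw [add_assoc (F.W c), two, add_zero]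
      _ = (F.W d + F.φ b) + F.φ a + F.W d := by rw [h]
      _ = (F.W d + F.W d) + (F.φ a + F.φ b) := by abel
      _ = F.φ a + F.φ b := by rw [two, zero_add]
  obtain rfl := F.W_sep c d _ hc hd (xor_lt ha hb) e
  exact ⟨rfl, F.φ_inj a b ha hb (add_left_cancel h)⟩

omit two in
theorem val_mem {n : ℕ} (hn : n < 276) : F.val n ∈ Nc := (F.nc_iff _).2 ⟨n, hn, rfl⟩

omit two in
theorem exists_label {x : A} (hx : x ∈ Nc) : ∃ n, n < 276 ∧ F.val n = x := (F.nc_iff x).1 hx

theorem mem_iff {c a : ℕ} (hc : c < 16) (ha : a < 128) : F.W c + F.φ a ∈ Nc ↔ memL a c = true := by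
  rw [memL_iff ha hc, F.nc_iff]
  constructor
  · rintro ⟨n, hn, h⟩
    exact ⟨n, hn, F.sep_iff two (cd_lt hn).2.1 hc (cd_lt hn).1 ha h⟩
  · rintro ⟨n, hn, rfl, rfl⟩
    exact ⟨n, hn, rfl⟩

theorem val_inj {n m : ℕ} (hn : n < 276) (hm : m < 276) (h : F.val n = F.val m) : n = m := by
  obtain ⟨h1, h2⟩ := F.sep_iff two (cd_lt hn).2.1 (cd_lt hm).2.1 (cd_lt hn).1 (cd_lt hm).1 h
  have hmem : n ∈ (inCoset (cs m)).filter fun k => Nat.beq (cd k) (cd m) := by
    rw [List.mem_filter]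
    exact ⟨(mem_inCoset (cd_lt hm).2.1).2 ⟨hn, h1⟩, by rw [h2]; exact Nat.beq_refl _⟩
  rw [(cd_lt hm).2.2.2, List.mem_singleton] at hmem
  exact hmem

include F in
theorem zero_not_mem : (0 : A) ∉ Nc := by
  intro h
  obtain ⟨n, hn, e⟩ := F.exists_label h
  have e' : F.W (cs n) + F.φ (cd n) = F.W 0 + F.φ 0 := by
    rw [F.W_zero, F.φ_zero two, zero_add]; exact e
  obtain ⟨h1, h2⟩ := F.sep_iff two (cd_lt hn).2.1 (by norm_num) (cd_lt hn).1 (by norm_num) e'
  exact (cd_lt hn).2.2.1 (cs_zero.1 h1) h2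

theorem sum_known {n m : ℕ} (hn : n < 276) (hm : m < 276) (hk : known n m = true) :
    F.val n + F.val m = F.W (csum n m) + F.φ (Nat.xor (cd n) (cd m)) ∧ csum n m < 16 := by
  have hnl := cd_lt hn
  have hml := cd_lt hm
  have e : F.val n + F.val m = (F.W (cs n) + F.W (cs m)) + F.φ (Nat.xor (cd n) (cd m)) := by
    rw [F.φ_xor _ _ hnl.1 hml.1, val, val]; abel
  rw [csum]
  simp only [known, Bool.or_eq_true] at hk
  by_cases hcs : cs n = cs m
  · rw [if_pos hcs, e, hcs, two, F.W_zero]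
    exact ⟨rfl, by norm_num⟩
  · rw [if_neg hcs, e]
    rcases hk with (h | h) | h
    · rw [Nat.eq_of_beq_eq_true h, F.W_zero, zero_add, zero_add]; exact ⟨rfl, hml.2.1⟩
    · rw [Nat.eq_of_beq_eq_true h, F.W_zero, add_zero, add_zero]; exact ⟨rfl, hnl.2.1⟩
    · exact absurd (Nat.eq_of_beq_eq_true h) hcs

theorem adj_iff {n m : ℕ} (hn : n < 276) (hm : m < 276) (hk : known n m = true) :
    F.val n + F.val m ∈ Nc ↔ kadj n m = true := by
  obtain ⟨e, hc⟩ := F.sum_known two hn hm hk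
  rw [e, F.mem_iff two hc (xor_lt (cd_lt hn).1 (cd_lt hm).1), kadj, hk, Bool.true_and]

omit two in
theorem known_tet {n m : ℕ} (hn : n < 36) : known n m = true ∧ known m n = true := by
  simp [known, cs_zero.2 hn, Nat.beq_refl]

omit two in
theorem known_of_kadj {n m : ℕ} (h : kadj n m = true) : known n m = true := by
  rw [kadj, Bool.and_eq_true] at h; exact h.1

theorem ncard_image {l : List ℕ} (hl : l.Nodup) (hlt : ∀ n ∈ l, n < 276) :
    (F.val '' {n | n ∈ l}).ncard = l.length := by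
  have hi : Set.InjOn F.val {n | n ∈ l} := fun n hn m hm h => F.val_inj two (hlt n hn) (hlt m hm) h
  rw [hi.ncard_image]
  have : {n | n ∈ l} = (l.toFinset : Set ℕ) := by ext; simp
  rw [this, Set.ncard_coe_finset, List.toFinset_card_of_nodup hl]

theorem mem_nbr_tet {u : ℕ} (hu : u < 36) {v : A} :
    v ∈ nbr Nc (F.val u) ↔ ∃ n ∈ nb u, F.val n = v := by
  constructor
  · rintro ⟨hv, ha⟩
    obtain ⟨n, hn, rfl⟩ := F.exists_label hv
    exact ⟨n, List.mem_filter.2 ⟨List.mem_range.2 hn,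
      (F.adj_iff two (by omega) hn (known_tet hu).1).1 ha⟩, rfl⟩
  · rintro ⟨n, hn, rfl⟩
    obtain ⟨h1, h2⟩ := List.mem_filter.1 hn
    exact ⟨F.val_mem (List.mem_range.1 h1), (F.adj_iff two (by omega) (List.mem_range.1 h1) (known_tet hu).1).2 h2⟩

omit two in
theorem nb_lt {u n : ℕ} (h : n ∈ nb u) : n < 276 := List.mem_range.1 (List.mem_filter.1 h).1

omit two in
theorem nb_nodup (u : ℕ) : (nb u).Nodup := List.nodup_range.filter _

theorem common_tet {u v : ℕ} (hu : u < 36) (hv : v < 36) :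
    (nbr Nc (F.val u) ∩ nbr Nc (F.val v)).ncard = ((nb u).filter (kadj v)).length := by
  rw [← F.ncard_image two ((nb_nodup u).filter _) fun n hn => nb_lt (List.mem_filter.1 hn).1]
  congr 1
  ext x
  simp only [Set.mem_inter_iff, F.mem_nbr_tet two hu, Set.mem_image, Set.mem_ofPred_eq, List.mem_filter]
  constructor
  · rintro ⟨⟨n, hn, rfl⟩, -, ha⟩
    exact ⟨n, ⟨hn, (F.adj_iff two (by omega) (nb_lt hn) (known_tet hv).1).1 ha⟩, rfl⟩
  · rintro ⟨n, ⟨hn, ha⟩, rfl⟩
    exact ⟨⟨n, hn, rfl⟩, F.val_mem (nb_lt hn), (F.adj_iff two (by omega) (nb_lt hn) (known_tet hv).1).2 ha⟩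

theorem tet_shift {n : ℕ} (hn : n < 36) : ∃ m, m < 36 ∧ F.val m = z + F.val n ∧
    Nat.xor (cd n) (cd m) = 64 := by
  have h := all_of shift.1 (List.mem_range.2 hn)
  rw [Bool.and_eq_true] at h
  have hl := cd_lt (n := n) (by omega)
  obtain ⟨m, hm, hc, hd⟩ := (memL_iff (xor_lt hl.1 (by norm_num)) (by norm_num)).1 h.1
  refine ⟨m, cs_zero.1 hc, ?_, ?_⟩
  · rw [val, val, hc, hd, cs_zero.2 hn, F.W_zero, F.φ_xor _ _ hl.1 (by norm_num), F.φ_z]; abel
  · rw [hd]
    change (cd n) ^^^ ((cd n) ^^^ 64) = 64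
    rw [← Nat.xor_assoc, Nat.xor_self, Nat.zero_xor]

theorem label_tet {n : ℕ} (hn : n < 276) (h : z + F.val n ∈ Nc) : n < 36 := by
  by_contra h36
  have hl := cd_lt hn
  have e : z + F.val n = F.W (cs n) + F.φ (Nat.xor (cd n) 64) := by
    rw [F.φ_xor _ _ hl.1 (by norm_num), F.φ_z, val]; abel
  rw [e, F.mem_iff two hl.2.1 (xor_lt hl.1 (by norm_num))] at h
  have := all_of shift.2 (List.mem_range'_1.2 (⟨by omega, by omega⟩ : 36 ≤ n ∧ n < 36 + 240))
  rw [h] at this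
  exact Bool.noConfusion this

theorem exists_tet {u : A} (hu : u ∈ Nc) (h : z + u ∈ Nc) : ∃ n, n < 36 ∧ F.val n = u := by
  obtain ⟨n, hn, rfl⟩ := F.exists_label hu
  exact ⟨n, F.label_tet two hn h, rfl⟩

end Frame

namespace Sys

variable (S : Sys A)

include S

theorem zero_not_mem : (0 : A) ∉ S.Nc := by
  obtain ⟨z, hz, hz'⟩ := S.nonempty
  exact (S.frame z hz hz').some.zero_not_mem S.two

theorem add_ne_zero {u v : A} (h : u ≠ v) : u + v ≠ 0 := fun e => h <| by
  calc u = u + (v + v) := by rw [S.two, add_zero]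
    _ = (u + v) + v := (add_assoc _ _ _).symm
    _ = v := by rw [e, zero_add]

theorem exists_tet_frame {u : A} (hu : u ∈ S.Nc) :
    ∃ (z : A) (F : Frame S.Nc z) (n : ℕ), n < 36 ∧ F.val n = u := by
  obtain ⟨z, hz, hz'⟩ := S.nonempty
  obtain ⟨F⟩ := S.frame z hz hz'
  obtain ⟨n, hn, rfl⟩ := F.exists_label hu
  by_cases h36 : n < 36
  · exact ⟨z, F, n, h36, rfl⟩
  obtain ⟨x, hx, hax⟩ := List.any_eq_true.1
    (all_of far (List.mem_range'_1.2 (⟨by omega, by omega⟩ : 36 ≤ n ∧ n < 36 + 240)))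
  rw [Bool.not_eq_true'] at hax
  have hx36 : x < 36 := List.mem_range.1 hx
  have hne : F.val x + F.val n ∉ S.Nc := fun e => by
    rw [(F.adj_iff S.two (by omega) hn (Frame.known_tet hx36).1).1 e] at hax
    exact Bool.noConfusion hax
  have hne0 : F.val x + F.val n ≠ 0 :=
    S.add_ne_zero fun e => h36 (F.val_inj S.two (by omega) hn e ▸ hx36)
  obtain ⟨F'⟩ := S.frame _ hne0 hne
  obtain ⟨m, hm, e⟩ := F'.exists_tet S.two hu (by
    rw [add_assoc, S.two, add_zero]; exact F.val_mem (by omega))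
  exact ⟨_, F', m, hm, e⟩

/-- Two distinct nonadjacent points have four common neighbours. -/
theorem mu {u v : A} (hu : u ∈ S.Nc) (hv : v ∈ S.Nc) (hne : u ≠ v) (hn : u + v ∉ S.Nc) :
    (nbr S.Nc u ∩ nbr S.Nc v).ncard = 4 := by
  obtain ⟨F⟩ := S.frame _ (S.add_ne_zero hne) hn
  obtain ⟨n, hn36, en⟩ := F.exists_tet S.two hu (by
    rw [add_comm u v, add_assoc, S.two, add_zero]; exact hv)
  obtain ⟨m, hm, e, hx⟩ := F.tet_shift S.two hn36
  have e' : F.val m = v := by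
    rw [e, en, add_comm u v, add_assoc, S.two, add_zero]
  have hc := F.common_tet S.two hn36 hm
  rw [en, e'] at hc
  rw [hc]
  have := all_of (all_of mu_tet (List.mem_range.2 hn36)) (List.mem_range.2 hm)
  simp only [Bool.or_eq_true, Bool.not_eq_true', beq_iff_eq] at this
  rcases this with h | h
  · rw [hx] at h; cases h
  · exact h

/-- Two adjacent points have twenty-two common neighbours. -/
theorem lam {u v : A} (hu : u ∈ S.Nc) (hv : v ∈ S.Nc) (ha : u + v ∈ S.Nc) :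
    (nbr S.Nc u ∩ nbr S.Nc v).ncard = 22 := by
  have key : ∀ {z : A} (F : Frame S.Nc z) {n m : ℕ}, n < 36 → m < 36 → kadj n m = true →
      (nbr S.Nc (F.val n) ∩ nbr S.Nc (F.val m)).ncard = 22 := by
    intro z F n m hn hm h
    rw [F.common_tet S.two hn hm]
    have := all_of (all_of lam_tet (List.mem_range.2 hn)) (List.mem_range.2 hm)
    simpa [h] using this
  obtain ⟨z, F, n, hn, rfl⟩ := S.exists_tet_frame hu
  obtain ⟨m, hm, rfl⟩ := F.exists_label hv
  have hk := (F.adj_iff S.two (by omega) hm (Frame.known_tet hn).1).1 ha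
  by_cases h36 : m < 36
  · exact key F hn h36 hk
  have h := all_of (all_of edge_move (List.mem_range.2 hn))
    (List.mem_filter.2 ⟨List.mem_range.2 hm, hk⟩ : m ∈ nb n)
  rw [Bool.or_eq_true, Nat.ble_eq] at h
  obtain ⟨x, hx, hx'⟩ := List.any_eq_true.1 (h.resolve_left (by omega))
  simp only [Bool.and_eq_true, Bool.not_eq_true'] at hx'
  have hx36 : x < 36 := List.mem_range.1 hx
  have hnz : F.val n + F.val x ∉ S.Nc := fun e => by
    rw [(F.adj_iff S.two (by omega) (by omega) (Frame.known_tet hn).1).1 e] at hx'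
    exact Bool.noConfusion hx'.1.1
  have hnz0 : F.val n + F.val x ≠ 0 := S.add_ne_zero fun e => by
    rw [F.val_inj S.two (by omega) (by omega) e, Nat.beq_refl] at hx'
    exact Bool.noConfusion hx'.1.2
  obtain ⟨F'⟩ := S.frame _ hnz0 hnz
  obtain ⟨n', hn', en⟩ := F'.exists_tet S.two hu (by
    rw [add_comm (F.val n) (F.val x), add_assoc, S.two, add_zero]; exact F.val_mem (by omega))
  have hl := cd_lt hm
  have hnl := (cd_lt (n := n) (by omega)).1
  have hxl := (cd_lt (n := x) (by omega)).1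
  obtain ⟨m', hm', em⟩ := F'.exists_tet S.two hv (by
    have e : F.val n + F.val x + F.val m =
        F.W (cs m) + F.φ (Nat.xor (cd m) (Nat.xor (cd n) (cd x))) := by
      rw [F.φ_xor _ _ hl.1 (xor_lt hnl hxl), F.φ_xor _ _ hnl hxl, Frame.val, Frame.val, Frame.val,
        cs_zero.2 hn, cs_zero.2 hx36, F.W_zero]
      abel
    rw [e, F.mem_iff S.two hl.2.1 (xor_lt hl.1 (xor_lt hnl hxl))]
    exact hx'.2)
  rw [← en, ← em] at ha ⊢
  exact key F' hn' hm' ((F'.adj_iff S.two (by omega) (by omega) (Frame.known_tet hn').1).1 ha)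

/-- In a frame at a four-set point the graph on the neighbours is the one of the candidates. -/
theorem adj_nb {z : A} (F : Frame S.Nc z) {u : ℕ} (hu : u < 36) {n m : ℕ} (hn : n ∈ nb u)
    (hm : m ∈ nb u) : F.val n + F.val m ∈ S.Nc ↔ cp u n m = true := by
  have hsub : ∀ k ∈ nb u, F.val n + F.val k ∈ S.Nc → cp u n k = true := by
    intro k hk hadj
    rw [cp]
    by_cases hkn : known n k = true
    · rw [if_pos hkn]; exact (F.adj_iff S.two (Frame.nb_lt hn) (Frame.nb_lt hk) hkn).1 hadj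
    rw [if_neg hkn]
    by_contra hside
    have hn36 : ¬ n < 36 := fun h => hkn (Frame.known_tet h).1
    have hk36 : ¬ k < 36 := fun h => hkn (Frame.known_tet h).2
    obtain ⟨t, ht, ht'⟩ := List.any_eq_true.1
      (List.all_eq_true.1 (all_of anchor (List.mem_range.2 hu)) (side u n) (by cases side u n <;> simp))
    have ht36 : t < 36 := List.mem_range.1 ht
    have h1 := all_of ht' hn
    have h2 := all_of ht' hk
    rw [Bool.or_eq_true, Nat.ble_eq] at h1 h2
    replace h1 := h1.resolve_left (by omega)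
    replace h2 := h2.resolve_left (by omega)
    rw [if_pos (beq_self_eq_true _)] at h1
    rw [if_neg (by
      rw [beq_iff_eq]; exact fun e => hside (by rw [e]; exact beq_self_eq_true _))] at h2
    rw [Bool.and_eq_true, Bool.not_eq_true', beq_iff_eq] at h2
    set C := (tlabs ++ inCoset (cs k)).filter fun x => kadj t x && kadj k x with hC
    have hk276 := Frame.nb_lt hk
    have hkc : cs k ≠ 0 := fun e => hk36 (cs_zero.1 e)
    have hClt : ∀ x ∈ C, x < 276 := by
      intro x hx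
      rcases List.mem_append.1 (List.mem_filter.1 hx).1 with h | h
      · have := List.mem_range.1 h; omega
      · exact ((mem_inCoset (cd_lt hk276).2.1).1 h).1
    have hnd : C.Nodup := by
      refine (List.nodup_append.2 ⟨List.nodup_range, ?_, ?_⟩).filter _
      · obtain ⟨c, hc⟩ := Nat.exists_eq_succ_of_ne_zero hkc
        rw [hc]; exact List.nodup_range'
      · intro a ha b hb e
        subst e
        exact hkc (by rw [← ((mem_inCoset (cd_lt hk276).2.1).1 hb).2, cs_zero.2 (List.mem_range.1 ha)])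
    have hnc : F.val t + F.val k ∉ S.Nc := fun e => by
      rw [(F.adj_iff S.two (by omega) hk276 (Frame.known_tet ht36).1).1 e] at h2
      exact Bool.noConfusion h2.1
    have hne : F.val t ≠ F.val k := fun e => hk36 (F.val_inj S.two (by omega) hk276 e ▸ ht36)
    have hCsub : F.val '' {x | x ∈ C} ⊆ nbr S.Nc (F.val t) ∩ nbr S.Nc (F.val k) := by
      rintro _ ⟨x, hx, rfl⟩
      have hx' := (List.mem_filter.1 hx).2
      rw [Bool.and_eq_true] at hx'
      exact ⟨⟨F.val_mem (hClt x hx),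
          (F.adj_iff S.two (by omega) (hClt x hx) (Frame.known_tet ht36).1).2 hx'.1⟩,
        F.val_mem (hClt x hx),
        (F.adj_iff S.two hk276 (hClt x hx) (Frame.known_of_kadj hx'.2)).2 hx'.2⟩
    have hfin : (nbr S.Nc (F.val t) ∩ nbr S.Nc (F.val k)).Finite :=
      Set.finite_of_ncard_ne_zero (by rw [S.mu (F.val_mem (by omega)) (F.val_mem hk276) hne hnc]; norm_num)
    have heq : F.val '' {x | x ∈ C} = nbr S.Nc (F.val t) ∩ nbr S.Nc (F.val k) :=
      Set.eq_of_subset_of_ncard_le hCsub (by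
        rw [S.mu (F.val_mem (by omega)) (F.val_mem hk276) hne hnc, F.ncard_image S.two hnd hClt, h2.2]) hfin
    have hmem : F.val n ∈ F.val '' {x | x ∈ C} := by
      rw [heq]
      exact ⟨⟨F.val_mem (Frame.nb_lt hn),
          (F.adj_iff S.two (by omega) (Frame.nb_lt hn) (Frame.known_tet ht36).1).2 h1⟩,
        F.val_mem (Frame.nb_lt hn), by rw [add_comm]; exact hadj⟩
    obtain ⟨x, hx, e⟩ := hmem
    have hxn := F.val_inj S.two (hClt x hx) (Frame.nb_lt hn) e
    subst hxn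
    rcases List.mem_append.1 (List.mem_filter.1 hx).1 with h | h
    · exact hn36 (List.mem_range.1 h)
    · exact hkn (by simp [known, ((mem_inCoset (cd_lt hk276).2.1).1 h).2, Nat.beq_refl])
  refine ⟨hsub m hm, fun hcp => ?_⟩
  have hnv := F.val_mem (Frame.nb_lt hn)
  have hun : F.val u + F.val n ∈ S.Nc :=
    ((F.mem_nbr_tet S.two hu).2 ⟨n, hn, rfl⟩).2
  have hU : nbr S.Nc (F.val u) ∩ nbr S.Nc (F.val n) ⊆ F.val '' {k | k ∈ (nb u).filter (cp u n)} := by
    rintro x ⟨hx, -, hxa⟩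
    obtain ⟨k, hk, rfl⟩ := (F.mem_nbr_tet S.two hu).1 hx
    exact ⟨k, List.mem_filter.2 ⟨hk, hsub k hk hxa⟩, rfl⟩
  have h22 := all_of (all_of cand_spec (List.mem_range.2 hu)) hn
  rw [Bool.and_eq_true, beq_iff_eq] at h22
  have heq := Set.eq_of_subset_of_ncard_le hU (by
    rw [S.lam (F.val_mem (by omega)) hnv hun, F.ncard_image S.two ((Frame.nb_nodup u).filter _)
      fun k hk => Frame.nb_lt (List.mem_filter.1 hk).1, h22.1])
    ((List.finite_toSet _).image _)
  have : F.val m ∈ nbr S.Nc (F.val u) ∩ nbr S.Nc (F.val n) := by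
    rw [heq]; exact ⟨m, List.mem_filter.2 ⟨hm, hcp⟩, rfl⟩
  exact this.2.2

/-- The two cliques of neighbours of a point. -/
theorem exists_sides {u : A} (hu : u ∈ S.Nc) : ∃ P R : Set A, P ∪ R = nbr S.Nc u ∧ Disjoint P R ∧
    P.ncard = 22 ∧ R.ncard = 22 ∧
    (∀ v ∈ P, ∀ w ∈ P, v ≠ w → v + w ∈ S.Nc) ∧ (∀ v ∈ R, ∀ w ∈ R, v ≠ w → v + w ∈ S.Nc) ∧
    (∀ v ∈ P, ∀ w ∈ R, v + w ∈ S.Nc → w = u + v) ∧
    (∀ v ∈ P, u + v ∈ R) ∧ (∀ v ∈ R, u + v ∈ P) := by
  obtain ⟨z, F, k, hk, rfl⟩ := S.exists_tet_frame hu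
  have hs := all_of sides (List.mem_range.2 hk)
  simp only [Bool.and_eq_true, beq_iff_eq] at hs
  obtain ⟨⟨hs22, hs44⟩, htr⟩ := hs
  set l1 := (nb k).filter (side k) with hl1
  set l2 := (nb k).filter (fun n => !side k n) with hl2
  have hl2len : l2.length = 22 := by
    have h1 := List.length_eq_length_filter_add (f := side k) (l := nb k)
    rw [← hl1, ← hl2] at h1; omega
  have hadj : ∀ n ∈ nb k, ∀ m ∈ nb k, n ≠ m → (F.val n + F.val m ∈ S.Nc ↔
      (side k m = side k n ∨ (cs m = cs n ∧ cd m = Nat.xor (cd n) (cd k)))) := by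
    intro n hn m hm hne
    have h := all_of ((Bool.and_eq_true _ _).mp (all_of (all_of cand_spec (List.mem_range.2 hk)) hn)).2 hm
    rw [Bool.or_eq_true, beq_iff_eq] at h
    rw [S.adj_nb F hk hn hm,
      h.resolve_left fun e => hne (Nat.eq_of_beq_eq_true e).symm, Bool.or_eq_true, beq_iff_eq,
      Bool.and_eq_true]
    exact or_congr Iff.rfl ⟨fun e => ⟨Nat.eq_of_beq_eq_true e.1, Nat.eq_of_beq_eq_true e.2⟩,
      fun e => ⟨by rw [e.1]; exact Nat.beq_refl _, by rw [e.2]; exact Nat.beq_refl _⟩⟩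
  have htrans : ∀ n ∈ nb k, ∃ m ∈ nb k, F.val m = F.val k + F.val n ∧ side k m ≠ side k n := by
    intro n hn
    obtain ⟨m, hm, hm'⟩ := List.any_eq_true.1 (all_of htr hn)
    simp only [Bool.and_eq_true, bne_iff_ne] at hm'
    have hn' := Frame.nb_lt hn
    obtain ⟨hm276, hmc⟩ := (mem_inCoset (cd_lt hn').2.1).1 hm
    refine ⟨m, List.mem_filter.2 ⟨List.mem_range.2 hm276, hm'.1.1⟩, ?_, hm'.2⟩
    rw [Frame.val, Frame.val, Frame.val, hmc, cs_zero.2 hk, F.W_zero, Nat.eq_of_beq_eq_true hm'.1.2,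
      F.φ_xor _ _ (cd_lt hn').1 (cd_lt (n := k) (by omega)).1]
    abel
  refine ⟨F.val '' {n | n ∈ l1}, F.val '' {n | n ∈ l2}, ?_, ?_, ?_, ?_, ?_, ?_, ?_, ?_, ?_⟩
  · ext x
    rw [F.mem_nbr_tet S.two hk]
    simp only [Set.mem_union, Set.mem_image, Set.mem_ofPred_eq, hl1, hl2, List.mem_filter,
      Bool.not_eq_true']
    constructor
    · rintro (⟨n, ⟨hn, -⟩, e⟩ | ⟨n, ⟨hn, -⟩, e⟩) <;> exact ⟨n, hn, e⟩
    · rintro ⟨n, hn, e⟩
      cases hb : side k n
      · exact Or.inr ⟨n, ⟨hn, hb⟩, e⟩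
      · exact Or.inl ⟨n, ⟨hn, hb⟩, e⟩
  · rw [Set.disjoint_left]
    rintro x ⟨n, hn, rfl⟩ ⟨m, hm, e⟩
    obtain ⟨hn, hn'⟩ := List.mem_filter.1 (hn : n ∈ l1)
    obtain ⟨hm, hm'⟩ := List.mem_filter.1 (hm : m ∈ l2)
    rw [F.val_inj S.two (Frame.nb_lt hm) (Frame.nb_lt hn) e, hn'] at hm'
    exact Bool.noConfusion hm'
  · rw [F.ncard_image S.two ((Frame.nb_nodup k).filter _)
      fun n hn => Frame.nb_lt (List.mem_filter.1 hn).1]
    exact hs22
  · rw [F.ncard_image S.two ((Frame.nb_nodup k).filter _)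
      fun n hn => Frame.nb_lt (List.mem_filter.1 hn).1]
    exact hl2len
  · rintro _ ⟨n, hn, rfl⟩ _ ⟨m, hm, rfl⟩ hne
    obtain ⟨hn, hn'⟩ := List.mem_filter.1 (hn : n ∈ l1)
    obtain ⟨hm, hm'⟩ := List.mem_filter.1 (hm : m ∈ l1)
    exact (hadj n hn m hm fun e => hne (by rw [e])).2 (Or.inl (by rw [hn', hm']))
  · rintro _ ⟨n, hn, rfl⟩ _ ⟨m, hm, rfl⟩ hne
    obtain ⟨hn, hn'⟩ := List.mem_filter.1 (hn : n ∈ l2)
    obtain ⟨hm, hm'⟩ := List.mem_filter.1 (hm : m ∈ l2)
    rw [Bool.not_eq_true'] at hn' hm'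
    exact (hadj n hn m hm fun e => hne (by rw [e])).2 (Or.inl (by rw [hn', hm']))
  · rintro _ ⟨n, hn, rfl⟩ _ ⟨m, hm, rfl⟩ ha
    obtain ⟨hn, hn'⟩ := List.mem_filter.1 (hn : n ∈ l1)
    obtain ⟨hm, hm'⟩ := List.mem_filter.1 (hm : m ∈ l2)
    rw [Bool.not_eq_true'] at hm'
    have hne : n ≠ m := fun e => by rw [e, hm'] at hn'; exact Bool.noConfusion hn'
    rcases (hadj n hn m hm hne).1 ha with h | ⟨h1, h2⟩
    · rw [hn', hm'] at h; exact Bool.noConfusion h
    · rw [Frame.val, Frame.val, Frame.val, h1, h2, cs_zero.2 hk, F.W_zero,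
        F.φ_xor _ _ (cd_lt (Frame.nb_lt hn)).1 (cd_lt (n := k) (by omega)).1]
      abel
  · rintro _ ⟨n, hn, rfl⟩
    obtain ⟨hn, hn'⟩ := List.mem_filter.1 (hn : n ∈ l1)
    obtain ⟨m, hm, e, hs⟩ := htrans n hn
    rw [hn'] at hs
    exact ⟨m, List.mem_filter.2 ⟨hm, by simp [Bool.eq_false_iff.2 hs]⟩, e⟩
  · rintro _ ⟨n, hn, rfl⟩
    obtain ⟨hn, hn'⟩ := List.mem_filter.1 (hn : n ∈ l2)
    obtain ⟨m, hm, e, hs⟩ := htrans n hn
    rw [Bool.not_eq_true'] at hn'
    rw [hn'] at hs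
    exact ⟨m, List.mem_filter.2 ⟨hm, Bool.eq_true_of_not_eq_false hs⟩, e⟩

end Sys

end CfsgLib.FischerTwoFour.Cocode
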