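import Cfsg.Agent.Lib.FischerTwoFour.Cocode.Count
import Cfsg.Agent.Lib.FischerTwoFour.Cocode.Graph

/-!
The local model at `z`: the elements of `A` outside the class of `z` by labels.
-/

set_option autoImplicit false
set_option linter.unusedSectionVars false

namespace CfsgLib.FischerTwoFour.Cocode

open Subgroup
open Four hiding mul_one one_mul mul_assoc mul_comm mul_zero zero_mul mul_add add_mul

variable {G : Type*} [Group G] [Finite G] {z : G} {Y : CfsgLib.FischerTwoFour.Sys z}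

/-- Points at all eligible elements of `Q`. -/
def HasPts (Y : CfsgLib.FischerTwoFour.Sys z) : Prop :=
  ∀ q ∈ Y.Qg, IsConj z q → q ≠ z → Y.Φ q = 1 → ∃ P : Pt Y, P.s = q

theorem memL_flip {n : ℕ} (hn : n < 16) (hn0 : n ≠ 0) {c : ℕ} (hc : c < 128)
    (h : memL c n = true) : memL (Nat.xor c 64) n = false := by
  obtain ⟨l, hl, hl', rfl⟩ := (memL_iff hc hn).1 h
  have h36 : 36 ≤ l := Nat.not_lt.1 fun h => hn0 (hl'.symm.trans (cs_zero.2 h))
  have hs := List.all_eq_true.1 shift.2 l (List.mem_range'_1.2 ⟨h36, by omega⟩)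
  rw [hl', Bool.not_eq_true'] at hs
  exact hs

namespace AData

variable (D : AData Y) (hpt : HasPts Y)

include D hpt

theorem rep_pair {n : ℕ} (hn : 1 ≤ n) (hn' : n < 16) :
    (IsConj z (D.rep n) ↔ ¬ IsConj z (D.rep n * z)) ∧
      ∀ c, c < 128 → inIm D.b n (c % 64) = false → IsConj z (D.rep n * D.phi c) := by
  set r := ((radT D.b).getD (n - 1) (0, [])).1
  have hrad := List.all_eq_true.1 (rad_spec D.b) (n - 1) (List.mem_range.2 (by omega))
  simp only [Bool.and_eq_true, Nat.ble_eq, Bool.not_eq_true', beq_iff_eq] at hrad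
  obtain ⟨⟨⟨⟨⟨hr1, hr64⟩, hrT⟩, -⟩, -⟩, -⟩ := hrad
  have hr : r < 64 := by omega
  obtain ⟨hB, hco, hΦ⟩ := D.lift_spec r
  obtain ⟨c, hc, e⟩ := D.exists_code hB
  have hcr : c % 64 = r := by
    have h := D.code_of_co hc (show r < 128 by omega) (by rw [e, hco, D.co_phi])
    rwa [Nat.mod_eq_of_lt hr] at h
  have hconj : IsConj z (D.lift r) := by
    rw [← e]
    rcases flip_cases hc hr hcr with rfl | rfl
    · exact (D.conj_phi hc (by omega)).2 hrT
    · rw [← D.phi_flip, ← D.type_sym (show r < 128 by omega) (by omega)]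
      exact (D.conj_phi (show r < 128 by omega) (by omega)).2 hrT
  have hne : D.lift r ≠ z := fun h => by
    rw [← e] at h
    have := D.phi_inj hc (by norm_num) (h.trans D.phi_z.symm)
    omega
  obtain ⟨P, hP⟩ := hpt _ hB.2 hconj hne hΦ
  exact D.rep_types hn hn' P hP

theorem exists_W (k : Fin 16) : ∃ n w, n < 16 ∧ (pn D.b).getD n 0 = k.val ∧ w ∈ D.A ∧ D.Acts w n ∧
    (w = D.rep n ∨ w = D.rep n * z) ∧ (k.val = 0 → w = 1) ∧
      (k.val ≠ 0 → ¬ IsConj z w ∧ IsConj z (w * z)) := by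
  have hp := pn_spec D.b
  rw [Bool.and_eq_true] at hp
  obtain ⟨n, hn, hk⟩ := List.any_eq_true.1 (List.all_eq_true.1 hp.1 k.val (List.mem_range.2 k.2))
  rw [List.mem_range] at hn
  rw [beq_iff_eq] at hk
  have hz := List.all_eq_true.1 hp.2 n (List.mem_range.2 hn)
  rw [Bool.and_eq_true, beq_iff_eq, hk] at hz
  obtain ⟨hrA, hract, -, hr0⟩ := D.rep_spec hn
  have hzA : z ∈ D.A := (D.inZ_Bg (Or.inr rfl)).1
  by_cases hn0 : n = 0
  · refine ⟨n, D.rep n, hn, hk, hrA, hract, Or.inl rfl, fun _ => hr0 hn0, fun h => absurd ?_ h⟩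
    simpa [hn0] using hz.2
  have hk0 : k.val ≠ 0 := fun e => by simp [e, hn0] at hz
  have hT := (D.rep_pair hpt (show 1 ≤ n by omega) hn).1
  by_cases hc : IsConj z (D.rep n)
  · refine ⟨n, D.rep n * z, hn, hk, mul_mem hrA hzA, D.acts_mul_Qg hract Y.zQ, Or.inr rfl,
      fun e => absurd e hk0, fun _ => ⟨hT.1 hc, ?_⟩⟩
    rw [mul_assoc, Y.zz, mul_one]; exact hc
  · exact ⟨n, D.rep n, hn, hk, hrA, hract, Or.inl rfl, fun e => absurd e hk0,
      fun _ => ⟨hc, not_not.1 fun h => hc (hT.2 h)⟩⟩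

/-- The labelled description of the elements of `A` outside the class of `z`. -/
theorem exists_frame : ∃ W : ℕ → G, W 0 = 1 ∧ (∀ k, k < 16 → W k ∈ D.A) ∧
    (∀ k l a, k < 16 → l < 16 → a < 128 → W k * W l = D.phi a → k = l) ∧
    ∀ x ∈ D.A, (x ≠ 1 ∧ ¬ IsConj z x) ↔ ∃ n, n < 276 ∧ W (cs n) * D.phi (cd n) = x := by
  classical
  choose N w hN hNk hwA hwact hwrep hw0 hw1 using D.exists_W hpt
  let W : ℕ → G := fun k => if h : k < 16 then w ⟨k, h⟩ else 1
  have hW : ∀ k (h : k < 16), W k = w ⟨k, h⟩ := fun k h => dif_pos h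
  have hcov : ∀ x ∈ D.A, ∃ k : Fin 16, ∃ c, c < 128 ∧ x = w k * D.phi c := fun x hx => by
    obtain ⟨n, c, hn, hc, hact, rfl⟩ := D.exists_rep_code hx
    have hp := pn_spec D.b
    rw [Bool.and_eq_true] at hp
    have h1 := List.all_eq_true.1 hp.2 n (List.mem_range.2 hn)
    rw [Bool.and_eq_true, Nat.ble_eq] at h1
    let k : Fin 16 := ⟨(pn D.b).getD n 0, by omega⟩
    have hNn : N k = n := by
      -- the coset determines the map
      have key : ∀ b, ((List.range 16).all fun n => (List.range 16).all fun m =>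
          !Nat.beq ((pn b).getD n 0) ((pn b).getD m 0) || Nat.beq n m) = true := by decide +kernel
      have h := List.all_eq_true.1 (List.all_eq_true.1 (key D.b) (N k) (List.mem_range.2 (hN k))) n
        (List.mem_range.2 hn)
      have e : Nat.beq ((pn D.b).getD (N k) 0) ((pn D.b).getD n 0) = true := by
        rw [show (pn D.b).getD (N k) 0 = (pn D.b).getD n 0 from hNk k]; exact Nat.beq_refl _
      rw [e, Bool.not_true, Bool.false_or] at h
      exact Nat.eq_of_beq_eq_true h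
    rcases hwrep k with e | e <;> rw [hNn] at e
    · exact ⟨k, c, hc, by rw [e]⟩
    · refine ⟨k, Nat.xor c 64, xor_lt' (k := 7) hc (by norm_num), ?_⟩
      have hcz := Y.zcomm (Y.le_cen (D.phi_mem c).2) (Or.inr rfl : InZ z z)
      rw [e, ← D.phi_flip, mul_assoc (D.rep n) z, ← mul_assoc z, ← hcz, mul_assoc, Y.zz, mul_one]
  have hsep : ∀ k l : Fin 16, ∀ a, w k * w l = D.phi a → k = l := fun k l a e => by
    have e' : w k = w l * D.phi a := by
      rw [← e, D.A_comm (hwA k) (hwA l), ← mul_assoc, D.A_sq _ (hwA l), one_mul]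
    have hk := hwact k
    rw [e'] at hk
    have hn := D.acts_unique (hN k) (hN l) hk (D.acts_mul_Qg (hwact l) (D.phi_mem a).2)
    exact Fin.ext (by rw [← hNk k, hn, hNk l])
  have hmem : ∀ k : Fin 16, ∀ c, c < 128 →
      ((w k * D.phi c ≠ 1 ∧ ¬ IsConj z (w k * D.phi c)) ↔ memL c k.val = true) := by
    intro k c hc
    by_cases hk : k.val = 0
    · rw [hw0 k hk, one_mul, hk]
      have h0 : memL 0 0 = false := by decide +kernel
      by_cases hc0 : c = 0
      · subst hc0; simp [D.phi_zero, h0]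
      · rw [D.conj_phi hc hc0, Bool.not_eq_false]
        exact and_iff_right fun e => hc0 (D.phi_inj hc (by norm_num) (e.trans D.phi_zero.symm))
    obtain ⟨hnz, hz⟩ := hw1 k hk
    have hn1 : 1 ≤ N k := Nat.one_le_iff_ne_zero.2 fun e => hk (by
      have h := hNk k
      rw [e, show (pn D.b).getD 0 0 = 0 by cases D.b <;> rfl] at h
      exact h.symm)
    have hne : w k * D.phi c ≠ 1 := fun e => by
      have hk' : k = ⟨0, by norm_num⟩ := hsep k ⟨0, by norm_num⟩ c (by
        rw [hw0 ⟨0, by norm_num⟩ rfl, mul_one, eq_inv_of_mul_eq_one_left e, D.A_inv (D.phi_mem c).1])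
      exact hk (congrArg Fin.val hk')
    rw [and_iff_right hne]
    have hwit : ∀ d, d < 128 → memL d k.val = true →
        IsConj (w k) (w k * D.phi d) ∧ IsConj (w k * z) (w k * D.phi d * z) := fun d hd h => by
      obtain ⟨q, hq, e⟩ := D.exists_wit hn1 (hN k) hd (by rw [hNk k]; exact h)
      have hqz := Y.zcomm (Y.le_cen hq) (Or.inr rfl : InZ z z)
      have hcz := Y.zcomm (Y.le_cen (D.phi_mem d).2) (Or.inr rfl : InZ z z)
      have e1 : q⁻¹ * w k * q = w k * D.phi d := by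
        rcases hwrep k with h' | h' <;> rw [h']
        · exact e
        · rw [mul_assoc (D.rep (N k)) z, ← hcz, ← mul_assoc _ (D.phi d), ← e]
          calc q⁻¹ * (D.rep (N k) * z) * q = q⁻¹ * D.rep (N k) * (z * q) := by group
            _ = q⁻¹ * D.rep (N k) * q * z := by rw [← hqz]; group
      refine ⟨isConj_iff.2 ⟨q⁻¹, by rw [inv_inv]; exact e1⟩, isConj_iff.2 ⟨q⁻¹, ?_⟩⟩
      rw [inv_inv, ← e1]
      calc q⁻¹ * (w k * z) * q = q⁻¹ * w k * (z * q) := by group
        _ = q⁻¹ * w k * q * z := by rw [← hqz]; group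
    by_cases h : memL c k.val = true
    · exact iff_of_true (fun h' => hnz (h'.trans (hwit c hc h).1.symm)) h
    refine iff_of_false (not_not.2 ?_) h
    by_cases h' : memL (Nat.xor c 64) k.val = true
    · refine hz.trans ?_
      have := (hwit _ (xor_lt' (k := 7) hc (by norm_num)) h').2
      rwa [← D.phi_flip, mul_assoc, mul_assoc (D.phi c), Y.zz, mul_one] at this
    · have hfl : Nat.xor (Nat.xor c 64) 64 = c := by
        rw [nxor, nxor, Nat.xor_assoc, Nat.xor_self, Nat.xor_zero]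
      have hout : inIm D.b (N k) (c % 64) = false := by
        rw [inIm, hNk k, Bool.or_eq_false_iff, ← Bool.not_eq_true, ← Bool.not_eq_true]
        rcases flip_cases hc (Nat.mod_lt c (by norm_num)) rfl with e | e
        · rw [← e]; exact ⟨h, h'⟩
        · rw [e] at h h'
          rw [nxor, nxor, Nat.xor_assoc, Nat.xor_self, Nat.xor_zero] at h'
          exact ⟨h', h⟩
      obtain ⟨-, houtc⟩ := D.rep_pair hpt hn1 (hN k)
      rcases hwrep k with e | e <;> rw [e]
      · exact houtc c hc hout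
      · have hcz := Y.zcomm (Y.le_cen (D.phi_mem c).2) (Or.inr rfl : InZ z z)
        rw [mul_assoc, ← hcz, D.phi_flip]
        exact houtc _ (xor_lt' (k := 7) hc (by norm_num)) (by rw [flip_mod]; exact hout)
  refine ⟨W, (hW 0 (by norm_num)).trans (hw0 _ rfl), fun k hk => by rw [hW k hk]; exact hwA _,
    fun k l a hk hl _ e => congrArg Fin.val (hsep ⟨k, hk⟩ ⟨l, hl⟩ a (by rwa [← hW k hk, ← hW l hl])),
    fun x hx => ?_⟩
  obtain ⟨k, c, hc, rfl⟩ := hcov x hx
  rw [hmem k c hc, memL_iff hc k.2]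
  constructor
  · rintro ⟨n, hn, hns, rfl⟩
    exact ⟨n, hn, by rw [hW (cs n) (by omega), show (⟨cs n, (cd_lt hn).2.1⟩ : Fin 16) = k from Fin.ext hns]⟩
  · rintro ⟨n, hn, e⟩
    obtain ⟨hd, hs, -, -⟩ := cd_lt hn
    rw [hW (cs n) hs] at e
    have e' : w ⟨cs n, hs⟩ * w k = D.phi (Nat.xor c (cd n)) := by
      rw [← D.phi_mul]
      calc w ⟨cs n, hs⟩ * w k = w ⟨cs n, hs⟩ * D.phi (cd n) * D.phi (cd n) * w k := by
            rw [mul_assoc (w _) _ (D.phi _), D.A_sq _ (D.phi_mem _).1, mul_one]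
        _ = w k * (D.phi c * D.phi (cd n)) * w k := by rw [e]; group
        _ = (D.phi c * D.phi (cd n)) * (w k * w k) := by
            rw [D.A_comm (hwA k) (mul_mem (D.phi_mem c).1 (D.phi_mem _).1)]; group
        _ = _ := by rw [D.A_sq _ (hwA k), mul_one]
    have hk := hsep _ _ _ e'
    rw [hk] at e
    exact ⟨n, hn, congrArg Fin.val hk, D.phi_inj hd hc (mul_left_cancel e)⟩

end AData

end CfsgLib.FischerTwoFour.Cocode
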