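import Mathlib
import Cfsg.Prelude.Def_Sporadic_a
import Cfsg.Agent.Lib.FischerTwoFour.Cocode.Graph

/-!
The 24 cliques of size 23: the graph is the triangular graph, and the sums over even sets of points
form a code of minimum weight eight whose words of weight eight form a Steiner system.
-/

set_option autoImplicit false
set_option linter.unusedSectionVars false

namespace CfsgLib.FischerTwoFour.Cocode.Sys

open scoped symmDiff

variable {A : Type*} [AddCommGroup A] [Fintype A] [DecidableEq A] (S : Sys A)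

include S

omit [Fintype A] [DecidableEq A] in
theorem add_cancel (u v : A) : u + (u + v) = v := by rw [← add_assoc, S.two, zero_add]

open scoped Classical in
/-- The cliques of size 23. -/
noncomputable def pts : Finset (Finset A) :=
  Finset.univ.filter fun K => (∀ u ∈ K, u ∈ S.Nc) ∧ K.card = 23 ∧
    ∀ u ∈ K, ∀ v ∈ K, u ≠ v → u + v ∈ S.Nc

theorem mem_pts {K : Finset A} : K ∈ S.pts ↔ (∀ u ∈ K, u ∈ S.Nc) ∧ K.card = 23 ∧
    ∀ u ∈ K, ∀ v ∈ K, u ≠ v → u + v ∈ S.Nc := by
  classical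
  simp [pts]

/-- The cliques at a point. -/
theorem two_cliques {u : A} (hu : u ∈ S.Nc) : ∃ K L, K ∈ S.pts ∧ L ∈ S.pts ∧ K ≠ L ∧ u ∈ K ∧ u ∈ L ∧
    (∀ M ∈ S.pts, u ∈ M → M = K ∨ M = L) ∧
    (∀ v ∈ S.Nc, u + v ∈ S.Nc → (v ∈ K ∧ v ∉ L ∧ u + v ∈ L) ∨ (v ∈ L ∧ v ∉ K ∧ u + v ∈ K)) := by
  classical
  obtain ⟨P, R, hPR, hdis, hP, hR, hcP, hcR, hX, hPt, hRt⟩ := S.exists_sides hu
  have h0 : u + u ∉ S.Nc := by rw [S.two]; exact S.zero_not_mem
  have hnP : ∀ v ∈ P, v ∈ S.Nc ∧ u + v ∈ S.Nc := fun v hv =>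
    (hPR ▸ Set.mem_union_left R hv : v ∈ nbr S.Nc u)
  have hnR : ∀ v ∈ R, v ∈ S.Nc ∧ u + v ∈ S.Nc := fun v hv =>
    (hPR ▸ Set.mem_union_right P hv : v ∈ nbr S.Nc u)
  have mk : ∀ P : Set A, P.ncard = 22 → (∀ v ∈ P, v ∈ S.Nc ∧ u + v ∈ S.Nc) →
      (∀ v ∈ P, ∀ w ∈ P, v ≠ w → v + w ∈ S.Nc) →
      insert u P.toFinset ∈ S.pts ∧ u ∉ P := by
    intro P hP hn hc
    have huP : u ∉ P := fun h => h0 (hn u h).2
    refine ⟨S.mem_pts.2 ⟨?_, ?_, ?_⟩, huP⟩
    · intro x hx
      rcases Finset.mem_insert.1 hx with rfl | hx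
      · exact hu
      · exact (hn x (Set.mem_toFinset.1 hx)).1
    · rw [Finset.card_insert_of_notMem (by simpa using huP), ← Set.ncard_eq_toFinset_card', hP]
    · intro x hx y hy hne
      rcases Finset.mem_insert.1 hx with ex | hx <;> rcases Finset.mem_insert.1 hy with ey | hy
      · exact absurd (ex.trans ey.symm) hne
      · rw [ex]; exact (hn y (Set.mem_toFinset.1 hy)).2
      · rw [ey, add_comm]; exact (hn x (Set.mem_toFinset.1 hx)).2
      · exact hc x (Set.mem_toFinset.1 hx) y (Set.mem_toFinset.1 hy) hne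
  obtain ⟨hK, huP⟩ := mk P hP hnP hcP
  obtain ⟨hL, huR⟩ := mk R hR hnR hcR
  have hPne : P.Nonempty := Set.nonempty_of_ncard_ne_zero (by rw [hP]; norm_num)
  have hdis' := Set.disjoint_left.1 hdis
  refine ⟨_, _, hK, hL, ?_, Finset.mem_insert_self _ _, Finset.mem_insert_self _ _, ?_, ?_⟩
  · obtain ⟨v, hv⟩ := hPne
    intro e
    have : v ∈ insert u R.toFinset := e ▸ Finset.mem_insert_of_mem (Set.mem_toFinset.2 hv)
    rcases Finset.mem_insert.1 this with rfl | h
    · exact huP hv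
    · exact hdis' hv (Set.mem_toFinset.1 h)
  · intro M hM huM
    obtain ⟨hMn, hMc, hMa⟩ := S.mem_pts.1 hM
    have hsub : M.erase u ⊆ P.toFinset ∪ R.toFinset := by
      intro v hv
      obtain ⟨hvu, hvM⟩ := Finset.mem_erase.1 hv
      have : v ∈ P ∪ R := hPR ▸ ⟨hMn v hvM, hMa u huM v hvM (Ne.symm hvu)⟩
      simpa using this
    have hcard : (M.erase u).card = 22 := by rw [Finset.card_erase_of_mem huM, hMc]
    by_cases h1 : ∃ v ∈ M.erase u, v ∈ P
    · by_cases h2 : ∃ w ∈ M.erase u, w ∈ R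
      · exfalso
        obtain ⟨v, hv, hvP⟩ := h1
        obtain ⟨w, hw, hwR⟩ := h2
        have adj : ∀ x ∈ M.erase u, ∀ y ∈ M.erase u, x ∈ P → y ∈ R → y = u + x := by
          intro x hx y hy hxP hyR
          exact hX x hxP y hyR (hMa x (Finset.mem_of_mem_erase hx) y (Finset.mem_of_mem_erase hy)
            fun e => hdis' hxP (e ▸ hyR))
        have hle : M.erase u ⊆ {v, w} := by
          intro x hx
          rcases Finset.mem_union.1 (hsub hx) with h | h
          · rw [Set.mem_toFinset] at h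
            have := (adj x hx w hw h hwR).symm.trans (adj v hv w hw hvP hwR)
            exact Finset.mem_insert.2 (Or.inl (add_left_cancel this))
          · rw [Set.mem_toFinset] at h
            rw [adj v hv x hx hvP h, ← adj v hv w hw hvP hwR]
            exact Finset.mem_insert_of_mem (Finset.mem_singleton_self _)
        have := (Finset.card_le_card hle).trans (Finset.card_le_two)
        omega
      · push Not at h2
        refine Or.inl (((Finset.insert_erase huM).symm.trans (congrArg (insert u) ?_)))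
        refine Finset.eq_of_subset_of_card_le (fun x hx => ?_) (by rw [hcard, ← Set.ncard_eq_toFinset_card', hP])
        rcases Finset.mem_union.1 (hsub hx) with h | h
        · exact h
        · exact absurd (Set.mem_toFinset.1 h) (h2 x hx)
    · push Not at h1
      refine Or.inr (((Finset.insert_erase huM).symm.trans (congrArg (insert u) ?_)))
      refine Finset.eq_of_subset_of_card_le (fun x hx => ?_) (by rw [hcard, ← Set.ncard_eq_toFinset_card', hR])
      rcases Finset.mem_union.1 (hsub hx) with h | h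
      · exact absurd (Set.mem_toFinset.1 h) (h1 x hx)
      · exact h
  · intro v hv ha
    have hvu : v ≠ u := fun e => h0 (e ▸ ha)
    have : v ∈ P ∪ R := hPR ▸ ⟨hv, ha⟩
    rcases this with h | h
    · exact Or.inl ⟨Finset.mem_insert_of_mem (Set.mem_toFinset.2 h),
        fun e => (Finset.mem_insert.1 e).elim hvu fun e => hdis' h (Set.mem_toFinset.1 e),
        Finset.mem_insert_of_mem (Set.mem_toFinset.2 (hPt v h))⟩
    · exact Or.inr ⟨Finset.mem_insert_of_mem (Set.mem_toFinset.2 h),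
        fun e => (Finset.mem_insert.1 e).elim hvu fun e => hdis' (Set.mem_toFinset.1 e) h,
        Finset.mem_insert_of_mem (Set.mem_toFinset.2 (hRt v h))⟩

theorem unique_clique {K L : Finset A} (hK : K ∈ S.pts) (hL : L ∈ S.pts) {u v : A} (huv : u ≠ v)
    (huK : u ∈ K) (hvK : v ∈ K) (huL : u ∈ L) (hvL : v ∈ L) : K = L := by
  obtain ⟨hKn, -, hKa⟩ := S.mem_pts.1 hK
  obtain ⟨P, R, hP, hR, -, -, -, honly, hside⟩ := S.two_cliques (hKn u huK)
  rcases hside v (hKn v hvK) (hKa u huK v hvK huv) with ⟨h1, h2, -⟩ | ⟨h1, h2, -⟩ <;>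
  rcases honly K hK huK with rfl | rfl <;> rcases honly L hL huL with rfl | rfl <;>
  first | rfl | exact absurd hvK h2 | exact absurd hvL h2

theorem card_pts (hcard : S.Nc.ncard = 276) : S.pts.card = 24 := by
  classical
  have h1 : ∀ u ∈ S.Nc.toFinset, (S.pts.bipartiteAbove (fun u K => u ∈ K) u).card = 2 := by
    intro u hu
    obtain ⟨K, L, hK, hL, hne, huK, huL, honly, -⟩ := S.two_cliques (Set.mem_toFinset.1 hu)
    rw [Finset.card_eq_two]
    refine ⟨K, L, hne, ?_⟩
    ext M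
    simp only [Finset.mem_bipartiteAbove, Finset.mem_insert, Finset.mem_singleton]
    exact ⟨fun h => honly M h.1 h.2, by rintro (rfl | rfl) <;> exact ⟨by assumption, by assumption⟩⟩
  have h2 : ∀ K ∈ S.pts, (S.Nc.toFinset.bipartiteBelow (fun u K => u ∈ K) K).card = 23 := by
    intro K hK
    obtain ⟨hn, hc, -⟩ := S.mem_pts.1 hK
    rw [← hc]
    congr 1
    ext u
    simp only [Finset.mem_bipartiteBelow, Set.mem_toFinset]
    exact ⟨fun h => h.2, fun h => ⟨hn u h, h⟩⟩
  have h := Finset.card_mul_eq_card_mul (fun u K => u ∈ K) h1 h2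
  rw [← Set.ncard_eq_toFinset_card', hcard] at h
  omega

theorem ncard_Nc : S.Nc.ncard = 276 := by
  obtain ⟨z, hz, hz'⟩ := S.nonempty
  obtain ⟨F⟩ := S.frame z hz hz'
  have e : S.Nc = F.val '' {n | n ∈ labs} := by
    ext x
    refine ⟨fun h => ?_, ?_⟩
    · obtain ⟨n, hn, rfl⟩ := F.exists_label h
      exact ⟨n, List.mem_range.2 hn, rfl⟩
    · rintro ⟨n, hn, rfl⟩
      exact F.val_mem (List.mem_range.1 hn)
  rw [e, F.ncard_image S.two (l := labs) List.nodup_range fun n hn => List.mem_range.1 hn]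
  exact List.length_range

/-- A point. -/
abbrev Pt : Type _ := {K : Finset A // K ∈ S.pts}

theorem card_Pt : Fintype.card S.Pt = 24 := by
  rw [Fintype.card_coe, S.card_pts S.ncard_Nc]

theorem exists_meet {K L : S.Pt} (h : K ≠ L) : ∃ u, u ∈ K.1 ∧ u ∈ L.1 := by
  classical
  obtain ⟨hn, hc, -⟩ := S.mem_pts.1 K.2
  have hother : ∀ u ∈ K.1, ∃ M ∈ S.pts.erase K.1, u ∈ M := by
    intro u hu
    obtain ⟨P, R, hP, hR, hne, huP, huR, -, -⟩ := S.two_cliques (hn u hu)
    by_cases e : P = K.1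
    · exact ⟨R, Finset.mem_erase.2 ⟨fun e' => hne (e.trans e'.symm), hR⟩, huR⟩
    · exact ⟨P, Finset.mem_erase.2 ⟨e, hP⟩, huP⟩
  choose f hf hfu using hother
  let g : K.1 → (S.pts.erase K.1 : Finset (Finset A)) := fun u => ⟨f u.1 u.2, hf u.1 u.2⟩
  have hg : Function.Injective g := by
    intro a b e
    by_contra hab
    have e' : f a.1 a.2 = f b.1 b.2 := congrArg Subtype.val e
    obtain ⟨hne, hM⟩ := Finset.mem_erase.1 (hf a.1 a.2)
    exact hne (S.unique_clique hM K.2 (fun x => hab (Subtype.ext x)) (hfu a.1 a.2)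
      (e' ▸ hfu b.1 b.2) a.2 b.2)
  have hsurj : Function.Surjective g := (hg.bijective_of_nat_card_le (by
    simp only [Nat.card_eq_fintype_card, Fintype.card_coe]
    rw [hc, Finset.card_erase_of_mem K.2, S.card_pts S.ncard_Nc])).2
  obtain ⟨u, hu⟩ := hsurj ⟨L.1, Finset.mem_erase.2 ⟨fun e => h (Subtype.ext e.symm), L.2⟩⟩
  exact ⟨u.1, u.2, by have := hfu u.1 u.2; rwa [show f u.1 u.2 = L.1 from congrArg Subtype.val hu] at this⟩

open scoped Classical in
/-- The common element of two points, or zero. -/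
noncomputable def meet (K L : S.Pt) : A := if h : K = L then 0 else (S.exists_meet h).choose

theorem meet_self (K : S.Pt) : S.meet K K = 0 := by simp [meet]

theorem meet_mem {K L : S.Pt} (h : K ≠ L) : S.meet K L ∈ K.1 ∧ S.meet K L ∈ L.1 := by
  rw [meet, dif_neg h]; exact (S.exists_meet h).choose_spec

theorem meet_eq {K L : S.Pt} (h : K ≠ L) {u : A} (hK : u ∈ K.1) (hL : u ∈ L.1) : S.meet K L = u := by
  by_contra hne
  exact h (Subtype.ext (S.unique_clique K.2 L.2 hne (S.meet_mem h).1 hK (S.meet_mem h).2 hL))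

theorem meet_Nc {K L : S.Pt} (h : K ≠ L) : S.meet K L ∈ S.Nc :=
  (S.mem_pts.1 K.2).1 _ (S.meet_mem h).1

theorem meet_comm (K L : S.Pt) : S.meet K L = S.meet L K := by
  by_cases h : K = L
  · rw [h]
  · exact S.meet_eq h (S.meet_mem (Ne.symm h)).2 (S.meet_mem (Ne.symm h)).1

theorem exists_pair {u : A} (hu : u ∈ S.Nc) : ∃ K L : S.Pt, K ≠ L ∧ S.meet K L = u := by
  obtain ⟨K, L, hK, hL, hne, huK, huL, -, -⟩ := S.two_cliques hu
  have h : (⟨K, hK⟩ : S.Pt) ≠ ⟨L, hL⟩ := fun e => hne (congrArg Subtype.val e)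
  exact ⟨_, _, h, S.meet_eq h huK huL⟩

theorem pair_unique {K L M N : S.Pt} (h : K ≠ L) (h' : M ≠ N) (e : S.meet K L = S.meet M N) :
    (M = K ∧ N = L) ∨ (M = L ∧ N = K) := by
  obtain ⟨P, R, hP, hR, hne, huP, huR, honly, -⟩ := S.two_cliques (S.meet_Nc h)
  have f : ∀ X : S.Pt, S.meet K L ∈ X.1 → X = ⟨P, hP⟩ ∨ X = ⟨R, hR⟩ := fun X hX =>
    (honly X.1 X.2 hX).imp Subtype.ext Subtype.ext
  rcases f K (S.meet_mem h).1 with rfl | rfl <;> rcases f L (S.meet_mem h).2 with rfl | rfl <;>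
    rcases f M (e ▸ (S.meet_mem h').1) with rfl | rfl <;>
    rcases f N (e ▸ (S.meet_mem h').2) with rfl | rfl <;> simp_all

/-- The triangle identity. -/
theorem meet_add (K L M : S.Pt) : S.meet K L + S.meet K M = S.meet L M := by
  by_cases hKL : K = L
  · rw [hKL, S.meet_self, zero_add]
  by_cases hKM : K = M
  · rw [hKM, S.meet_self, add_zero, S.meet_comm]
  by_cases hLM : L = M
  · rw [hLM, S.two, S.meet_self]
  set u := S.meet K L with hu
  set v := S.meet K M with hv
  have hne : u ≠ v := by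
    intro e
    rcases S.pair_unique hKL hKM e with ⟨-, e'⟩ | ⟨e', -⟩
    · exact hLM e'.symm
    · exact hKL e'
  have huK := (S.meet_mem hKL).1
  have hvK := (S.meet_mem hKM).1
  have hadj : u + v ∈ S.Nc := (S.mem_pts.1 K.2).2.2 u huK v hvK hne
  have key : ∀ {L' : S.Pt} {a b : A}, L' ≠ K → a ∈ L'.1 → a ∈ K.1 → b ∈ K.1 → a ≠ b → a + b ∈ L'.1 := by
    intro L' a b hL' haL haK hbK hab
    obtain ⟨hKn, -, hKa⟩ := S.mem_pts.1 K.2
    obtain ⟨P, R, hP, hR, hPR, haP, haR, honly, hside⟩ := S.two_cliques (hKn a haK)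
    have cases' := hside b (hKn b hbK) (hKa a haK b hbK hab)
    have hK' := honly K.1 K.2 haK
    have hL'' := honly L'.1 L'.2 haL
    rcases cases' with ⟨h1, h2, h3⟩ | ⟨h1, h2, h3⟩ <;> rcases hK' with e | e <;>
      rcases hL'' with e' | e' <;>
      first
        | exact absurd (Subtype.ext (e'.trans e.symm)) hL'
        | (rw [e] at hbK; exact absurd hbK h2)
        | (rw [e']; exact h3)
  have h1 : u + v ∈ L.1 := key (Ne.symm hKL) (S.meet_mem hKL).2 huK hvK hne
  have h2 : u + v ∈ M.1 := by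
    rw [add_comm]; exact key (Ne.symm hKM) (S.meet_mem hKM).2 hvK huK (Ne.symm hne)
  exact (S.meet_eq hLM h1 h2).symm

theorem meet_meet_not_mem {K L M N : S.Pt} (h : K ≠ L) (h' : M ≠ N) (h1 : M ≠ K) (h2 : M ≠ L)
    (h3 : N ≠ K) (h4 : N ≠ L) : S.meet K L + S.meet M N ∉ S.Nc := by
  intro ha
  obtain ⟨P, R, hP, hR, -, hP', hR', honly, hside⟩ := S.two_cliques (S.meet_Nc h)
  have fK := honly K.1 K.2 (S.meet_mem h).1
  have fL := honly L.1 L.2 (S.meet_mem h).2
  have hKL : K.1 ≠ L.1 := fun e => h (Subtype.ext e)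
  obtain ⟨X, hX, hvX⟩ : ∃ X : S.Pt, (X = K ∨ X = L) ∧ S.meet M N ∈ X.1 := by
    rcases hside _ (S.meet_Nc h') ha with ⟨hv, -, -⟩ | ⟨hv, -, -⟩ <;>
      rcases fK with e | e <;> rcases fL with e' | e' <;>
      first
        | exact absurd (e.trans e'.symm) hKL
        | exact ⟨K, Or.inl rfl, e ▸ hv⟩
        | exact ⟨L, Or.inr rfl, e' ▸ hv⟩
  obtain ⟨P', R', _, _, -, -, -, honly', -⟩ := S.two_cliques (S.meet_Nc h')
  have eX := honly' X.1 X.2 hvX
  have eM := honly' M.1 M.2 (S.meet_mem h').1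
  have eN := honly' N.1 N.2 (S.meet_mem h').2
  have hMN : M.1 ≠ N.1 := fun e => h' (Subtype.ext e)
  have hXMN : X = M ∨ X = N := by
    rcases eX with e | e <;> rcases eM with e1 | e1 <;> rcases eN with e2 | e2 <;>
      first
        | exact absurd (e1.trans e2.symm) hMN
        | exact Or.inl (Subtype.ext (e.trans e1.symm))
        | exact Or.inr (Subtype.ext (e.trans e2.symm))
  rcases hX with rfl | rfl <;> rcases hXMN with e | e
  · exact h1 e.symm
  · exact h3 e.symm
  · exact h2 e.symm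
  · exact h4 e.symm

theorem nonempty_Pt : Nonempty S.Pt := Fintype.card_pos_iff.1 (by rw [S.card_Pt]; norm_num)

/-- A base point. -/
noncomputable def base : S.Pt := S.nonempty_Pt.some

/-- Sum over a set of points. -/
noncomputable def qsum (y : Finset S.Pt) : A := ∑ K ∈ y, S.meet S.base K

theorem meet_eq_base (K L : S.Pt) : S.meet K L = S.meet S.base K + S.meet S.base L :=
  (S.meet_add _ _ _).symm

theorem qsum_symmDiff (y w : Finset S.Pt) : S.qsum (y ∆ w) = S.qsum y + S.qsum w := by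
  classical
  rw [qsum, qsum, qsum, symmDiff_def, Finset.sup_eq_union,
    Finset.sum_union (Finset.disjoint_left.2 fun x hx hx' => (Finset.mem_sdiff.1 hx).2 (Finset.mem_sdiff.1 hx').1),
    ← Finset.sum_sdiff (Finset.inter_subset_left : y ∩ w ⊆ y),
    ← Finset.sum_sdiff (Finset.inter_subset_right : y ∩ w ⊆ w), Finset.sdiff_inter_self_left,
    Finset.sdiff_inter_self_right]
  have := S.two (∑ x ∈ y ∩ w, S.meet S.base x)
  calc _ = (∑ x ∈ y \ w, S.meet S.base x) + (∑ x ∈ w \ y, S.meet S.base x) + 0 := (add_zero _).symm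
    _ = _ := by rw [← this]; abel

theorem card_symmDiff_add (y w : Finset S.Pt) : (y ∆ w).card + 2 * (y ∩ w).card = y.card + w.card := by
  classical
  have h1 := Finset.card_sdiff_add_card_inter y w
  have h2 := Finset.card_sdiff_add_card_inter w y
  rw [Finset.inter_comm w y] at h2
  rw [symmDiff_def, Finset.sup_eq_union, Finset.card_union_of_disjoint
    (Finset.disjoint_left.2 fun x hx hx' => (Finset.mem_sdiff.1 hx).2 (Finset.mem_sdiff.1 hx').1)]
  omega

/-- Minimum weight eight. -/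
theorem qsum_min {y : Finset S.Pt} (he : Even y.card) (h6 : y.card ≤ 6) (h0 : S.qsum y = 0) :
    y = ∅ := by
  classical
  have hpair : ∀ {K L : S.Pt}, K ≠ L → S.meet K L ≠ 0 := fun h e => S.zero_not_mem (e ▸ S.meet_Nc h)
  obtain ⟨k, hk⟩ := he
  rcases (by omega : k = 0 ∨ k = 1 ∨ k = 2 ∨ k = 3) with rfl | rfl | rfl | rfl
  · exact Finset.card_eq_zero.1 hk
  · exfalso
    obtain ⟨a, b, hab, rfl⟩ := Finset.card_eq_two.1 hk
    rw [qsum, Finset.sum_pair hab, ← S.meet_eq_base] at h0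
    exact hpair hab h0
  · exfalso
    obtain ⟨a, t, hat, rfl, ht⟩ := Finset.card_eq_succ.1 hk
    obtain ⟨b, c, d, hbc, hbd, hcd, rfl⟩ := Finset.card_eq_three.1 ht
    simp only [Finset.mem_insert, Finset.mem_singleton, not_or] at hat
    rw [qsum, Finset.sum_insert (by simp [hat.1, hat.2.1, hat.2.2]),
      Finset.sum_insert (by simp [hbc, hbd]), Finset.sum_pair hcd, ← S.meet_eq_base c d, ← add_assoc,
      ← S.meet_eq_base a b] at h0
    have heq : S.meet a b = S.meet c d := by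
      by_contra hne; exact S.add_ne_zero hne h0
    rcases S.pair_unique hat.1 hcd heq with ⟨e, -⟩ | ⟨e, -⟩
    · exact hat.2.1 e.symm
    · exact hbc e.symm
  · exfalso
    obtain ⟨a, t1, hat, rfl, ht1⟩ := Finset.card_eq_succ.1 hk
    obtain ⟨b, t2, hbt, rfl, ht2⟩ := Finset.card_eq_succ.1 ht1
    obtain ⟨c, t3, hct, rfl, ht3⟩ := Finset.card_eq_succ.1 ht2
    obtain ⟨d, e, f, hde, hdf, hef, rfl⟩ := Finset.card_eq_three.1 ht3
    simp only [Finset.mem_insert, Finset.mem_singleton, not_or] at hat hbt hct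
    rw [qsum, Finset.sum_insert (by simp [hat]), Finset.sum_insert (by simp [hbt]),
      Finset.sum_insert (by simp [hct]), Finset.sum_insert (by simp [hde, hdf]), Finset.sum_pair hef] at h0
    have h0' : S.meet a b + S.meet c d + S.meet e f = 0 := by
      rw [S.meet_eq_base a b, S.meet_eq_base c d, S.meet_eq_base e f, ← h0]; abel
    refine S.meet_meet_not_mem hat.1 hct.1 (Ne.symm hat.2.1) (Ne.symm hbt.1)
      (Ne.symm hat.2.2.1) (Ne.symm hbt.2.1) ?_
    have : S.meet a b + S.meet c d = S.meet e f := by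
      by_contra hne; exact S.add_ne_zero hne h0'
    exact this ▸ S.meet_Nc hef

/-- The blocks. -/
def blocks : Set (Finset S.Pt) := {y | y.card = 8 ∧ S.qsum y = 0}

theorem qsum_injOn {y w : Finset S.Pt} (hy : Odd y.card) (hw : Odd w.card) (hy3 : y.card ≤ 3)
    (hw3 : w.card ≤ 3) (h : S.qsum y = S.qsum w) : y = w := by
  refine symmDiff_eq_bot.1 (S.qsum_min (y := y ∆ w) ?_ ?_ (by rw [S.qsum_symmDiff, h, S.two]))
  · have := S.card_symmDiff_add y w
    obtain ⟨i, hi⟩ := hy; obtain ⟨j, hj⟩ := hw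
    exact ⟨i + j + 1 - (y ∩ w).card, by omega⟩
  · have := S.card_symmDiff_add y w; omega

theorem exists_small (β : A) : ∃ y : Finset S.Pt, (y.card = 1 ∨ y.card = 3) ∧ S.qsum y = β := by
  classical
  let T : Finset (Finset S.Pt) := (Finset.univ.powersetCard 1) ∪ (Finset.univ.powersetCard 3)
  have hT : ∀ y, y ∈ T ↔ (y.card = 1 ∨ y.card = 3) := by
    intro y
    rw [Finset.mem_union, Finset.mem_powersetCard, Finset.mem_powersetCard]
    simp only [Finset.subset_univ, true_and]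
  have hcT : T.card = 2048 := by
    rw [Finset.card_union_of_disjoint (Finset.disjoint_left.2 fun y h1 h3 => by
      rw [Finset.mem_powersetCard] at h1 h3; omega), Finset.card_powersetCard, Finset.card_powersetCard,
      Finset.card_univ, S.card_Pt]
    rfl
  have hinj : Function.Injective fun y : T => S.qsum y.1 := by
    intro y w h
    have o : ∀ y : T, Odd y.1.card ∧ y.1.card ≤ 3 := fun y => by
      rcases (hT y.1).1 y.2 with e | e <;> rw [e] <;> exact ⟨by decide, by norm_num⟩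
    exact Subtype.ext (S.qsum_injOn (o y).1 (o w).1 (o y).2 (o w).2 h)
  obtain ⟨y, hy⟩ := (hinj.bijective_of_nat_card_le (by
    rw [S.card, Nat.card_eq_fintype_card, Fintype.card_coe, hcT])).2 β
  exact ⟨y.1, (hT y.1).1 y.2, hy⟩

theorem steiner : Cfsg.IsSteinerSystem 5 8 S.blocks := by
  classical
  refine ⟨fun b hb => hb.1, fun s hs => ?_⟩
  obtain ⟨y, hy, hq⟩ := S.exists_small (S.qsum s)
  have hc := S.card_symmDiff_add s y
  have hq' : S.qsum (s ∆ y) = 0 := by rw [S.qsum_symmDiff, hq, S.two]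
  have he : Even (s ∆ y).card := by
    rcases hy with e | e
    · exact ⟨3 - (s ∩ y).card, by omega⟩
    · exact ⟨4 - (s ∩ y).card, by omega⟩
  have hne : s ∆ y ≠ ∅ := fun e => by
    rw [← Finset.bot_eq_empty, symmDiff_eq_bot] at e; subst e; omega
  have h8 : (s ∆ y).card = 8 := by
    by_contra h
    refine hne (S.qsum_min he ?_ hq')
    obtain ⟨k, hk⟩ := he
    omega
  have hint : s ∩ y = ∅ := Finset.card_eq_zero.1 (by omega)
  refine ⟨s ∆ y, ⟨⟨h8, hq'⟩, fun x hx => Finset.mem_symmDiff.2 (Or.inl ⟨hx, fun hxy => ?_⟩)⟩, ?_⟩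
  · have : x ∈ s ∩ y := Finset.mem_inter.2 ⟨hx, hxy⟩
    rw [hint] at this; exact Finset.notMem_empty _ this
  rintro b ⟨⟨hb, hbq⟩, hsb⟩
  have hs' : s ⊆ b ∩ (s ∆ y) := fun x hx => Finset.mem_inter.2 ⟨hsb hx, Finset.mem_symmDiff.2
    (Or.inl ⟨hx, fun hxy => Finset.notMem_empty x (hint ▸ Finset.mem_inter.2 ⟨hx, hxy⟩)⟩)⟩
  have := Finset.card_le_card hs'
  have hc' := S.card_symmDiff_add b (s ∆ y)
  refine symmDiff_eq_bot.1 (S.qsum_min (y := b ∆ (s ∆ y)) ?_ (by omega) (by
    rw [S.qsum_symmDiff, hbq, hq', S.two]))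
  exact ⟨8 - (b ∩ (s ∆ y)).card, by omega⟩

end CfsgLib.FischerTwoFour.Cocode.Sys
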