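import Mathlib
import Cfsg.Agent.Lib.FischerTwoFour.Cocode.Points
import Cfsg.Agent.Lib.Steiner.WittUnique
import Cfsg.Agent.Lib.Golay.M24Group

/-!
The pairs from 24 points with a code: automorphisms preserving `Nc` are permutations in `M24`.
-/

set_option autoImplicit false
set_option linter.unusedSectionVars false

namespace CfsgLib.FischerTwoFour.Cocode.Sys

open scoped Pointwise
open Cfsg

variable {A : Type*} [AddCommGroup A] [Fintype A] [DecidableEq A] (S : Sys A)

include S

/-- Every element is a sum of members of `Nc`. -/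
theorem hom_ext {B : Type*} [AddCommGroup B] {f g : A →+ B} (h : ∀ u ∈ S.Nc, f u = g u) : f = g := by
  refine AddMonoidHom.ext fun β => ?_
  obtain ⟨y, -, rfl⟩ := S.exists_small β
  simp only [qsum, map_sum]
  refine Finset.sum_congr rfl fun K _ => ?_
  by_cases e : S.base = K
  · rw [← e, S.meet_self, map_zero, map_zero]
  · exact h _ (S.meet_Nc e)

/-- A sum over an even set does not depend on the base. -/
theorem qsum_eq (y : Finset S.Pt) (hy : Even y.card) (B : S.Pt) : ∑ K ∈ y, S.meet B K = S.qsum y := by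
  have : ∀ K, S.meet B K = S.meet S.base B + S.meet S.base K := fun K => (S.meet_add _ _ _).symm
  rw [Finset.sum_congr rfl fun K _ => this K, Finset.sum_add_distrib, Finset.sum_const, qsum]
  obtain ⟨k, hk⟩ := hy
  rw [hk, ← two_mul, mul_nsmul', two_nsmul, S.two, zero_add]

section equivariance

variable (g : A ≃+ A) (hg : ∀ u, g u ∈ S.Nc ↔ u ∈ S.Nc)

include hg

theorem map_pts {K : Finset A} (hK : K ∈ S.pts) : K.image g ∈ S.pts := by
  obtain ⟨hn, hc, ha⟩ := S.mem_pts.1 hK
  refine S.mem_pts.2 ⟨?_, ?_, ?_⟩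
  · intro u hu
    obtain ⟨x, hx, rfl⟩ := Finset.mem_image.1 hu
    exact (hg x).2 (hn x hx)
  · rw [Finset.card_image_of_injective _ g.injective, hc]
  · intro u hu v hv hne
    obtain ⟨x, hx, rfl⟩ := Finset.mem_image.1 hu
    obtain ⟨y, hy, rfl⟩ := Finset.mem_image.1 hv
    rw [← map_add, hg]
    exact ha x hx y hy fun e => hne (by rw [e])

/-- The permutation of the points. -/
noncomputable def permPt : Equiv.Perm S.Pt :=
  Equiv.ofBijective (fun K => ⟨K.1.image g, S.map_pts g hg K.2⟩) (Finite.injective_iff_bijective.1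
    fun K L h => Subtype.ext (Finset.image_injective g.injective (congrArg Subtype.val h)))

theorem meet_perm (K L : S.Pt) : S.meet (S.permPt g hg K) (S.permPt g hg L) = g (S.meet K L) := by
  by_cases h : K = L
  · subst h; rw [S.meet_self, S.meet_self, map_zero]
  · exact S.meet_eq (fun e => h ((S.permPt g hg).injective e))
      (Finset.mem_image_of_mem g (S.meet_mem h).1) (Finset.mem_image_of_mem g (S.meet_mem h).2)

theorem qsum_perm {y : Finset S.Pt} (hy : Even y.card) :
    S.qsum (y.image (S.permPt g hg)) = g (S.qsum y) := by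
  rw [← S.qsum_eq (y.image (S.permPt g hg))
    (by rwa [Finset.card_image_of_injective _ (S.permPt g hg).injective]) (S.permPt g hg S.base),
    Finset.sum_image (S.permPt g hg).injective.injOn, qsum, map_sum]
  exact Finset.sum_congr rfl fun K _ => S.meet_perm g hg _ K

end equivariance

/-- The labelling by pairs from the 24 coordinates. -/
theorem exists_labelling : ∃ p : GolayPt → GolayPt → A,
    (∀ i, p i i = 0) ∧ (∀ i j, p i j = p j i) ∧ (∀ i j, i ≠ j → p i j ∈ S.Nc) ∧
    (∀ u ∈ S.Nc, ∃ i j, i ≠ j ∧ p i j = u) ∧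
    (∀ i j k l, i ≠ j → k ≠ l → p i j = p k l → (k = i ∧ l = j) ∨ (k = j ∧ l = i)) ∧
    ∀ g : A ≃+ A, (∀ u, g u ∈ S.Nc ↔ u ∈ S.Nc) →
      ∃ σ ∈ M24, ∀ i j, g (p i j) = p (σ i) (σ j) := by
  classical
  obtain ⟨e, he⟩ := CfsgLib.Steiner.Witt.iso_octads S.card_Pt S.steiner
  refine ⟨fun i j => S.meet (e.symm i) (e.symm j), fun i => S.meet_self _, fun i j => S.meet_comm _ _,
    fun i j h => S.meet_Nc fun h' => h (e.symm.injective h'), ?_, ?_, ?_⟩
  · intro u hu
    obtain ⟨K, L, h, rfl⟩ := S.exists_pair hu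
    exact ⟨e K, e L, fun h' => h (e.injective h'), by simp⟩
  · intro i j k l h h' hp
    exact (S.pair_unique (fun x => h (e.symm.injective x)) (fun x => h' (e.symm.injective x)) hp).imp
      (fun x => ⟨e.symm.injective x.1, e.symm.injective x.2⟩)
      (fun x => ⟨e.symm.injective x.1, e.symm.injective x.2⟩)
  intro g hg
  set π := S.permPt g hg with hπ
  refine ⟨e.symm.trans (π.trans e), ?_, fun i j => ?_⟩
  · rw [CfsgLib.Golay.M24_eq_setSystemAut_octads]
    refine (MulAction.mem_stabilizer_set' CfsgLib.Golay.octads_finite).2 fun o ho => ?_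
    rw [← he] at ho ⊢
    obtain ⟨y, ⟨hy8, hyq⟩, rfl⟩ := ho
    refine ⟨y.image π, ⟨by rw [Finset.card_image_of_injective _ π.injective, hy8], ?_⟩, ?_⟩
    · rw [S.qsum_perm g hg (by rw [hy8]; exact ⟨4, rfl⟩), hyq, map_zero]
    · rw [Finset.smul_finset_def]
      simp only [Finset.image_image]
      refine Finset.image_congr fun x _ => ?_
      simp [Equiv.Perm.smul_def]
  · simp only [Equiv.trans_apply, Equiv.symm_apply_apply]
    exact (S.meet_perm g hg _ _).symm

end CfsgLib.FischerTwoFour.Cocode.Sys
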