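import Cfsg.Agent.Lib.FischerTwoFour.Split

/-!
`R` and its translate under `ξ` generate `C(s, s₁) ∩ Q`; elements of `W ∩ M` fix that group modulo `A₃`.
-/

set_option autoImplicit false
set_option linter.unusedSectionVars false

namespace CfsgLib.FischerTwoFour

open Subgroup

variable {G : Type*} [Group G] [Finite G] {z : G}

namespace Pt

variable {Y : Sys z} (P : Pt Y)

include P

theorem big_DM : Big (P.D ⊓ Y.M) :=
  Big.inf ⟨P.π, P.π_surj, P.π_ker⟩ (fun _ hc => Y.sq_M hc.1) (fun c hc m hm => Y.normM c hc.1 m hm)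

theorem sh_sh_R {r : G} (hr : r ∈ P.R) (hsr : Y.sh r ∈ P.R) : Y.sh (Y.sh r) ∈ P.R := by
  rw [show Y.sh (Y.sh r) = (r * Y.sh r)⁻¹ * Y.Φ r by rw [Sys.Φ]; group]
  exact mul_mem (inv_mem (mul_mem hr hsr)) (P.inZ_R (Y.Φ_inZ hr.1))

/-- An element of `R` with translate in `R` lies in `A₃`. -/
theorem sh_R_inter {r : G} (hr : r ∈ P.R) (hsr : Y.sh r ∈ P.R) : r ∈ P.A3 := by
  set J : Subgroup G := P.R ⊓ P.R.comap (MulAut.conj Y.ξ).toMonoidHom with hJ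
  have hAJ : P.A3 ≤ J := fun x hx => ⟨P.A3_le hx, P.A3_le (P.sh_A3 hx)⟩
  have h := P.irreducible J hAJ (inf_le_left.trans P.R_le_Sg)
    (fun a ha => ⟨ha.2, P.sh_sh_R ha.1 ha.2⟩) P.big_DM le_rfl (fun c hc a ha => by
      refine ⟨P.D_norm_R hc.1 ha.1, ?_⟩
      show Y.sh (c * a * c⁻¹) ∈ P.R
      obtain ⟨e, he, h⟩ := P.conj_sh hc.1.1 (Y.xiC c hc.2) ha.1.1
      have h2 := mul_mem (inv_mem (P.inZ_R he)) (P.D_norm_R hc.1 (show Y.sh a ∈ P.R from ha.2))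
      rwa [h, inv_mul_cancel_left] at h2)
  have h128 : Nat.card J ≤ 128 := (card_le_of_le (inf_le_left : J ≤ P.R)).trans P.R_card.le
  have hJA : P.A3 = J := eq_of_le_of_card_ge hAJ (by rw [P.card_A3]; omega)
  rw [hJA]
  exact ⟨hr, hsr⟩

theorem sh_Sg {x : G} (hx : x ∈ P.R) : Y.sh x ∈ P.Sg := by
  refine ⟨⟨Y.sh_mem hx.1, mem_centralizer_singleton_iff.2 ?_⟩,
    mem_centralizer_singleton_iff.2 (Y.sh_comm (P.R_comm hx P.s_mem))⟩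
  have h := Y.sh_comm (P.R_comm hx (P.A3_le (P.sh_A3 P.s1_A3)))
  rwa [show Y.sh (Y.sh P.s1) = P.s from Y.sh_three P.s] at h

theorem Sg_gen : P.Sg = P.R ⊔ P.R.map (MulAut.conj Y.ξ).toMonoidHom := by
  set S : Subgroup G := P.R.map (MulAut.conj Y.ξ).toMonoidHom
  have hle : P.R ⊔ S ≤ P.Sg := sup_le P.R_le_Sg (by rintro _ ⟨x, hx, rfl⟩; exact P.sh_Sg hx)
  refine (eq_of_le_of_card_ge hle ?_).symm
  have h := card_sup_mul_inf P.R S fun a ha b hb => by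
    obtain ⟨x, hx, rfl⟩ := hb
    obtain ⟨e, he, h⟩ := Y.comm' ha.1 (Y.sh_mem hx.1 : MulAut.conj Y.ξ x ∈ Y.Qg)
    show a * MulAut.conj Y.ξ x * a⁻¹ ∈ S
    rw [show a * MulAut.conj Y.ξ x = e * (MulAut.conj Y.ξ x * a) from h,
      show e * (MulAut.conj Y.ξ x * a) * a⁻¹ = e * MulAut.conj Y.ξ x by group]
    exact mul_mem ⟨e, P.inZ_R he, Y.sh_inZ he⟩ ⟨x, hx, rfl⟩
  have hi : Nat.card ↥(P.R ⊓ S) ≤ 8 := by
    refine le_trans (card_le_of_le (fun a ha => ?_)) P.card_A3.le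
    obtain ⟨x, hx, e⟩ := ha.2
    have e' : Y.sh x = a := e
    rw [← e']
    exact P.sh_A3 (P.sh_R_inter hx (e' ▸ ha.1))
  rw [card_map_of_injective (MulAut.conj Y.ξ).injective, P.R_card] at h
  rw [P.card_Sg]
  have := Nat.mul_le_mul_left (Nat.card ↥(P.R ⊔ S)) hi
  omega

theorem A3_comm {x y : G} (hx : x ∈ P.Sg) (hy : y ∈ P.A3) : x * y = y * x := by
  have h : P.A3 ≤ centralizer ({x} : Set G) := by
    refine sup_le (sup_le (zpowers_le.2 ?_) (zpowers_le.2 ?_)) (zpowers_le.2 ?_) <;>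
      rw [mem_centralizer_singleton_iff]
    · exact (Y.zcomm (Y.le_cen hx.1.1) (Or.inr rfl)).symm
    · exact (mem_centralizer_singleton_iff.1 hx.1.2).symm
    · exact (mem_centralizer_singleton_iff.1 hx.2).symm
  exact (mem_centralizer_singleton_iff.1 (h hy)).symm

/-- Elements of `W ∩ M` fix `C(s, s₁) ∩ Q` modulo `A₃`. -/
theorem mod_A3 {a : G} (ha : a ∈ P.W) (haM : a ∈ Y.M) {q : G} (hq : q ∈ P.Sg) :
    a * q * a⁻¹ * q⁻¹ ∈ P.A3 := by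
  let H : Subgroup G :=
    { carrier := {q | q ∈ P.Sg ∧ a * q * a⁻¹ * q⁻¹ ∈ P.A3}
      one_mem' := ⟨one_mem _, by simp⟩
      mul_mem' := fun {u v} hu hv => ⟨mul_mem hu.1 hv.1, by
        rw [show a * (u * v) * a⁻¹ * (u * v)⁻¹ =
          a * u * a⁻¹ * u⁻¹ * (u * (a * v * a⁻¹ * v⁻¹)) * u⁻¹ by group, P.A3_comm hu.1 hv.2,
          show a * u * a⁻¹ * u⁻¹ * (a * v * a⁻¹ * v⁻¹ * u) * u⁻¹ =
            a * u * a⁻¹ * u⁻¹ * (a * v * a⁻¹ * v⁻¹) by group]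
        exact mul_mem hu.2 hv.2⟩
      inv_mem' := fun {u} hu => ⟨inv_mem hu.1, by
        rw [show a * u⁻¹ * a⁻¹ * u⁻¹⁻¹ = u⁻¹ * ((a * u * a⁻¹ * u⁻¹)⁻¹ * u) by group,
          ← P.A3_comm hu.1 (inv_mem hu.2), inv_mul_cancel_left]
        exact inv_mem hu.2⟩ }
  have hxs : ∀ r ∈ P.R, ∃ x ∈ P.A3, (x = 1 ∨ x = P.s) ∧ a * r * a⁻¹ = x * r := fun r hr => by
    rcases P.W_R ha hr with h | h
    · exact ⟨1, one_mem _, Or.inl rfl, by rw [h, one_mul]⟩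
    · exact ⟨P.s, P.s_A3, Or.inr rfl, h⟩
  have hR : P.R ≤ H := fun r hr => by
    obtain ⟨x, hx, -, h⟩ := hxs r hr
    exact ⟨P.R_le_Sg hr, by rw [h, mul_inv_cancel_right]; exact hx⟩
  have hS : P.R.map (MulAut.conj Y.ξ).toMonoidHom ≤ H := by
    rintro _ ⟨r, hr, rfl⟩
    obtain ⟨x, hx, -, h⟩ := hxs r hr
    refine ⟨P.sh_Sg hr, ?_⟩
    obtain ⟨e, he, h'⟩ := P.conj_sh ha.2 (Y.xiC a haM) hr.1
    show a * Y.sh r * a⁻¹ * (Y.sh r)⁻¹ ∈ P.A3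
    rw [h', h, Y.sh_mul, show e * (Y.sh x * Y.sh r) * (Y.sh r)⁻¹ = e * Y.sh x by group]
    exact mul_mem (P.inZ_A3 he) (P.sh_A3 hx)
  exact ((sup_le hR hS) (P.Sg_gen ▸ hq)).2

end Pt

end CfsgLib.FischerTwoFour
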