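import Cfsg.Agent.Lib.FischerTwoFour.Cocode.Coset
import Cfsg.Agent.Lib.FischerTwoFour.Cocode.Pair

/-!
A conjugate `s ∈ B` of `z`: the meet of `A` with the extraspecial group at `s` is a conjugate of `B`,
and comparing its 36 elements outside the class of `z` with the cosets it meets fixes their types.
-/

set_option autoImplicit false
set_option linter.unusedSectionVars false

namespace CfsgLib.FischerTwoFour.Cocode

open Subgroup
open Four hiding mul_one one_mul mul_assoc mul_comm mul_zero zero_mul mul_add add_mul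

variable {G : Type*} [Group G] [Finite G] {z : G} {Y : CfsgLib.FischerTwoFour.Sys z}

namespace AData

variable (D : AData Y) (P : Pt Y) (hs : P.s ∈ D.Bg)

include D P hs

theorem A_le_D : D.A ≤ P.D := fun _ ha =>
  ⟨D.A_cen ha, mem_centralizer_singleton_iff.2 (D.A_comm ha hs.1)⟩

theorem A3_Bg : P.A3 ≤ D.Bg :=
  sup_le (sup_le (zpowers_le.2 (D.inZ_Bg (Or.inr rfl))) (zpowers_le.2 hs)) (zpowers_le.2 (D.sh_Bg hs))

theorem W_M {a : G} (ha : a ∈ D.A ⊓ P.Qs) : a ∈ P.W ∧ a ∈ Y.M := ⟨⟨ha.2, D.A_cen ha.1⟩, D.A_le ha.1⟩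

theorem exists_move : ∃ h : G, h * z * h⁻¹ = P.s ∧ D.A.map (MulAut.conj h).toMonoidHom = D.A ∧
    Y.Qg.map (MulAut.conj h).toMonoidHom = P.Qs := by
  classical
  haveI := Fact.mk Nat.prime_two
  set C : Subgroup G := centralizer ({z} : Set G)
  set A' : Subgroup G := D.A.map (MulAut.conj P.g⁻¹).toMonoidHom with hA'
  have hA : IsPGroup 2 D.A := IsPGroup.of_card (n := 11) (by rw [D.A_card]; norm_num)
  have hA'C : A' ≤ C := by
    rintro _ ⟨a, ha, rfl⟩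
    refine mem_centralizer_singleton_iff.2 ?_
    show P.g⁻¹ * a * P.g⁻¹⁻¹ * z = z * (P.g⁻¹ * a * P.g⁻¹⁻¹)
    calc P.g⁻¹ * a * P.g⁻¹⁻¹ * z = P.g⁻¹ * (a * (P.g * z * P.g⁻¹)) * P.g := by group
      _ = P.g⁻¹ * (P.g * z * P.g⁻¹ * a) * P.g := by rw [P.hg, D.A_comm ha hs.1]
      _ = z * (P.g⁻¹ * a * P.g⁻¹⁻¹) := by group
  obtain ⟨T, hT⟩ := (hA.comap_subtype (K := C)).exists_le_sylow
  obtain ⟨T', hT'⟩ := ((hA.map (MulAut.conj P.g⁻¹).toMonoidHom).comap_subtype (K := C)).exists_le_sylow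
  obtain ⟨c, hc⟩ := MulAction.exists_smul_eq C T' T
  have e := D.A_unique ((T : Subgroup C).map C.subtype) (A'.map (MulAut.conj (c : G)).toMonoidHom)
    (map_subtype_le _) (T.2.map _) (fun a ha => ⟨⟨a, D.A_cen ha⟩, hT ha, rfl⟩)
    (by
      rintro _ ⟨x, hx, rfl⟩
      have hm : MulAut.conj c • (⟨x, hA'C hx⟩ : C) ∈ (T : Subgroup C) := by
        rw [← hc, Sylow.coe_subgroup_smul]
        exact smul_mem_pointwise_smul _ _ _ (hT' hx)
      exact ⟨_, hm, rfl⟩)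
    (by
      rintro _ ⟨x, ⟨a, ha, rfl⟩, rfl⟩
      rw [← map_mul, ← map_mul, D.A_sq a ha, map_one, map_one])
    (by rw [card_map_of_injective (MulAut.conj (c : G)).injective,
      card_map_of_injective (MulAut.conj P.g⁻¹).injective, D.A_card])
  refine ⟨P.g * (c : G)⁻¹, ?_, ?_, ?_⟩
  · rw [show P.g * (c : G)⁻¹ * z * (P.g * (c : G)⁻¹)⁻¹ = P.g * ((c : G)⁻¹ * z * (c : G)) * P.g⁻¹ by group,
      Y.zcomm (inv_mem c.2) (Or.inr rfl), inv_mul_cancel_right, P.hg]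
  · refine eq_of_le_of_card_ge ?_ (by rw [card_map_of_injective (MulAut.conj _).injective])
    rintro _ ⟨a, ha, rfl⟩
    rw [← e] at ha
    obtain ⟨_, ⟨a', ha', rfl⟩, rfl⟩ := ha
    show P.g * (c : G)⁻¹ * ((c : G) * (P.g⁻¹ * a' * P.g⁻¹⁻¹) * (c : G)⁻¹) * (P.g * (c : G)⁻¹)⁻¹ ∈ D.A
    rw [show P.g * (c : G)⁻¹ * ((c : G) * (P.g⁻¹ * a' * P.g⁻¹⁻¹) * (c : G)⁻¹) * (P.g * (c : G)⁻¹)⁻¹ = a' by
      group]
    exact ha'
  · refine eq_of_le_of_card_ge ?_ ?_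
    · rintro _ ⟨q, hq, rfl⟩
      refine P.mem_Qs.2 ?_
      show P.g⁻¹ * (P.g * (c : G)⁻¹ * q * (P.g * (c : G)⁻¹)⁻¹) * P.g ∈ Y.Qg
      rw [show P.g⁻¹ * (P.g * (c : G)⁻¹ * q * (P.g * (c : G)⁻¹)⁻¹) * P.g = (c : G)⁻¹ * q * (c : G)⁻¹⁻¹ by group]
      exact Y.normQ _ (inv_mem c.2) q hq
    · rw [Pt.Qs, card_map_of_injective (MulAut.conj _).injective,
        card_map_of_injective (MulAut.conj _).injective]

/-- `A ∩ Qˢ` in codes. -/
theorem AQ_codes : ∃ h : G, h * z * h⁻¹ = P.s ∧ Nat.card ↥(D.A ⊓ P.Qs) = 128 ∧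
    ∀ x, x ∈ D.A ⊓ P.Qs ↔ ∃ c, c < 128 ∧ h * D.phi c * h⁻¹ = x := by
  obtain ⟨h, h1, h2, h3⟩ := D.exists_move P hs
  have e : D.Bg.map (MulAut.conj h).toMonoidHom = D.A ⊓ P.Qs := by
    rw [Bg, map_inf _ _ _ (MulAut.conj h).injective, h2, h3]
  refine ⟨h, h1, by rw [← e, card_map_of_injective (MulAut.conj h).injective, D.card_Bg], fun x => ?_⟩
  rw [← e]
  constructor
  · rintro ⟨b, hb, rfl⟩
    obtain ⟨c, hc, rfl⟩ := D.exists_code hb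
    exact ⟨c, hc, rfl⟩
  · rintro ⟨c, hc, rfl⟩
    exact ⟨_, D.phi_mem c, rfl⟩

theorem co_A3 {x : G} (hx : x ∈ P.A3) : D.co x = 0 ∨ D.co x = D.co P.s ∨ D.co x = D.co P.s1 ∨
    D.co x = D.co P.s + D.co P.s1 := by
  have hsplit : ∀ {x t : G}, x ∈ Y.Qg → t ∈ Y.Qg → D.co x = D.co (x * t) + D.co t := fun {x t} hx ht => by
    rw [D.co_mul x hx t ht, add_assoc, vec_add_self, add_zero]
  have hzs : ∀ {x}, x ∈ P.Zs → D.co x = 0 ∨ D.co x = D.co P.s := fun {x} hx => by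
    rcases P.mem_Zs.1 hx with h | h
    · exact Or.inl (D.co_inZ h)
    · exact Or.inr (by rw [hsplit (P.Zs_le hx).1 P.sQ, D.co_inZ h, zero_add])
  rcases P.mem_A3.1 hx with h | h
  · exact (hzs h).imp_right Or.inl
  · rw [hsplit (P.A3_le hx).1 P.s1Q]
    rcases hzs h with e | e <;> rw [e]
    · exact Or.inr (Or.inr (Or.inl (zero_add _)))
    · exact Or.inr (Or.inr (Or.inr rfl))

/-- The maps met by `A ∩ Qˢ` pass the radical test. -/
theorem radOK_of {r : ℕ} {ys : List ℕ} (hr : r < 64) (hco : D.co P.s = vecOf (bwC D.b r))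
    (hys : ∀ y ∈ ys, y < 4096 ∧ btC y (bwC D.b r) = false ∧ btC y (omC (bwC D.b r)) = false)
    {a : G} (ha : a ∈ D.A ⊓ P.Qs) {m : ℕ} (hm : m < 16) (hact : D.Acts a m) :
    radOK D.b r ys m = true := by
  have hco1 : D.co P.s1 = vecOf (omC (bwC D.b r)) := by
    rw [Pt.s1, D.co_sh _ P.sQ, hco, omV_vecOf (bwC_lt _ _)]
  have h1 : Nat.beq (RC D.b m (bwC D.b r)) (bwC D.b r) = true := by
    have h := hact P.s P.sQ
    rw [D.A_comm ha.1 hs.1, mul_inv_cancel_right, hco, D.Rf_code hm (bwC_lt _ _)] at h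
    rw [← vecOf_inj (bwC_lt _ _) (RC_lt hm _) h]
    exact Nat.beq_refl _
  have h2 : ∀ y ∈ ys, (let d := Nat.xor (RC D.b m y) y
      Nat.beq d 0 || Nat.beq d (bwC D.b r) || Nat.beq d (omC (bwC D.b r)) ||
        Nat.beq d (Nat.xor (bwC D.b r) (omC (bwC D.b r)))) = true := fun y hy => by
    obtain ⟨hy', hb1, hb2⟩ := hys y hy
    obtain ⟨q, hq, hcq⟩ := D.co_surj (vecOf y)
    have hqS : q ∈ P.Sg := by
      refine ⟨⟨hq, mem_centralizer_singleton_iff.2 ((D.co_comm q hq _ P.sQ).2 ?_)⟩,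
        mem_centralizer_singleton_iff.2 ((D.co_comm q hq _ P.s1Q).2 ?_)⟩
      · rw [hcq, hco, btV_vecOf, hb1]; rfl
      · rw [hcq, hco1, btV_vecOf, hb2]; rfl
    obtain ⟨hW, hM⟩ := D.W_M P hs ha
    have hA3 := P.mod_A3 hW hM hqS
    have hd : D.co (a * q * a⁻¹ * q⁻¹) = vecOf (Nat.xor (RC D.b m y) y) := by
      rw [D.co_mul _ (Y.normQ a (D.A_cen ha.1) q hq) _ (inv_mem hq), D.co_inv hq, hact q hq, hcq,
        D.Rf_code hm hy', vecOf_xor]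
    have hlt : Nat.xor (RC D.b m y) y < 4096 := xor_lt' (k := 12) (RC_lt hm y) hy'
    simp only [Bool.or_eq_true]
    rcases D.co_A3 P hs hA3 with e | e | e | e <;> rw [hd] at e
    · rw [← vecOf_zero] at e
      rw [vecOf_inj hlt (by norm_num) e]; simp
    · rw [hco] at e
      rw [vecOf_inj hlt (bwC_lt _ _) e]; simp
    · rw [hco1] at e
      rw [vecOf_inj hlt (omC_lt _) e]; simp
    · rw [hco, hco1, ← vecOf_xor] at e
      rw [vecOf_inj hlt (xor_lt' (k := 12) (bwC_lt _ _) (omC_lt _)) e]; simp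
  simp only [radOK, Bool.and_eq_true, List.all_eq_true]
  exact ⟨h1, h2⟩

/-- The representatives of the maps met lie in `A ∩ Qˢ`. -/
theorem rep_mem_of {a : G} (ha : a ∈ D.A ⊓ P.Qs) {m : ℕ} (hm : m < 16) (hact : D.Acts a m) :
    D.rep m ∈ D.A ⊓ P.Qs ∧ D.rep m * a ∈ D.Bg ⊓ P.Qs := by
  obtain ⟨hρA, hρact, hρsh, -⟩ := D.rep_spec hm
  set ρ := D.rep m
  have hρξ : ρ * Y.ξ = Y.ξ * ρ := by
    calc ρ * Y.ξ = Y.sh ρ * Y.ξ := by rw [hρsh]
      _ = Y.ξ * ρ := by simp [CfsgLib.FischerTwoFour.Sys.sh]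
  obtain ⟨hW, -⟩ := D.W_M P hs ha
  have key : ∀ r ∈ P.R, ρ * r * ρ⁻¹ = a * r * a⁻¹ := fun r hr => by
    have hq1 : ρ * r * ρ⁻¹ ∈ Y.Qg := Y.normQ ρ (D.A_cen hρA) r hr.1
    have hq2 : a * r * a⁻¹ ∈ Y.Qg := Y.normQ a (D.A_cen ha.1) r hr.1
    obtain ⟨e, he, heq⟩ := D.co_eq hq1 hq2 (by rw [hρact r hr.1, hact r hr.1])
    have hΦ := Y.Φ_conj hρξ (D.A_cen hρA) hr.1
    have hΦ2 : Y.Φ (a * r * a⁻¹) = Y.Φ r := by
      rcases P.W_R hW hr with h | h <;> rw [h]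
      rw [P.R_comm P.s_mem hr, P.Φ_mul_s hr]
    rcases he with he | he <;> rw [he] at heq
    · rw [heq, one_mul]
    · exfalso
      rw [heq, ← Y.zcomm (Y.le_cen hq2) (Or.inr rfl), P.Φ_mul_z hq2, hΦ2] at hΦ
      exact Y.z1 (mul_eq_left.1 hΦ)
  have hb : ρ * a ∈ D.Bg := D.acts_eq hρA ha.1 hm hρact hact
  have hbR : ρ * a ∈ P.R := by
    refine P.mem_of_centralizes inf_le_left P.R_card (fun c hc d hd => P.R_comm hc hd) hb.2 fun r hr => ?_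
    refine mul_inv_eq_iff_eq_mul.1 ?_
    rw [D.A_comm hρA ha.1]
    calc a * ρ * r * (a * ρ)⁻¹ = a * (ρ * r * ρ⁻¹) * a⁻¹ := by group
      _ = a * a * r * (a * a)⁻¹ := by rw [key r hr]; group
      _ = r := by rw [D.A_sq a ha.1]; group
  refine ⟨⟨hρA, ?_⟩, hb, hbR.2⟩
  have h := mul_mem hbR.2 ha.2
  rwa [mul_assoc, D.A_sq a ha.1, mul_one] at h

theorem Bg_R_eq : D.Bg ⊓ P.Qs = D.Bg ⊓ P.R :=
  le_antisymm (fun _ hx => ⟨hx.1, hx.1.2, hx.2⟩) (fun _ hx => ⟨hx.1, hx.2.2⟩)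

/-- `B ∩ R` has at most 32 elements, and 32 only if it is not invariant under `ξ`. -/
theorem card_BR : Nat.card ↥(D.Bg ⊓ P.Qs) ≤ 32 ∧
    (Nat.card ↥(D.Bg ⊓ P.Qs) = 32 → ∃ x ∈ D.Bg ⊓ P.Qs, Y.sh x ∉ D.Bg ⊓ P.Qs) := by
  set S := D.Bg ⊓ P.Qs with hS
  set S' := S.map (MulAut.conj Y.ξ).toMonoidHom
  have hS'B : S' ≤ D.Bg := by rintro _ ⟨x, hx, rfl⟩; exact D.sh_Bg hx.1
  have hin : ∀ x ∈ S, Y.sh x ∈ S → x ∈ P.A3 := fun x hx hx' =>
    P.sh_R_inter ⟨hx.1.2, hx.2⟩ ⟨hx'.1.2, hx'.2⟩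
  have hi : Nat.card ↥(S ⊓ S') ≤ 8 := by
    refine le_trans (card_le_of_le (fun a ha => ?_)) P.card_A3.le
    obtain ⟨x, hx, e⟩ := ha.2
    have e' : Y.sh x = a := e
    rw [← e']
    exact P.sh_A3 (hin x hx (e' ▸ ha.1))
  have h := card_sup_mul_inf S S' fun a ha b hb => by
    rw [D.A_comm ha.1.1 (hS'B hb).1, mul_inv_cancel_right]; exact hb
  rw [card_map_of_injective (MulAut.conj Y.ξ).injective] at h
  have h128 : Nat.card ↥(S ⊔ S') ≤ 128 := (card_le_of_le (sup_le inf_le_left hS'B)).trans D.card_Bg.le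
  have h' : Nat.card S * Nat.card S ≤ 1024 := h ▸ Nat.mul_le_mul h128 hi
  refine ⟨by nlinarith, fun h32 => ?_⟩
  by_contra hcon
  push Not at hcon
  have h8 : Nat.card S ≤ Nat.card P.A3 := card_le_of_le fun x hx => hin x hx (hcon x hx)
  rw [P.card_A3] at h8
  omega

end AData

end CfsgLib.FischerTwoFour.Cocode
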