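import Cfsg.Agent.Lib.FischerTwoFour.Cocode.Elem

/-!
`A` is self-centralising and controls the fusion of its elements: conjugates of `A` in a subgroup of
`C(z)` containing `A` are conjugate to `A` there.
-/

set_option autoImplicit false
set_option linter.unusedSectionVars false
set_option linter.style.haveILetI false

namespace CfsgLib.FischerTwoFour.Cocode

open Subgroup
open Four hiding mul_one one_mul mul_assoc mul_comm mul_zero zero_mul mul_add add_mul

variable {G : Type*} [Group G] [Finite G] {z : G} {Y : CfsgLib.FischerTwoFour.Sys z}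

namespace AData

variable (D : AData Y)

include D

theorem z_mem_A : z ∈ D.A := (D.inZ_Bg (Or.inr rfl)).1

theorem isPGroup_A : IsPGroup 2 D.A := IsPGroup.of_card (n := 11) (by rw [D.A_card]; norm_num)

theorem exists_conj_A (H : Subgroup G) (hH : H ≤ centralizer ({z} : Set G)) (hAH : D.A ≤ H) (A' : Subgroup G)
    (hA'H : A' ≤ H) (hsq : ∀ a ∈ A', a * a = 1) (hcard : Nat.card A' = 2048) :
    ∃ d ∈ H, A'.map (MulAut.conj d).toMonoidHom = D.A := by
  haveI := Fact.mk Nat.prime_two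
  have hA' : IsPGroup 2 A' := IsPGroup.of_card (n := 11) (by rw [hcard]; norm_num)
  obtain ⟨T, hT⟩ := (D.isPGroup_A.comap_subtype (K := H)).exists_le_sylow
  obtain ⟨T', hT'⟩ := (hA'.comap_subtype (K := H)).exists_le_sylow
  obtain ⟨c, hc⟩ := MulAction.exists_smul_eq H T' T
  refine ⟨c, c.2, D.A_unique ((T : Subgroup H).map H.subtype) _ ((map_subtype_le _).trans hH) (T.2.map _)
    (fun a ha => ⟨⟨a, hAH ha⟩, hT ha, rfl⟩) ?_ ?_ ?_⟩
  · rintro _ ⟨x, hx, rfl⟩
    have hm : MulAut.conj c • (⟨x, hA'H hx⟩ : H) ∈ (T : Subgroup H) := by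
      rw [← hc, Sylow.coe_subgroup_smul]
      exact smul_mem_pointwise_smul _ _ _ (hT' hx)
    exact ⟨_, hm, rfl⟩
  · rintro _ ⟨a, ha, rfl⟩
    rw [← map_mul, hsq a ha, map_one]
  · rw [card_map_of_injective (MulAut.conj (c : G)).injective, hcard]

theorem conj_A_sq (g : G) : ∀ a ∈ D.A.map (MulAut.conj g).toMonoidHom, a * a = 1 := by
  rintro _ ⟨a, ha, rfl⟩
  rw [← map_mul, D.A_sq a ha, map_one]

theorem conj_A_card (g : G) : Nat.card ↥(D.A.map (MulAut.conj g).toMonoidHom) = 2048 := by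
  rw [card_map_of_injective (MulAut.conj g).injective, D.A_card]

/-- Moving between two points with one normal subgroup `A`: conjugation can be chosen normalising `A`. -/
theorem exists_norm {g : G} (H : Subgroup G) (hH : H ≤ centralizer ({z} : Set G)) (hAH : D.A ≤ H)
    (hgH : ∀ a ∈ D.A, g⁻¹ * a * g ∈ H) :
    ∃ d ∈ H, ∀ a ∈ D.A, g * d⁻¹ * a * (g * d⁻¹)⁻¹ ∈ D.A := by
  obtain ⟨d, hd, e⟩ := D.exists_conj_A H hH hAH (D.A.map (MulAut.conj g⁻¹).toMonoidHom)
    (by
      rintro _ ⟨a, ha, rfl⟩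
      show g⁻¹ * a * g⁻¹⁻¹ ∈ H
      rw [inv_inv]
      exact hgH a ha)
    (D.conj_A_sq _) (D.conj_A_card _)
  refine ⟨d, hd, fun a ha => ?_⟩
  rw [← e] at ha
  obtain ⟨_, ⟨a', ha', rfl⟩, rfl⟩ := ha
  show g * d⁻¹ * (d * (g⁻¹ * a' * g⁻¹⁻¹) * d⁻¹) * (g * d⁻¹)⁻¹ ∈ D.A
  rwa [show g * d⁻¹ * (d * (g⁻¹ * a' * g⁻¹⁻¹) * d⁻¹) * (g * d⁻¹)⁻¹ = a' by group]

theorem mem_normalizer_A {m : G} (h : ∀ a ∈ D.A, m * a * m⁻¹ ∈ D.A) : m ∈ normalizer (D.A : Set G) := by
  have e : D.A.map (MulAut.conj m).toMonoidHom = D.A := eq_of_le_of_card_ge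
    (by rintro _ ⟨a, ha, rfl⟩; exact h a ha) (by rw [D.conj_A_card, D.A_card])
  refine mem_normalizer_iff.2 fun a => ⟨h a, fun ha => ?_⟩
  have ha' : m * a * m⁻¹ ∈ D.A.map (MulAut.conj m).toMonoidHom := by rw [e]; exact ha
  obtain ⟨x, hx, hxe⟩ := ha'
  rwa [← (MulAut.conj m).injective hxe]

/-- An element normalising `A` carries `z` to a given conjugate of `z` in `A`. -/
theorem exists_norm_z {a : G} (ha : a ∈ D.A) (hc : IsConj z a) :
    ∃ m ∈ normalizer (D.A : Set G), m * z * m⁻¹ = a := by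
  obtain ⟨g, hg⟩ := isConj_iff.1 hc
  obtain ⟨d, hd, h⟩ := D.exists_norm (g := g) (centralizer ({z} : Set G)) le_rfl D.A_cen fun x hx => by
    refine mem_centralizer_singleton_iff.2 ?_
    calc g⁻¹ * x * g * z = g⁻¹ * (x * (g * z * g⁻¹)) * g := by group
      _ = g⁻¹ * ((g * z * g⁻¹) * x) * g := by rw [hg, D.A_comm hx ha]
      _ = z * (g⁻¹ * x * g) := by group
  refine ⟨_, D.mem_normalizer_A h, ?_⟩
  rw [show g * d⁻¹ * z * (g * d⁻¹)⁻¹ = g * (d⁻¹ * z * d) * g⁻¹ by group,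
    Y.zcomm (inv_mem hd) (Or.inr rfl), inv_mul_cancel_right, hg]

theorem Bg_centralizes {q : G} (hq : q ∈ Y.Qg) (hc : ∀ a ∈ D.Bg, q * a = a * q) : q ∈ D.Bg := by
  by_contra hqA
  have hlt : D.Bg < D.Bg ⊔ zpowers q := lt_of_le_of_ne le_sup_left fun e =>
    hqA (e ▸ mem_sup_right (mem_zpowers q))
  have hab : ∀ a ∈ D.Bg ⊔ zpowers q, ∀ b ∈ D.Bg ⊔ zpowers q, a * b = b * a := by
    have h1 : D.Bg ⊔ zpowers q ≤ centralizer ((D.Bg : Set G) ∪ {q}) := by
      refine sup_le (fun a ha => mem_centralizer_iff.2 ?_) (zpowers_le.2 (mem_centralizer_iff.2 ?_))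
      · rintro b (hb | rfl)
        · exact D.A_comm hb.1 ha.1
        · exact hc a ha
      · rintro b (hb | rfl)
        · exact (hc b hb).symm
        · rfl
    intro a ha b hb
    have h2 : D.Bg ⊔ zpowers q ≤ centralizer ({a} : Set G) := by
      have ha' := mem_centralizer_iff.1 (h1 ha)
      exact sup_le (fun x hx => mem_centralizer_singleton_iff.2 (ha' x (Or.inl hx)))
        (zpowers_le.2 (mem_centralizer_singleton_iff.2 (ha' q (Or.inr rfl))))
    exact (mem_centralizer_singleton_iff.1 (h2 hb)).symm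
  have h := Y.abel _ (sup_le inf_le_right (zpowers_le.2 hq)) hab
  exact absurd (eq_of_le_of_card_ge hlt.le (by rw [D.card_Bg]; exact h)) hlt.ne

/-- `A` is its own centraliser. -/
theorem cen_A {c : G} (hc : ∀ a ∈ D.A, c * a = a * c) : c ∈ D.A := by
  have hz : c ∈ centralizer ({z} : Set G) := mem_centralizer_singleton_iff.2 (hc z D.z_mem_A)
  obtain ⟨a, ha, hac⟩ := D.A_full c hz fun q hq hf => by
    rw [hc q ((D.A_Q q hq).2 hf), mul_inv_cancel_right]
  have hB : a * c ∈ D.Bg := D.Bg_centralizes hac fun b hb => by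
    calc a * c * b = a * (b * c) := by rw [mul_assoc, hc b hb.1]
      _ = b * (a * c) := by rw [← mul_assoc, D.A_comm ha hb.1, mul_assoc]
  simpa using mul_mem (inv_mem ha) hB.1

end AData

end CfsgLib.FischerTwoFour.Cocode
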