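import Cfsg.Agent.Lib.FischerTwoFour.Cocode.FrameExists
import Cfsg.Agent.Lib.FischerTwoFour.Cocode.Norm
import Cfsg.Agent.Lib.FischerTwoFour.Cocode.Main

/-!
The elements of `A` outside the class of `z` are the pairs of 24 points with a code: the normaliser of
`A` acts through `M24`.
-/

set_option autoImplicit false
set_option linter.unusedSectionVars false
set_option linter.style.haveILetI false

namespace CfsgLib.FischerTwoFour.Cocode

open Subgroup
open Four hiding mul_one one_mul mul_assoc mul_comm mul_zero zero_mul mul_add add_mul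

variable {G : Type*} [Group G] [Finite G] {z : G} {Y : CfsgLib.FischerTwoFour.Sys z}

namespace AData

/-- The elements of `A` outside the class of `z`. -/
def NcG (D : AData Y) : Set G := {x | x ∈ D.A ∧ x ≠ 1 ∧ ¬ IsConj z x}

variable (D : AData Y) (hpt : HasPts Y)

include D

theorem norm_conj {m : G} (hm : m ∈ normalizer (D.A : Set G)) {x : G} (hx : x ∈ D.A) :
    m * x * m⁻¹ ∈ D.A := (mem_normalizer_iff.1 hm x).1 hx

theorem norm_NcG {m : G} (hm : m ∈ normalizer (D.A : Set G)) {x : G} :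
    m * x * m⁻¹ ∈ D.NcG ↔ x ∈ D.NcG := by
  refine and_congr ((mem_normalizer_iff.1 hm x).symm) (and_congr (not_congr ?_) (not_congr ?_))
  · exact conj_eq_one_iff
  · exact isConj_conj_iff m x

theorem eq_or_conj {x : G} (hx : x ∈ D.A) (hx1 : x ≠ 1) : x ∈ D.NcG ∨ IsConj z x := by
  by_cases h : IsConj z x
  · exact Or.inr h
  · exact Or.inl ⟨hx, hx1, h⟩

include hpt

/-- The system of local models, with the tetrad property at `z`. -/
theorem exists_pairs : ∃ p : Cfsg.GolayPt → Cfsg.GolayPt → G,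
    (∀ i, p i i = 1) ∧ (∀ i j, p i j = p j i) ∧ (∀ i j, i ≠ j → p i j ∈ D.NcG) ∧
    (∀ u ∈ D.NcG, ∃ i j, i ≠ j ∧ p i j = u) ∧
    (∀ i j k l, i ≠ j → k ≠ l → p i j = p k l → (k = i ∧ l = j) ∨ (k = j ∧ l = i)) ∧
    (∀ m ∈ normalizer (D.A : Set G), ∃ σ ∈ Cfsg.M24, ∀ i j, m * p i j * m⁻¹ = p (σ i) (σ j)) ∧
    (∀ m ∈ normalizer (D.A : Set G), (∀ u ∈ D.NcG, m * u * m⁻¹ = u) → m ∈ D.A) ∧
    D.NcG.ncard = 276 ∧
    (∀ u ∈ D.NcG, ∃ z' ∈ D.A, IsConj z z' ∧ z' * u ∈ D.NcG) ∧
    (∀ u ∈ D.NcG, z * u ∈ D.NcG → u ∈ D.Bg) ∧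
    36 ≤ {u : G | u ∈ D.NcG ∧ z * u ∈ D.NcG}.ncard := by
  classical
  haveI := Fintype.ofFinite G
  letI : CommGroup D.A :=
    { (inferInstance : Group D.A) with mul_comm := fun a c => Subtype.ext (D.A_comm a.2 c.2) }
  obtain ⟨W, hW0, hWA, hWsep, hWnc⟩ := D.exists_frame hpt
  let inc : Additive D.A → G := fun a => ((Additive.toMul a : D.A) : G)
  have inc_add : ∀ a c, inc (a + c) = inc a * inc c := fun a c => rfl
  have inc_inj : Function.Injective inc := fun a c h => Additive.toMul.injective (Subtype.ext h)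
  have inc_one : ∀ a, inc a = 1 ↔ a = 0 := fun a =>
    ⟨fun h => inc_inj (h.trans rfl), fun h => by rw [h]; rfl⟩
  let Nc : Set (Additive D.A) := {a | inc a ∈ D.NcG}
  let mk : ∀ x, x ∈ D.A → Additive D.A := fun x hx => Additive.ofMul ⟨x, hx⟩
  have hfr : ∀ m, m ∈ normalizer (D.A : Set G) → ∀ z' : Additive D.A, m * z * m⁻¹ = inc z' →
      ∃ F : Frame Nc z', ∀ c, inc (F.W 0 + F.φ c) = m * D.phi c * m⁻¹ := by
    intro m hm z' hz'
    let Wm : ℕ → Additive D.A := fun k => if hk : k < 16 then mk _ (D.norm_conj hm (hWA k hk)) else 0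
    have hWm : ∀ k, k < 16 → inc (Wm k) = m * W k * m⁻¹ := fun k hk => by
      show inc (dite _ _ _) = _
      rw [dif_pos hk]; rfl
    refine ⟨
      { φ := fun c => mk _ (D.norm_conj hm (D.phi_mem c).1)
        φ_xor := fun a c _ _ => inc_inj (by
          show m * D.phi (Nat.xor a c) * m⁻¹ = m * D.phi a * m⁻¹ * (m * D.phi c * m⁻¹)
          rw [← D.phi_mul]; group)
        φ_inj := fun a c ha hc h => D.phi_inj ha hc (mul_left_cancel (mul_right_cancel (congrArg inc h)))
        φ_z := inc_inj (by show m * D.phi 64 * m⁻¹ = inc z'; rw [D.phi_z, hz'])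
        W := Wm
        W_zero := inc_inj (by
          rw [hWm 0 (by norm_num), hW0]
          show m * 1 * m⁻¹ = 1
          group)
        W_sep := fun k l a hk hl ha h => by
          refine hWsep k l a hk hl ha (mul_left_cancel (a := m) (mul_right_cancel (b := m⁻¹) ?_))
          have h' : m * W k * m⁻¹ * (m * W l * m⁻¹) = m * D.phi a * m⁻¹ := by
            rw [← hWm k hk, ← hWm l hl, ← inc_add]; exact congrArg inc h
          rw [← h']; group
        nc_iff := fun x => ?_ }, fun c => ?_⟩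
    · obtain ⟨x, hx⟩ := x
      show x ∈ D.NcG ↔ _
      obtain ⟨y, rfl⟩ : ∃ y, m * y * m⁻¹ = x := ⟨m⁻¹ * x * m, by group⟩
      have hy : y ∈ D.A := (mem_normalizer_iff.1 hm y).2 hx
      rw [D.norm_NcG hm, show y ∈ D.NcG ↔ (y ≠ 1 ∧ ¬ IsConj z y) from and_iff_right hy, hWnc y hy]
      refine exists_congr fun n => and_congr_right fun hn => ?_
      constructor
      · intro e
        refine inc_inj ?_
        rw [inc_add, hWm _ (cd_lt hn).2.1]
        show m * W (cs n) * m⁻¹ * (m * D.phi (cd n) * m⁻¹) = m * y * m⁻¹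
        rw [← e]; group
      · intro e
        refine mul_left_cancel (a := m) (mul_right_cancel (b := m⁻¹) ?_)
        have h' : m * W (cs n) * m⁻¹ * (m * D.phi (cd n) * m⁻¹) = m * y * m⁻¹ := by
          rw [← hWm _ (cd_lt hn).2.1]; exact congrArg inc e
        rw [← h']; group
    · show inc (Wm 0) * (m * D.phi c * m⁻¹) = _
      rw [hWm 0 (by norm_num), hW0]; group
  let zA : Additive D.A := mk z D.z_mem_A
  have hzNc : zA ∉ Nc := fun h => h.2.2 (IsConj.refl z)
  let S : Sys (Additive D.A) :=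
    { Nc := Nc
      two := fun a => inc_inj (by rw [inc_add]; exact D.A_sq _ (Additive.toMul a).2)
      card := (Nat.card_congr Additive.toMul).trans D.A_card
      nonempty := ⟨zA, fun h => Y.z1 ((inc_one zA).2 h), hzNc⟩
      frame := fun a ha ha' => by
        have h1 : inc a ≠ 1 := fun h => ha ((inc_one a).1 h)
        obtain ⟨m, hm, hmz⟩ := D.exists_norm_z (Additive.toMul a).2
          ((D.eq_or_conj (Additive.toMul a).2 h1).resolve_left ha')
        exact ⟨(hfr m hm a hmz).choose⟩ }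
  obtain ⟨p, hdiag, hsym, hNc, hsurj, huniq, hequiv⟩ := S.exists_labelling
  have hgm : ∀ m, m ∈ normalizer (D.A : Set G) → ∃ g : Additive D.A ≃+ Additive D.A,
      ∀ a, inc (g a) = m * inc a * m⁻¹ := by
    intro m hm
    refine ⟨
      { toFun := fun a => mk _ (D.norm_conj hm (Additive.toMul a).2)
        invFun := fun a => mk _ (D.norm_conj (inv_mem hm) (Additive.toMul a).2)
        left_inv := fun a => inc_inj (by show m⁻¹ * (m * inc a * m⁻¹) * m⁻¹⁻¹ = inc a; group)
        right_inv := fun a => inc_inj (by show m * (m⁻¹ * inc a * m⁻¹⁻¹) * m⁻¹ = inc a; group)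
        map_add' := fun a c => inc_inj (by
          show m * (inc a * inc c) * m⁻¹ = m * inc a * m⁻¹ * (m * inc c * m⁻¹); group) }, fun a => rfl⟩
  refine ⟨fun i j => inc (p i j), fun i => (inc_one _).2 (hdiag i), fun i j => congrArg inc (hsym i j), fun i j h => hNc i j h,
    fun u hu => ?_, fun i j k l h h' e => huniq i j k l h h' (inc_inj e), fun m hm => ?_,
    fun m hm h => ?_, ?_, fun u hu => ?_, fun u hu hzu => ?_, ?_⟩
  · obtain ⟨i, j, h, e⟩ := hsurj (mk u hu.1) hu
    exact ⟨i, j, h, congrArg inc e⟩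
  · obtain ⟨g, hg⟩ := hgm m hm
    obtain ⟨σ, hσ, hσp⟩ := hequiv g fun u => by
      show inc (g u) ∈ D.NcG ↔ inc u ∈ D.NcG
      rw [hg]; exact D.norm_NcG hm
    exact ⟨σ, hσ, fun i j => by rw [← hg, hσp]⟩
  · refine D.cen_A fun a ha => ?_
    obtain ⟨g, hg⟩ := hgm m hm
    have e : g.toAddMonoidHom = AddMonoidHom.id _ := S.hom_ext fun u hu => inc_inj (by
      show inc (g u) = inc u
      rw [hg]; exact h _ hu)
    refine mul_inv_eq_iff_eq_mul.1 ?_
    exact ((hg (mk a ha)).symm.trans (congrArg inc (DFunLike.congr_fun e (mk a ha))))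
  · have hbij : Set.BijOn inc Nc D.NcG :=
      ⟨fun a ha => ha, inc_inj.injOn, fun u hu => ⟨mk u hu.1, hu, rfl⟩⟩
    rw [← hbij.image_eq, Set.ncard_image_of_injective _ inc_inj]
    exact S.ncard_Nc
  · obtain ⟨a, F, n, hn, e⟩ := S.exists_tet_frame (u := mk u hu.1) hu
    have ha0 : a ≠ 0 := fun h0 => by
      have h := F.φ_inj 64 0 (by norm_num) (by norm_num) (by rw [F.φ_z, F.φ_zero S.two, h0])
      omega
    obtain ⟨k, hk, hke, -⟩ := F.tet_shift S.two hn
    have hzu : a + F.val n ∈ Nc := hke ▸ F.val_mem (by omega)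
    have haN : a ∉ Nc := fun haN => by
      obtain ⟨l, hl, hle⟩ := F.exists_label haN
      have h' : F.W (cs l) + F.φ (cd l) = F.W 0 + F.φ 64 := by
        rw [F.W_zero, zero_add, F.φ_z]; exact hle
      obtain ⟨h1, h2⟩ := F.sep_iff S.two (cd_lt hl).2.1 (by norm_num) (cd_lt hl).1 (by norm_num) h'
      have h36 := cs_zero.1 h1
      have hs := List.all_eq_true.1 shift.1 l (List.mem_range.2 h36)
      rw [h2, Nat.beq_refl, Bool.not_true, Bool.and_false] at hs
      exact Bool.noConfusion hs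
    refine ⟨inc a, (Additive.toMul a).2, (D.eq_or_conj (Additive.toMul a).2 fun h => ha0 ((inc_one a).1 h)).resolve_left haN, ?_⟩
    rw [e] at hzu
    exact hzu
  · obtain ⟨F, hF⟩ := hfr 1 (one_mem _) zA (by show 1 * z * 1⁻¹ = z; group)
    obtain ⟨n, hn, e⟩ := F.exists_tet S.two (u := mk u hu.1) hu (by show z * u ∈ D.NcG; exact hzu)
    have e' : inc (F.val n) = u := congrArg inc e
    rw [Frame.val, cs_zero.2 hn, hF] at e'
    rw [← e', one_mul, inv_one, mul_one]
    exact D.phi_mem _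
  · obtain ⟨F, hF⟩ := hfr 1 (one_mem _) zA (by show 1 * z * 1⁻¹ = z; group)
    have hcard : ((Finset.range 36).image fun n => inc (F.val n)).card = 36 := by
      rw [Finset.card_image_of_injOn, Finset.card_range]
      intro a ha c hc h
      rw [Finset.mem_coe, Finset.mem_range] at ha hc
      exact F.val_inj S.two (by omega) (by omega) (inc_inj h)
    rw [← hcard, ← Set.ncard_coe_finset]
    refine Set.ncard_le_ncard ?_ (Set.toFinite _)
    intro x hx
    rw [Finset.mem_coe, Finset.mem_image] at hx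
    obtain ⟨n, hn, rfl⟩ := hx
    rw [Finset.mem_range] at hn
    obtain ⟨k, hk, hke, -⟩ := F.tet_shift S.two hn
    exact ⟨F.val_mem (by omega), by
      have h : inc (F.val k) ∈ D.NcG := F.val_mem (by omega)
      rw [hke] at h
      exact h⟩

end AData

end CfsgLib.FischerTwoFour.Cocode
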